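import Cfsg.Agent.Mrg.Omega.HTwo.AlphaOne
import Cfsg.Agent.Mrg.Omega.BTwo.RadQ
import Cfsg.Agent.Mrg.Omega.HOneTwo.Basic
import Cfsg.Agent.Mrg.Omega.HTwo.TComp
import Cfsg.Agent.Mrg.Omega.HOne.PairP
import Cfsg.Agent.Mrg.Omega.HOne.QuadAbs

section


/-!
# II.0h1, `q = 2`, case (α) for the small group `M' = ⟨C_{H₁}(z), X⟩` (#15368, helper481)

`MP V R o z = (N(R o) ∩ C(z)) ⊔ X`.

* `lemX`, `lemX_false` : LEMMA X;
* `alpha_two` : (2) of #14489 for every `M ≥ N(R o) ∩ C(z)`, `X`;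
* `four'` : (2), (3) of #15368;
* `not_alpha'` : `⟨V^{M'}⟩` is not contained in `Q o`.
-/

set_option autoImplicit false
set_option linter.unusedSectionVars false

namespace Cfsg.Agent.Omega.HTwo.AlphaP

open Subgroup Cfsg Cfsg.Agent.MinSimple.VModule Cfsg.Agent.Omega.BTwo
open Cfsg.Agent.Omega.HOneTwo Cfsg.Agent.Omega.HTwo.ThmA Cfsg.Agent.Omega.HTwo.Par
open Cfsg.Agent.Omega.HTwo.Hat Cfsg.Agent.Omega.HTwo.TComp Cfsg.Agent.Omega.MinPar
open Cfsg.Agent.ZN (zc o2 le_normalizer_o2)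
open Cfsg.Agent.Omega.HTwo.AlphaFive (mem_C natC_two r_ne r_mem r_sq mem_N_iff cj_V_le exists_h exists_mv cl_le_zc natC_cj)
open Cfsg.Agent.Omega.HTwo.AlphaOne (exists_cj_S comm_mem_R ZQ_swap ZQ_not_RC)

universe u

section X

variable {G : Type*} [Group G] [Finite G] {ι : Type*} {V : Subgroup G} {R : ι → Subgroup G}

/-- **LEMMA X** (#15368) -/
theorem lemX (b : BTS V R) (h : ∀ i, LE V R i) {i j : ι} (hij : i ≠ j) {r : G} (hr : ∀ x ∈ R i, x = 1 ∨ x = r)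
    {W : Subgroup G} (hWQ : W ≤ QQ (R i)) (hab : ∀ a ∈ W, ∀ c ∈ W, a * c = c * a)
    (hE : ∀ e ∈ EE V R j, ∀ x ∈ W, e * x * e⁻¹ ∈ W) {w : G} (hw : w ∈ W)
    (hwV : w ∉ centralizer (V : Set G)) {n : G} (hn : n ∈ ZQ R i) :
    ∃ u ∈ W, u ∈ ZQ R i ∧ u⁻¹ * n ∈ CC R := by
  have hwQ := hWQ hw
  -- `E i ≤ W J`
  have key : ∀ x ∈ EE V R i, ∃ u ∈ W, u⁻¹ * x ∈ CC R := by
    intro x hx
    obtain ⟨e, he, h1⟩ := EE_surj b (Ne.symm hij) hwQ hwV hx
    refine ⟨w * e * w⁻¹ * e⁻¹, ?_, h1⟩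
    have e1 : w * e * w⁻¹ * e⁻¹ = w * (e * w⁻¹ * e⁻¹) := by group
    rw [e1]
    exact mul_mem hw (hE e he _ (inv_mem hw))
  obtain ⟨u, hu, hc⟩ := key n (ZQ_le_EE b.toBT i hn)
  refine ⟨u, hu, ?_, hc⟩
  have hcQ : ∀ c ∈ CC R, c ∈ QQ (R i) := fun c hc => mem_iInf.1 hc i
  -- `u` commutes with `J`
  have huJ : ∀ c ∈ CC R, c * u = u * c := by
    intro c hc'
    have h1 : c * n = n * c := ZQ_comm hn (hcQ c hc')
    have h2 : c * (u⁻¹ * n) = u⁻¹ * n * c := C_comm_one b h hc' hc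
    have e : u = n * (u⁻¹ * n)⁻¹ := by group
    have h3 : c * (u⁻¹ * n)⁻¹ = (u⁻¹ * n)⁻¹ * c := by
      rw [eq_inv_mul_iff_mul_eq, ← mul_assoc, ← h2, mul_inv_cancel_right]
    calc c * u = c * (n * (u⁻¹ * n)⁻¹) := by rw [← e]
      _ = n * (c * (u⁻¹ * n)⁻¹) := by rw [← mul_assoc, h1, mul_assoc]
      _ = n * (u⁻¹ * n)⁻¹ * c := by rw [h3, ← mul_assoc]
      _ = u * c := by rw [← e]
  -- `E i` commutes with `u`
  have huE : ∀ x ∈ EE V R i, x * u = u * x := by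
    intro x hx
    obtain ⟨v, hv, hc'⟩ := key x hx
    have h1 := huJ _ hc'
    have h2 := hab v hv u hu
    calc x * u = v * (v⁻¹ * x * u) := by group
      _ = (v * u) * (v⁻¹ * x) := by rw [h1, mul_assoc]
      _ = u * x := by rw [h2]; group
  refine ⟨hWQ hu, mem_centralizer_iff.2 fun x hx => ?_⟩
  by_cases hxV : x ∈ centralizer (V : Set G)
  · exact huE x ⟨hx, hxV⟩
  · have h1 := ThmD.inv_mul_mem_cen b.toBT hr hwQ hwV hx hxV
    have h2 := huE (w⁻¹ * x) ⟨(QQ (R i)).mul_mem ((QQ (R i)).inv_mem hwQ) hx, h1⟩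
    have h3 := hab w hw u hu
    calc x * u = w * (w⁻¹ * x * u) := by group
      _ = (w * u) * (w⁻¹ * x) := by rw [h2, mul_assoc]
      _ = u * x := by rw [h3]; group

theorem lemX_false (b : BTS V R) (h : ∀ i, LE V R i) {i j : ι} (hij : i ≠ j) {r : G}
    (hr : ∀ x ∈ R i, x = 1 ∨ x = r)
    {W : Subgroup G} (hWQ : W ≤ QQ (R i)) (hab : ∀ a ∈ W, ∀ c ∈ W, a * c = c * a)
    (hE : ∀ e ∈ EE V R j, ∀ x ∈ W, e * x * e⁻¹ ∈ W) {w : G} (hw : w ∈ W)
    (hwV : w ∉ centralizer (V : Set G)) (hWZ : ∀ x ∈ W, x ∈ ZQ R i → x ∈ R i)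
    {z : G} (hz : z ∈ CenX V R) (hz1 : z ≠ 1) : False := by
  refine ZQ_not_RC b h hz hz1 i fun l hl => ?_
  obtain ⟨u, hu, huZ, hc⟩ := lemX b h hij hr hWQ hab hE hw hwV hl
  refine ZQ_Q b hij hl ?_
  have e : l = u * (u⁻¹ * l) := by group
  rw [e]
  exact mul_mem (b.V_Q j (b.R_le i (hWZ u hu huZ))) (mem_iInf.1 hc j)

/-- (2), (3) of #15368 -/
theorem four' (b : BTS V R) {o j : ι} (hj : j ≠ o) {r : G} (hr : ∀ x, x ∈ R o ↔ x = 1 ∨ x = r)
    {y : G} {W : Subgroup G} (hyy : y * y = 1) (hy : y ∈ ZQ R o) (hWQ : W ≤ QQ (R o))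
    (sq : ∀ x ∈ W, x * x = 1)
    (hn : ∀ c, c * y = y * c → c * r = r * c → ∀ x ∈ W, c * x * c⁻¹ ∈ W)
    (hpt : ∀ w ∈ W, w ≠ 1 → ∃ k, k * y = y * k ∧ k * r * k⁻¹ = w ∧ ∀ x ∈ W, k⁻¹ * x * k ∈ W)
    {w : G} (hw : w ∈ W) (hwV : w ∉ centralizer (V : Set G)) :
    (∃ a ∈ R o, a * y ∈ CenX V R) ∨
      ∃ w₁ ∈ W, ∃ c, c * (y * r) = y * r * c ∧ c * r * c⁻¹ * w₁ ≠ w₁ * (c * r * c⁻¹) := by
  have hwQ : w ∈ QQ (R o) := hWQ hw
  have hww : w * w = 1 := sq w hw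
  obtain ⟨k, hkj, hko, hk⟩ := movesQ b.toBT hj hwQ hwV
  have hk' : cj w (R k) = R j := by
    rw [← hk, ← cj_mul, hww, cj_one]
  obtain ⟨v, hv, ev⟩ := b.trans j (Ne.symm hj) hkj
  have hvv : v * v ∈ R j := b.W_sq j hv
  have hvX : v ∈ XX V R := W_le_X V R j hv
  have hvQ : v ∈ QQ (R j) := b.W_le_Q j hv
  have hvU : v ∉ UU V R j := by
    intro h
    have h1 : cj v (R o) = R o := cj_eq_self_iff.2 (b.cen_le_N o (UU_le_cen j h))
    exact hko (b.R_index (ev.symm.trans h1))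
  obtain ⟨y₃, hy₃⟩ : ∃ y₃, y₃ = v * y * v⁻¹ := ⟨_, rfl⟩
  have z3 : y₃ ∈ ZQ R k := by
    rw [hy₃, ← cj_ZQ b.toBT ev]
    exact conj_mem_cj hy
  obtain ⟨y₂, hy₂⟩ : ∃ y₂, y₂ = w * y₃ * w⁻¹ := ⟨_, rfl⟩
  have z2 : y₂ ∈ ZQ R j := by
    rw [hy₂, ← cj_ZQ b.toBT hk']
    exact conj_mem_cj z3
  have yV : y ∈ centralizer (V : Set G) := ZQ_le_cen b.toBT o hy
  have y3V : y₃ ∈ centralizer (V : Set G) := ZQ_le_cen b.toBT k z3
  by_cases h3j : y₃ ∈ QQ (R j)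
  · left
    obtain ⟨a, ha, h⟩ := ZQ_Q b hkj z3 h3j
    refine ⟨v⁻¹ * a * v, ?_, ?_⟩
    · rw [← ev, mem_cj] at ha
      exact ha
    · have h1 := conj_inv_mem_of_normalizer (b.NV_le_NCenX (b.X_le_NV hvX)) h
      have e : v⁻¹ * (a * y₃) * v = v⁻¹ * a * v * y := by rw [hy₃]; group
      rwa [e] at h1
  right
  -- the commutations
  have c13 : y * y₃ = y₃ * y := by
    rw [hy₃]
    exact Comm.comm_conj b (Ne.symm hj) (ZQ_le_cenW b.toBT o hy) hv hvU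
  have c23 : y₂ * y₃ = y₃ * y₂ := by
    rw [hy₂]
    exact (Alpha.comm_conj_Q b hko z3 hwQ hwV).symm
  have hy3sq : y₃ * y₃ = 1 := by
    rw [hy₃]
    calc v * y * v⁻¹ * (v * y * v⁻¹) = v * (y * y) * v⁻¹ := by group
      _ = 1 := by rw [hyy]; group
  have hrV : r ∈ V := b.R_le o ((hr r).2 (Or.inr rfl))
  have hyw : w * y = y * w := ZQ_comm hy hwQ
  have hp : y₂ * y₃ ∈ W := by
    have h1 : y₃ * w⁻¹ * y₃⁻¹ ∈ W :=
      hn y₃ c13.symm (mem_centralizer_iff.1 y3V r hrV).symm _ (inv_mem hw)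
    have h2 : y₃⁻¹ = y₃ := inv_eq_of_mul_eq_one_left hy3sq
    have e : y₂ * y₃ = w * (y₃ * w⁻¹ * y₃⁻¹) := by rw [hy₂, h2]; group
    rw [e]
    exact mul_mem hw h1
  have hp1 : y₂ * y₃ ≠ 1 := by
    intro h
    apply h3j
    have h1 : y₂ = y₃⁻¹ := eq_inv_of_mul_eq_one_left h
    rw [inv_eq_of_mul_eq_one_left hy3sq] at h1
    rw [← h1]
    exact ZQ_le j z2
  have hv3 : v * y₃ * v⁻¹ = y := by
    have h1 : v * v * y = y * (v * v) := (mem_centralizer_iff.1 yV _ (b.R_le j hvv))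
    calc v * y₃ * v⁻¹ = (v * v * y) * (v * v)⁻¹ := by rw [hy₃]; group
      _ = y := by rw [h1, mul_inv_cancel_right]
  have hv2 : v * y₂ * v⁻¹ = y₂ := by
    have h1 := ZQ_comm z2 hvQ
    rw [h1, mul_inv_cancel_right]
  obtain ⟨p, hpdef⟩ : ∃ p, p = y₂ * y₃ := ⟨_, rfl⟩
  have hvp : v * p * v⁻¹ = y₂ * y := by
    rw [hpdef]
    calc v * (y₂ * y₃) * v⁻¹ = (v * y₂ * v⁻¹) * (v * y₃ * v⁻¹) := by group
      _ = y₂ * y := by rw [hv2, hv3]
  have hyp : y * p = p * y := by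
    have h1 : p ∈ QQ (R o) := by rw [hpdef]; exact hWQ hp
    exact (ZQ_comm hy h1).symm
  have hvq : v * (y * p) = y * p * v := by
    have h1 : v * (y * p) * v⁻¹ = y * p := by
      calc v * (y * p) * v⁻¹ = (v * y * v⁻¹) * (v * p * v⁻¹) := by group
        _ = y₃ * (y₂ * y) := by rw [← hy₃, hvp]
        _ = (y₂ * y₃) * y := by rw [c23]; group
        _ = p * y := by rw [hpdef]
        _ = y * p := hyp.symm
    exact mul_inv_eq_iff_eq_mul.1 h1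
  -- `w` moves `y₂ y`
  have hwp' : w * (y₂ * y) * w⁻¹ ≠ y₂ * y := by
    intro h
    apply hp1
    have h1 : w * y₂ * w⁻¹ = y₃ := by
      rw [hy₂]
      calc w * (w * y₃ * w⁻¹) * w⁻¹ = (w * w) * y₃ * (w * w)⁻¹ := by group
        _ = y₃ := by rw [hww]; group
    have h4 : w * y * w⁻¹ = y := by rw [hyw, mul_inv_cancel_right]
    have h5 : w * (y₂ * y) * w⁻¹ = y₃ * y := by
      calc w * (y₂ * y) * w⁻¹ = (w * y₂ * w⁻¹) * (w * y * w⁻¹) := by group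
        _ = y₃ * y := by rw [h1, h4]
    rw [h5] at h
    have h6 := mul_right_cancel h
    rw [h6, ← h6, hy3sq]
  -- transport
  rw [← hpdef] at hp hp1
  obtain ⟨g, hgy, hgp, hgW⟩ := hpt p hp hp1
  refine ⟨g⁻¹ * w * g, hgW w hw, g⁻¹ * v * g, ?_, ?_⟩
  · have h1 : g * (y * r) * g⁻¹ = y * p := by
      calc g * (y * r) * g⁻¹ = (g * y) * r * g⁻¹ := by group
        _ = y * (g * r * g⁻¹) := by rw [hgy]; group
        _ = y * p := by rw [hgp]
    have h2 : y * r = g⁻¹ * (y * p) * g := by rw [← h1]; group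
    rw [h2]
    calc g⁻¹ * v * g * (g⁻¹ * (y * p) * g) = g⁻¹ * (v * (y * p)) * g := by group
      _ = g⁻¹ * (y * p * v) * g := by rw [hvq]
      _ = _ := by group
  · intro h
    apply hwp'
    have h1 : r = g⁻¹ * p * g := by rw [← hgp]; group
    have h2 : g⁻¹ * v * g * r * (g⁻¹ * v * g)⁻¹ = g⁻¹ * (y₂ * y) * g := by
      rw [h1, ← hvp]; group
    rw [h2] at h
    have e1 : g⁻¹ * (y₂ * y) * g * (g⁻¹ * w * g) = g⁻¹ * (y₂ * y * w) * g := by group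
    have e2 : g⁻¹ * w * g * (g⁻¹ * (y₂ * y) * g) = g⁻¹ * (w * (y₂ * y)) * g := by group
    rw [e1, e2] at h
    have h3 := mul_left_cancel (mul_right_cancel h)
    rw [← h3, mul_inv_cancel_right]

end X

section two

variable {G : Type u} [Group G] [Finite G] {ι : Type*} {S : Sylow 2 G} {P V : Subgroup G} {R : ι → Subgroup G} {o : ι}

/-- the small group `M' = ⟨N(R o) ∩ C(z), X⟩` -/
def MP (V : Subgroup G) (R : ι → Subgroup G) (o : ι) (z : G) : Subgroup G :=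
  (normalizer (R o : Set G) ⊓ centralizer ({z} : Set G)) ⊔ XX V R

variable (b : HT S P V R o)
include b

/-- **(2)** of #14489 for every `M ≥ N(R o) ∩ C(z)`, `X` -/
theorem alpha_two {M : Subgroup G} (h : ∀ i, LE V R i) {z : G}
    (hz : z ∈ zc (S : Subgroup G) ⊓ centralizer (P : Set G)) (hz1 : z ≠ 1)
    (hM : normalizer (R o : Set G) ⊓ centralizer ({z} : Set G) ≤ M)
    (hα : UM V M ≤ QQ (R o)) :
    ∃ a ∈ QQ (R o), ∃ c ∈ QQ (R o), a ∉ centralizer (UM V M : Set G) ∧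
      c ∉ centralizer (UM V M : Set G) ∧ a * c ∉ centralizer (UM V M : Set G) := by
  by_contra hcon
  push Not at hcon
  set U := UM V M with hU
  obtain ⟨k, hk, H⟩ := b.mt o
  obtain ⟨j, m, hj, hm, hjm⟩ := b.one_lt
  obtain ⟨-, v, hv, ev⟩ := H j m hj hm
  have hzz : z * z = 1 := by rw [← pow_two]; exact (mem_zc.1 hz.1).2.2
  have hzX : z ∈ CenX V R := b.cz_le hz
  have hzQ : z ∈ ZQ R o := cenX_le_ZQ b.toBTS h o hzX
  -- conjugate by `k⁻¹`
  have hk' : k⁻¹ ∈ normalizer (R o : Set G) := inv_mem hk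
  set z₁ := k⁻¹ * z * k with hz₁
  have hz₁Q : z₁ ∈ ZQ R o := conj_inv_mem_of_normalizer (N_le_NZQ o hk) hzQ
  have hz₁z₁ : z₁ * z₁ = 1 := by
    have : z₁ * z₁ = k⁻¹ * (z * z) * k := by rw [hz₁]; group
    rw [this, hzz, mul_one, inv_mul_cancel]
  set U₁ := cj k⁻¹ U with hU₁
  have hQk : cj k⁻¹ (QQ (R o)) = QQ (R o) := cj_eq_self_iff.2 (le_normalizer_O2 _ hk')
  have hU₁Q : U₁ ≤ QQ (R o) := by
    rw [← hQk]; exact cj_mono hα
  have hone : ∀ a ∈ QQ (R o), ∀ c ∈ QQ (R o), a ∉ centralizer (U₁ : Set G) → c ∉ centralizer (U₁ : Set G) →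
      a * c ∈ centralizer (U₁ : Set G) := by
    intro a ha c hc h1 h2
    rw [hU₁, centralizer_cj, mem_cj, inv_inv] at h1 h2 ⊢
    have h3 := hcon (k * a * k⁻¹) (conj_mem_of_normalizer (le_normalizer_O2 _ hk) ha) (k * c * k⁻¹)
      (conj_mem_of_normalizer (le_normalizer_O2 _ hk) hc) h1 h2
    have e : k * a * k⁻¹ * (k * c * k⁻¹) = k * (a * c) * k⁻¹ := by group
    rwa [e] at h3
  -- `N(R o) ∩ C(z₁)` normalises `U₁`
  have hMU : ∀ g ∈ normalizer (R o : Set G), g * z₁ = z₁ * g → g ∈ normalizer (U₁ : Set G) := by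
    intro g hgN hg
    rw [hU₁, normalizer_cj, mem_cj, inv_inv]
    apply le_normalizer_cl V M
    refine hM ⟨mul_mem (mul_mem hk hgN) hk', mem_C.2 ?_⟩
    calc k * g * k⁻¹ * z = k * (g * z₁) * k⁻¹ := by rw [hz₁]; group
      _ = k * (z₁ * g) * k⁻¹ := by rw [hg]
      _ = z * (k * g * k⁻¹) := by rw [hz₁]; group
  have hV₁ : cj k⁻¹ V ≤ U₁ := cj_mono (le_cl V M)
  -- `R j` does not centralise `U₁`
  obtain ⟨r₂, hr₂1, hr₂₂, hr₂⟩ := b.exists_gen j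
  have hr₂j : r₂ ∈ R j := (hr₂ _).2 (Or.inr rfl)
  have hv₁ : k⁻¹ * v * k ∈ U₁ := by
    have := hV₁ (conj_mem_cj (g := k⁻¹) hv)
    rwa [inv_inv] at this
  have hr₂U : r₂ ∉ centralizer (U₁ : Set G) := by
    intro hc
    have h1 := mem_centralizer_iff.1 hc _ hv₁
    have h2 : k⁻¹ * v * k * r₂ * (k⁻¹ * v * k)⁻¹ ∈ R m := by
      rw [← ev]; exact conj_mem_cj hr₂j
    rw [h1, mul_inv_cancel_right] at h2
    exact hr₂1 (b.eq_one hjm hr₂j h2)
  -- the group `B`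
  have hBN : ZQ R j ≤ normalizer (R o : Set G) := (ZQ_le_cen b.toBT j).trans (b.cen_le_N o)
  set B := ZQ R j ⊓ centralizer ({z₁} : Set G) with hB
  have hBp : IsPGroup 2 B := (O2_isPGroup _).to_le (inf_le_left.trans (ZQ_le j))
  have key : ∀ x ∈ B, ∃ a ∈ R j, a * x ∈ CenX V R := by
    -- a Sylow group
    set L := normalizer (R o : Set G) ⊓ centralizer ({z₁} : Set G) with hL
    have hSL : cj k⁻¹ (S : Subgroup G) ≤ L := by
      rintro _ ⟨s, hs, rfl⟩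
      change k⁻¹ * s * k⁻¹⁻¹ ∈ L
      rw [inv_inv]
      refine ⟨mul_mem (mul_mem hk' (b.S_R hs)) hk, mem_centralizer_singleton_iff.2 ?_⟩
      have h1 : s * z = z * s := (mem_zc.1 hz.1).2.1 s hs
      calc k⁻¹ * s * k * z₁ = k⁻¹ * (s * z) * k := by rw [hz₁]; group
        _ = k⁻¹ * (z * s) * k := by rw [h1]
        _ = _ := by rw [hz₁]; group
    have hSL' : ((k⁻¹ • S : Sylow 2 G) : Subgroup G) ≤ L := hSL
    obtain ⟨g, hg, hBg⟩ := exists_cj_S (k⁻¹ • S) hSL' (inf_le_inf_right _ hBN) hBp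
    set k' := g * k⁻¹ with hk'd
    have hk'N : k' ∈ normalizer (R o : Set G) := mul_mem hg.1 hk'
    have hBS : ∀ x ∈ B, ∃ s ∈ (S : Subgroup G), x = k' * s * k'⁻¹ := by
      intro x hx
      obtain ⟨y, hy, rfl⟩ := hBg hx
      obtain ⟨s, hs, rfl⟩ : ∃ s ∈ (S : Subgroup G), k⁻¹ * s * k⁻¹⁻¹ = y := hy
      refine ⟨s, hs, ?_⟩
      change g * (k⁻¹ * s * k⁻¹⁻¹) * g⁻¹ = _
      rw [hk'd]; group
    -- `V* = V^{k'} ≤ U₁`
    set a := k' * r₂ * k'⁻¹ with ha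
    have haU : a ∈ U₁ := by
      have h1 := conj_mem_of_normalizer (hMU g hg.1 (mem_centralizer_singleton_iff.1 hg.2))
        (hV₁ (conj_mem_cj (g := k⁻¹) (b.R_le j hr₂j)))
      have e : a = g * (k⁻¹ * r₂ * k⁻¹⁻¹) * g⁻¹ := by rw [ha, hk'd]; group
      rw [e]; exact h1
    -- an element of `Q o` moving `a`
    obtain ⟨w, hw, ew⟩ := b.trans o hj hm
    have hwQ := b.W_le_Q o hw
    set q := k' * w * k'⁻¹ with hq
    have hqQ : q ∈ QQ (R o) := conj_mem_of_normalizer (le_normalizer_O2 _ hk'N) hwQ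
    have hqa : q * a * q⁻¹ ≠ a := by
      intro h1
      have e : q * a * q⁻¹ = k' * (w * r₂ * w⁻¹) * k'⁻¹ := by rw [hq, ha]; group
      rw [e, ha] at h1
      have h2 : w * r₂ * w⁻¹ = r₂ := mul_left_cancel (mul_right_cancel h1)
      have h3 : w * r₂ * w⁻¹ ∈ R m := by rw [← ew]; exact conj_mem_cj hr₂j
      rw [h2] at h3
      exact hr₂1 (b.eq_one hjm hr₂j h3)
    have hqU : q ∉ centralizer (U₁ : Set G) := by
      intro hc
      apply hqa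
      rw [← mem_centralizer_iff.1 hc a haU, mul_inv_cancel_right]
    have hr₂Q : r₂ ∈ QQ (R o) := b.V_Q o (b.R_le j hr₂j)
    have h1 := hone r₂ hr₂Q q hqQ hr₂U hqU
    have hra : ¬ r₂ * a = a * r₂ := by
      intro h2
      apply hqa
      have h3 := mem_centralizer_iff.1 h1 a haU
      -- `a (r₂ q) = r₂ q a`
      have h4 : r₂ * (a * q) = r₂ * (q * a) := by
        rw [← mul_assoc, h2, mul_assoc, h3, mul_assoc]
      have h5 := mul_left_cancel h4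
      rw [← h5, mul_inv_cancel_right]
    -- `a` maps `R j` to `R m`
    have haQ : a ∈ QQ (R o) := hU₁Q haU
    have haV : a ∈ normalizer (V : Set G) := b.Q_le_NV o haQ
    obtain ⟨l, hl⟩ := b.perm a haV j
    have hlj : l ≠ j := by
      rintro rfl
      apply hra
      have h2 : a * r₂ * a⁻¹ ∈ R l := by rw [← hl]; exact conj_mem_cj hr₂j
      have h3 : a * r₂ * a⁻¹ ≠ 1 := fun h => hr₂1 (conj_eq_one_iff.1 h)
      have h4 := eq_of_card_two (b.card_R l) hr₂j hr₂1 h2 h3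
      rw [mul_inv_eq_iff_eq_mul] at h4
      exact h4.symm
    have hlo : l ≠ o := by
      rintro rfl
      exact hj (b.R_index (cj_injective (hl.trans (cj_eq_self_iff.2 (b.Q_le l haQ)).symm)))
    intro x hx
    obtain ⟨s, hs, ex⟩ := hBS x hx
    -- `[x, a] ∈ R o`
    have h2 : x * a * x⁻¹ * a⁻¹ ∈ R o := by
      have h3 := conj_mem_of_normalizer hk'N (comm_mem_R b (b.S_V hs) (b.S_R hs) (b.R_le j hr₂j))
      have e : x * a * x⁻¹ * a⁻¹ = k' * (s * r₂ * s⁻¹ * r₂⁻¹) * k'⁻¹ := by rw [ex, ha]; group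
      rw [e]; exact h3
    have h3 : x ∈ QQ (R l) := by
      have h4 : a * x * a⁻¹ ∈ QQ (R l) := by
        have h5 : a * x * a⁻¹ ∈ ZQ R l := by
          rw [← cj_ZQ b.toBT hl]; exact conj_mem_cj hx.1
        exact ZQ_le l h5
      have e : x = (x * a * x⁻¹ * a⁻¹) * (a * x * a⁻¹) := by group
      rw [e]
      exact mul_mem (b.V_Q l (b.R_le o h2)) h4
    exact ZQ_Q b.toBTS (Ne.symm hlj) hx.1 h3
  -- `z₁^σ ∈ B`
  obtain ⟨σ, hσ, eσ⟩ := b.trans m (Ne.symm hm) hjm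
  have hσQ := b.W_le_Q m hσ
  have hσV : σ ∈ normalizer (V : Set G) := b.Q_le_NV m hσQ
  have h1 := ZQ_swap b.toBTS h (Ne.symm hj) hσQ eσ hz₁Q hz₁z₁
  have h2 : σ * z₁ * σ⁻¹ ∈ B := by
    refine ⟨?_, ?_⟩
    · rw [← cj_ZQ b.toBT eσ]; exact conj_mem_cj hz₁Q
    · exact mem_centralizer_singleton_iff.2 h1.symm
  obtain ⟨a, ha, h3⟩ := key _ h2
  -- `z₁ ∈ R o C_X`
  have h4 : σ⁻¹ * a * σ ∈ R o := by
    rw [← eσ] at ha
    exact mem_cj.1 ha
  have h5 : σ⁻¹ * a * σ * z₁ ∈ CenX V R := by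
    have h6 := conj_inv_mem_of_normalizer (b.NV_le_NCenX hσV) h3
    have e : σ⁻¹ * (a * (σ * z₁ * σ⁻¹)) * σ = σ⁻¹ * a * σ * z₁ := by group
    rwa [e] at h6
  -- `Z(Q j)` centralises `z₁`
  have h6 : ZQ R j ≤ B := by
    intro x hx
    refine ⟨hx, mem_centralizer_singleton_iff.2 ?_⟩
    have h7 : σ⁻¹ * a * σ * x = x * (σ⁻¹ * a * σ) := mem_centralizer_iff.1 (ZQ_le_cen b.toBT j hx) _ (b.R_le o h4)
    have h8 : σ⁻¹ * a * σ * z₁ * x = x * (σ⁻¹ * a * σ * z₁) := cenX_Q b.toBTS (h j) h5 (ZQ_le j hx)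
    have h9 : σ⁻¹ * a * σ * (z₁ * x) = σ⁻¹ * a * σ * (x * z₁) := by
      rw [← mul_assoc, h8, ← mul_assoc, ← h7, mul_assoc]
    exact (mul_left_cancel h9).symm
  exact ZQ_not_RC b.toBTS h hzX hz1 j fun l hl => key l (h6 hl)

variable {r : G} (hr : ∀ x, x ∈ R o ↔ x = 1 ∨ x = r)
include hr

/-- `MP ≤ C(z)` -/
theorem MP_le {z : G} (hz : z ∈ zc (S : Subgroup G) ⊓ centralizer (P : Set G)) (hz1 : z ≠ 1) :
    MP V R o z ≤ centralizer ({z} : Set G) := by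
  have _ := hr
  exact sup_le inf_le_right (b.dt hz hz1).X_M

/-- `[W, Q o] ≤ R o` forces `W ≤ Q o` -/
theorem le_Q_of_comm {W : Subgroup G} (hW : W ≤ normalizer (R o : Set G))
    (h : ∀ w ∈ W, ∀ q ∈ QQ (R o), w * q * w⁻¹ * q⁻¹ ∈ R o) : W ≤ QQ (R o) := by
  have _ := hr
  rw [← b.toBTS.K_eq o]
  exact fun w hw => ⟨hW hw, fun d hd => h w hw d (b.W_le_Q o hd)⟩

/-- elements of `V` are conjugate to `r` under `X` -/
theorem exists_conj_X {v : G} (hv : v ∈ V) (hv1 : v ≠ 1) : ∃ c ∈ XX V R, c * r * c⁻¹ = v := by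
  obtain ⟨j, hj⟩ := b.R_cov v hv
  obtain ⟨x, hx, e⟩ := b.trans_X_one o j
  refine ⟨x, hx, ?_⟩
  have h1 : x * r * x⁻¹ ∈ R j := by rw [← e]; exact conj_mem_cj (r_mem b hr)
  have h2 : x * r * x⁻¹ ≠ 1 := fun h => r_ne b hr (conj_eq_one_iff.1 h)
  exact eq_of_card_two (b.card_R j) hj hv1 h1 h2

/-- (4), (5), (6) of #15368 -/
theorem part_B (hLE : ∀ i, LE V R i) {z : G}
    (hz : z ∈ zc (S : Subgroup G) ⊓ centralizer (P : Set G)) (hz1 : z ≠ 1) {W U : Subgroup G}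
    (hW : NatC (MP V R o z) U W r) (hWQ : W ≤ QQ (R o)) (hVW : V ≤ W)
    {w₂ c₂ : G} (hw₂ : w₂ ∈ W) (hc₂ : c₂ * (z * r) = z * r * c₂)
    (hne : c₂ * r * c₂⁻¹ * w₂ ≠ w₂ * (c₂ * r * c₂⁻¹)) : False := by
  have bs := b.toBTS
  have hr1 := r_ne b hr
  have hr2 := r_sq b hr
  have hrR := r_mem b hr
  have hNr := fun g => @mem_N_iff G _ ι _ S P V R o b r hr g
  set M := MP V R o z with hM
  have hMz : M ≤ centralizer ({z} : Set G) := MP_le b hr hz hz1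
  have hKM : normalizer (R o : Set G) ⊓ centralizer ({z} : Set G) ≤ M := le_sup_left
  -- `z`
  have hz2 : z * z = 1 := by rw [← pow_two]; exact (mem_zc.1 hz.1).2.2
  have hSz : ∀ s ∈ (S : Subgroup G), s * z = z * s := (mem_zc.1 hz.1).2.1
  have hSr : ∀ s ∈ (S : Subgroup G), s * r = r * s := fun s hs => (hNr s).1 (b.S_R hs)
  have hzX : z ∈ CenX V R := b.cz_le hz
  have hzQ : z ∈ ZQ R o := cenX_le_ZQ bs hLE o hzX
  have hrQ : r ∈ ZQ R o := R_le_ZQ b.toBT o hrR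
  have hrz : r * z = z * r := ZQ_comm hzQ (ZQ_le o hrQ)
  have hWc : ∀ a ∈ W, ∀ c ∈ W, a * c = c * a := fun a ha c hc => Omega.TV.EA.comm_of hW.sq ha hc
  -- `y = z r`
  obtain ⟨y, hy⟩ : ∃ y, y = z * r := ⟨_, rfl⟩
  rw [← hy] at hc₂
  have hy2 : y * y = 1 := by
    rw [hy]
    calc z * r * (z * r) = z * (r * z) * r := by group
      _ = z * z * (r * r) := by rw [hrz]; group
      _ = 1 := by rw [hr2, hz2, mul_one]
  have hy1 : y ≠ 1 := by
    intro e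
    have h5 : z = r := by
      calc z = z * (r * r) := by rw [hr2, mul_one]
        _ = (z * r) * r := by group
        _ = r := by rw [← hy, e, one_mul]
    have h6 : r ∈ V ⊓ (zc (S : Subgroup G) ⊓ centralizer (P : Set G)) :=
      ⟨b.R_le o hrR, by rw [← h5]; exact hz⟩
    rw [b.R_inf_cz, mem_bot] at h6
    exact hr1 h6
  have hSy : ∀ s ∈ (S : Subgroup G), s * y = y * s := by
    intro s hs
    rw [hy, ← mul_assoc, hSz s hs, mul_assoc, hSr s hs, ← mul_assoc]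
  have hyQ : y ∈ ZQ R o := by rw [hy]; exact mul_mem hzQ hrQ
  have hQy : ∀ q ∈ QQ (R o), q ∈ centralizer ({y} : Set G) := fun q hq => mem_C.2 (ZQ_comm hyQ hq)
  have hzy : z = y * r := by rw [hy, mul_assoc, hr2, mul_one]
  -- `C(y) ∩ C(r) = C(z) ∩ C(r)`
  have hCzy : ∀ g : G, g * r = r * g → (g ∈ centralizer ({z} : Set G) ↔ g ∈ centralizer ({y} : Set G)) := by
    intro g hg
    rw [mem_C, mem_C]
    constructor
    · intro h5
      rw [hy, ← mul_assoc, h5, mul_assoc, hg, ← mul_assoc]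
    · intro h5
      rw [hzy, ← mul_assoc, h5, mul_assoc, hg, ← mul_assoc]
  set C₁ := centralizer ({y} : Set G) with hC₁
  set U₁ := cl (R o) C₁ with hU₁
  have hUz₁ : U₁ ≤ zc (o2 C₁) := cl_le_zc b hr hy1 hy2 hSy
  have hUsq₁ : ∀ x ∈ U₁, x * x = 1 := fun x hx => by rw [← pow_two]; exact (mem_zc.1 (hUz₁ hx)).2.2
  have hUcm₁ : ∀ x ∈ U₁, ∀ y ∈ U₁, x * y = y * x := fun x hx y hy =>
    (mem_zc.1 (hUz₁ hy)).2.1 x (zc_le _ (hUz₁ hx))
  have hrU₁ : r ∈ U₁ := le_cl _ _ hrR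
  have hU₁C : ∀ n ∈ U₁, n ∈ C₁ := fun n hn => o2_le _ (zc_le _ (hUz₁ hn))
  have hU₁r : ∀ n ∈ U₁, n * r = r * n := fun n hn => hUcm₁ n hn r hrU₁
  have hnU₁ : C₁ ≤ normalizer (U₁ : Set G) := le_normalizer_cl _ _
  have hpU₁ : c₂ * r * c₂⁻¹ ∈ U₁ := conj_mem_of_normalizer (hnU₁ (mem_C.2 hc₂)) hrU₁
  -- the group `K = N(R o) ∩ C(z)` normalises `W`
  have hKW : ∀ c : G, c * r = r * c → c ∈ C₁ → ∀ x ∈ W, c * x * c⁻¹ ∈ W := by
    intro c hcr hc
    refine hW.blk c (hKM ⟨(hNr c).2 hcr, (hCzy c hcr).2 hc⟩) r hW.mem hr1 ?_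
    rw [hcr, mul_inv_cancel_right]
    exact hW.mem
  have hMC : ∀ c ∈ M, c * r = r * c → c ∈ C₁ := fun c hc hcr => (hCzy c hcr).1 (hMz hc)
  have hWC₁ : ∀ x ∈ W, x ∈ C₁ := fun x hx => hQy x (hWQ hx)
  -- `W ∩ U₁ = ⟨r⟩`
  have hWU : ∀ x ∈ W, x ∈ U₁ → x = 1 ∨ x = r := by
    rcases hW.irr r hW.mem hr1 (W ⊓ U₁) inf_le_left ⟨hW.mem, hrU₁⟩ (by
      rintro c hc hcr a ⟨ha, ha'⟩
      exact ⟨hKW c hcr (hMC c hc hcr) a ha, conj_mem_of_normalizer (hnU₁ (hMC c hc hcr)) ha'⟩) with h5 | h5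
    · exact fun x hx hx' => h5 x ⟨hx, hx'⟩
    · exact absurd (hUcm₁ _ hpU₁ _ (h5 hw₂).2) hne
  have hact : ∀ t ∈ W, ∀ n ∈ U₁, t * n * t⁻¹ = n ∨ t * n * t⁻¹ = n * r := by
    intro t ht n hn
    have h5 : t * n * t⁻¹ ∈ U₁ := conj_mem_of_normalizer (hnU₁ (hWC₁ t ht)) hn
    have h6 : n * t⁻¹ * n⁻¹ ∈ W := hKW n (hU₁r n hn) (hU₁C n hn) _ (inv_mem ht)
    have h7 : t * n * t⁻¹ * n⁻¹ ∈ W := by
      have e : t * n * t⁻¹ * n⁻¹ = t * (n * t⁻¹ * n⁻¹) := by group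
      rw [e]; exact mul_mem ht h6
    rcases hWU _ h7 (mul_mem h5 (inv_mem hn)) with h8 | h8
    · left; exact mul_inv_eq_one.1 h8
    · right
      rw [mul_inv_eq_iff_eq_mul] at h8
      rw [h8]
      exact hUcm₁ r hrU₁ n hn
  have hcen : ∀ x ∈ W, (∀ n ∈ U₁, x * n * x⁻¹ = n) → x = 1 ∨ x = r := by
    rcases hW.irr r hW.mem hr1 (W ⊓ centralizer (U₁ : Set G)) inf_le_left
        ⟨hW.mem, mem_centralizer_iff.2 fun n hn => hU₁r n hn⟩ (by
      rintro c hc hcr a ⟨ha, ha'⟩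
      exact ⟨hKW c hcr (hMC c hc hcr) a ha, conj_mem_of_normalizer
        (normalizer_le_normalizer_centralizer _ (hnU₁ (hMC c hc hcr))) ha'⟩) with h5 | h5
    · intro x hx hx'
      exact h5 x ⟨hx, mem_centralizer_iff.2 fun n hn => (mul_inv_eq_iff_eq_mul.1 (hx' n hn)).symm⟩
    · exact absurd (mem_centralizer_iff.1 (h5 hw₂).2 _ hpU₁) hne
  have hmv : ∀ x ∈ W, (x ≠ 1 ∧ x ≠ r) → ∃ n ∈ U₁, x * n * x⁻¹ ≠ n := by
    rintro x hx ⟨hx1, hx2⟩
    by_contra hcon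
    push Not at hcon
    rcases hcen x hx hcon with h5 | h5
    · exact hx1 h5
    · exact hx2 h5
  -- `W₁`
  obtain ⟨a, ha, c, hc, hna, hnc, hnac⟩ := natC_two hW hr2
  obtain ⟨W₁, hW₁⟩ := natC_of_sylow S (fun s hs => mem_C.2 (hSy s hs)) hSr hr hr1 hUsq₁
    (hWC₁ a ha) (hWC₁ c hc) (hact a ha) (hact c hc) (hmv a ha hna) (hmv c hc hnc)
    (hmv _ (mul_mem ha hc) hnac)
  have hπW₁ : c₂ * r * c₂⁻¹ ∈ W₁ := by
    refine hW₁.adj r hW₁.mem hr1 w₂ (hWC₁ w₂ hw₂) (hact w₂ hw₂) c₂ (mem_C.2 hc₂) ?_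
    intro e
    exact hne (mul_inv_eq_iff_eq_mul.1 e).symm
  have hW₁U : W₁ ≤ U₁ := hW₁.W_le
  have hW₁N : W₁ ≤ normalizer (R o : Set G) := fun x hx => (hNr x).2 (hU₁r x (hW₁U hx))
  -- `K` normalises `W₁`
  have hKW₁ : ∀ c ∈ C₁, c * r = r * c → ∀ x ∈ W₁, c * x * c⁻¹ ∈ W₁ := by
    intro c hc hcr
    refine hW₁.blk c hc r hW₁.mem hr1 ?_
    rw [hcr, mul_inv_cancel_right]
    exact hW₁.mem
  -- (5)
  have hW₁Q : W₁ ≤ QQ (R o) := by
    rcases hW₁.irr r hW₁.mem hr1 (W₁ ⊓ QQ (R o)) inf_le_left ⟨hW₁.mem, ZQ_le o hrQ⟩ (by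
      rintro c hc hcr x ⟨hx, hx'⟩
      exact ⟨hKW₁ c hc hcr x hx, conj_mem_of_normalizer (le_normalizer_O2 _ ((hNr c).2 hcr)) hx'⟩) with h5 | h5
    · refine le_Q_of_comm b hr hW₁N fun w hw q hq => ?_
      have h6 : w * q * w⁻¹ ∈ QQ (R o) := conj_mem_of_normalizer (le_normalizer_O2 _ (hW₁N hw)) hq
      have hqr : q * r = r * q := ZQ_comm hrQ hq
      have h7 : q * w⁻¹ * q⁻¹ ∈ W₁ := hKW₁ q (hQy q hq) hqr _ (inv_mem hw)
      have h8 : w * q * w⁻¹ * q⁻¹ ∈ W₁ := by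
        have e : w * q * w⁻¹ * q⁻¹ = w * (q * w⁻¹ * q⁻¹) := by group
        rw [e]; exact mul_mem hw h7
      exact (hr _).2 (h5 _ ⟨h8, (QQ (R o)).mul_mem h6 ((QQ (R o)).inv_mem hq)⟩)
    · exact h5.trans inf_le_right
  -- (6)
  have hW₁V : ∃ x ∈ W₁, x ∉ centralizer (V : Set G) := by
    by_contra hcon
    push Not at hcon
    rcases hW.irr r hW.mem hr1 (W ⊓ centralizer (W₁ : Set G)) inf_le_left
        ⟨hW.mem, mem_centralizer_iff.2 fun n hn => hU₁r n (hW₁U hn)⟩ (by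
      rintro c hc hcr a ⟨ha, ha'⟩
      refine ⟨hKW c hcr (hMC c hc hcr) a ha, mem_centralizer_iff.2 fun x hx => ?_⟩
      have hci : c⁻¹ * r = r * c⁻¹ := by
        rw [inv_mul_eq_iff_eq_mul, ← mul_assoc, hcr, mul_inv_cancel_right]
      have h1 := hKW₁ c⁻¹ (inv_mem (hMC c hc hcr)) hci x hx
      rw [inv_inv] at h1
      have h2 := mem_centralizer_iff.1 ha' _ h1
      calc x * (c * a * c⁻¹) = c * ((c⁻¹ * x * c) * a) * c⁻¹ := by group
        _ = c * (a * (c⁻¹ * x * c)) * c⁻¹ := by rw [h2]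
        _ = c * a * c⁻¹ * x := by group) with h5 | h5
    · -- `V ≤ {1, r}`
      obtain ⟨j, -, hj, -, -⟩ := b.one_lt
      obtain ⟨e, he, he1⟩ := b.exists_ne j
      have heV := b.R_le j he
      have h6 : e ∈ centralizer (W₁ : Set G) := mem_centralizer_iff.2 fun x hx =>
        (mem_centralizer_iff.1 (hcon x hx) e heV).symm
      rcases h5 e ⟨hVW heV, h6⟩ with h7 | h7
      · exact he1 h7
      · apply he1
        refine b.eq_one (Ne.symm hj) ?_ he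
        rw [h7]; exact hrR
    · exact hne (mem_centralizer_iff.1 (h5 hw₂).2 _ hπW₁)
  obtain ⟨x, hx, hxV⟩ := hW₁V
  obtain ⟨j, -, hj, -, -⟩ := b.one_lt
  have hW₁Z : ∀ x ∈ W₁, x ∈ ZQ R o → x ∈ R o := by
    rcases hW₁.irr r hW₁.mem hr1 (W₁ ⊓ ZQ R o) inf_le_left ⟨hW₁.mem, hrQ⟩ (by
      rintro c hc hcr x ⟨hx, hx'⟩
      exact ⟨hKW₁ c hc hcr x hx, conj_mem_of_normalizer (N_le_NZQ o ((hNr c).2 hcr)) hx'⟩) with h5 | h5
    · exact fun x hx hx' => (hr x).2 (h5 x ⟨hx, hx'⟩)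
    · exact absurd (ZQ_le_cen b.toBT o (h5 hx).2) hxV
  refine lemX_false bs hLE (Ne.symm hj) (fun x hx => (hr x).1 hx) hW₁Q
    (fun a ha c hc => hUcm₁ a (hW₁U ha) c (hW₁U hc)) (j := j) ?_ hx hxV hW₁Z hzX hz1
  intro e he x hx
  have her : e * r = r * e := (mem_centralizer_iff.1 (EE_le_cen j he) r (b.R_le o hrR)).symm
  have hez : e ∈ centralizer ({z} : Set G) := mem_C.2 (cenX_Q bs (hLE j) hzX (EE_le_Q j he)).symm
  exact hKW₁ e ((hCzy e her).1 hez) her x hx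

/-- **#15368**, `|T| ≥ 4` -/
theorem not_alpha_aux {z : G} (hz : z ∈ zc (S : Subgroup G) ⊓ centralizer (P : Set G)) (hz1 : z ≠ 1) :
    ¬ UM V (MP V R o z) ≤ QQ (R o) := by
  intro hα
  have hLE := Alpha.HT.le_all b
  have bs := b.toBTS
  have d := b.dt hz hz1
  have hr1 := r_ne b hr
  have hr2 := r_sq b hr
  have hrR := r_mem b hr
  have hNr := fun g => @mem_N_iff G _ ι _ S P V R o b r hr g
  obtain ⟨M, hM⟩ : ∃ M, M = MP V R o z := ⟨_, rfl⟩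
  have hMz : M ≤ centralizer ({z} : Set G) := by rw [hM]; exact MP_le b hr hz hz1
  have hKM : normalizer (R o : Set G) ⊓ centralizer ({z} : Set G) ≤ M := by rw [hM]; exact le_sup_left
  have hXM : XX V R ≤ M := by rw [hM]; exact le_sup_right
  have hz2 : z * z = 1 := by rw [← pow_two]; exact (mem_zc.1 hz.1).2.2
  have hSz : ∀ s ∈ (S : Subgroup G), s * z = z * s := (mem_zc.1 hz.1).2.1
  have hSr : ∀ s ∈ (S : Subgroup G), s * r = r * s := fun s hs => (hNr s).1 (b.S_R hs)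
  have hzX : z ∈ CenX V R := b.cz_le hz
  have hzQ : z ∈ ZQ R o := cenX_le_ZQ bs hLE o hzX
  have hrQ : r ∈ ZQ R o := R_le_ZQ b.toBT o hrR
  have hQz : ∀ q ∈ QQ (R o), q ∈ centralizer ({z} : Set G) := fun q hq => mem_C.2 (ZQ_comm hzQ hq)
  have hQM : ∀ q ∈ QQ (R o), q ∈ M := fun q hq => hKM ⟨b.Q_le o hq, hQz q hq⟩
  have hSM : (S : Subgroup G) ≤ M := fun s hs => hKM ⟨b.S_R hs, mem_C.2 (hSz s hs)⟩
  rw [← hM] at hα
  obtain ⟨a, ha, c, hc, hna, hnc, hnac⟩ := alpha_two b hLE hz hz1 hKM hα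
  have hUeq : cl (R o) M = UM V M := b.cl_R_eq (b.trans_of_X hXM)
  rw [← hUeq] at hα hna hnc hnac
  have hUz := cl_le_zc b hr hz1 hz2 hSz
  have hUle : cl (R o) M ≤ cl (R o) (centralizer ({z} : Set G)) := iSup_le fun m => cj_le_cl (hMz m.2)
  set Uf := cl (R o) (centralizer ({z} : Set G)) with hUf
  have hUfcm : ∀ x ∈ Uf, ∀ y ∈ Uf, x * y = y * x := fun x hx y hy =>
    (mem_zc.1 (hUz hy)).2.1 x (zc_le _ (hUz hx))
  set U := cl (R o) M with hU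
  have hUsq : ∀ x ∈ U, x * x = 1 := fun x hx => by
    rw [← pow_two]; exact (mem_zc.1 (hUz (hUle hx))).2.2
  -- `Q o` acts on `U` as transvections
  have hQU : ∀ q ∈ QQ (R o), ∀ n ∈ U, q * n * q⁻¹ = n ∨ q * n * q⁻¹ = n * r := by
    intro q hq n hn
    have h5 := Q_comm bs (hLE o) hq (hα hn)
    rcases (hr _).1 h5 with h6 | h6
    · left; exact mul_inv_eq_one.1 h6
    · right
      rw [mul_inv_eq_iff_eq_mul] at h6
      rw [h6]
      exact (b.QR o n (hα hn) r hrR).symm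
  have hmv : ∀ q : G, q ∉ centralizer (U : Set G) → ∃ n ∈ U, q * n * q⁻¹ ≠ n := by
    intro q hq
    by_contra hcon
    push Not at hcon
    exact hq (mem_centralizer_iff.2 fun n hn => (mul_inv_eq_iff_eq_mul.1 (hcon n hn)).symm)
  obtain ⟨W, hW⟩ := natC_of_sylow S hSM hSr hr hr1 hUsq (hQM a ha)
    (hQM c hc) (hQU a ha) (hQU c hc) (hmv a hna) (hmv c hnc) (hmv _ hnac)
  rw [← hU] at hW
  have hWU : W ≤ U := hW.W_le
  have hWQ : W ≤ QQ (R o) := hWU.trans hα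
  -- `V ≤ W`
  have hVW : V ≤ W := by
    obtain ⟨t, ht, v, hv, hne⟩ := exists_mv b hr
    have hv1 : v ≠ 1 := by
      rintro rfl
      exact hne (by rw [mul_one, one_mul])
    obtain ⟨c, hc, e⟩ := exists_conj_X b hr hv hv1
    have h1 := hW.adj r hW.mem hr1 t (hQM t ht) (hQU t ht) c (hXM hc) (by
      rw [e]
      intro h
      exact hne (mul_inv_eq_iff_eq_mul.1 h))
    rw [e] at h1
    have h2 := cj_V_le b hr (k := 1) (one_mem _) hW.mem (v := v) (by rw [cj_one]; exact hv) (by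
      intro hvo
      apply hne
      have h3 := ((hr v).1 hvo).resolve_left hv1
      rw [h3]
      exact b.QR o t ht r hrR) h1
    rwa [cj_one] at h2
  have hKW : ∀ c : G, c * r = r * c → c * z = z * c → ∀ x ∈ W, c * x * c⁻¹ ∈ W := by
    intro c hcr hc
    refine hW.blk c (hKM ⟨(hNr c).2 hcr, mem_C.2 hc⟩) r hW.mem hr1 ?_
    rw [hcr, mul_inv_cancel_right]
    exact hW.mem
  -- `V^h`
  obtain ⟨h, hh, a₀, ha₀, c₀, hc₀, hne₀⟩ := exists_h b hr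
  have hhr : h * r = r * h := (hNr h).1 hh
  have hhr' : h⁻¹ * r = r * h⁻¹ := (hNr h⁻¹).1 (inv_mem hh)
  obtain ⟨y, hy⟩ : ∃ y, y = h * z * h⁻¹ := ⟨_, rfl⟩
  have hzy : z = h⁻¹ * y * h := by rw [hy]; group
  have hyQ : y ∈ ZQ R o := by rw [hy]; exact conj_mem_of_normalizer (N_le_NZQ o hh) hzQ
  have hyy : y * y = 1 := by
    rw [hy]
    calc h * z * h⁻¹ * (h * z * h⁻¹) = h * (z * z) * h⁻¹ := by group
      _ = 1 := by rw [hz2, mul_one, mul_inv_cancel]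
  have hcV : c₀ ∉ centralizer (V : Set G) := fun hc => hne₀ (mem_centralizer_iff.1 hc a₀ ha₀)
  have hW'n : ∀ c : G, c * y = y * c → c * r = r * c → ∀ x ∈ cj h W, c * x * c⁻¹ ∈ cj h W := by
    rintro c hcy hcr _ ⟨x, hx, rfl⟩
    change c * (h * x * h⁻¹) * c⁻¹ ∈ cj h W
    have h1 : (h⁻¹ * c * h) * z = z * (h⁻¹ * c * h) := by
      rw [hzy]
      calc h⁻¹ * c * h * (h⁻¹ * y * h) = h⁻¹ * (c * y) * h := by group
        _ = h⁻¹ * (y * c) * h := by rw [hcy]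
        _ = _ := by group
    have h2 : (h⁻¹ * c * h) * r = r * (h⁻¹ * c * h) := by
      calc h⁻¹ * c * h * r = h⁻¹ * c * (h * r) := by group
        _ = h⁻¹ * (c * r) * h := by rw [hhr]; group
        _ = (h⁻¹ * r) * c * h := by rw [hcr]; group
        _ = r * (h⁻¹ * c * h) := by rw [hhr']; group
    have h3 := hKW _ h2 h1 x hx
    have e : c * (h * x * h⁻¹) * c⁻¹ = h * (h⁻¹ * c * h * x * (h⁻¹ * c * h)⁻¹) * h⁻¹ := by group
    rw [e]
    exact conj_mem_cj h3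
  have hW'Q : cj h W ≤ QQ (R o) := by
    have h1 := cj_mono (g := h) hWQ
    rwa [cj_eq_self_iff.2 (le_normalizer_O2 _ hh)] at h1
  have hW'sq : ∀ x ∈ cj h W, x * x = 1 := by
    rintro _ ⟨x, hx, rfl⟩
    change h * x * h⁻¹ * (h * x * h⁻¹) = 1
    calc h * x * h⁻¹ * (h * x * h⁻¹) = h * (x * x) * h⁻¹ := by group
      _ = 1 := by rw [hW.sq x hx, mul_one, mul_inv_cancel]
  obtain ⟨j, -, hj, -, -⟩ := b.one_lt
  rcases four' bs hj hr hyy hyQ hW'Q hW'sq hW'n (by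
    rintro _ ⟨w, hw, rfl⟩ hw1
    change h * w * h⁻¹ ≠ 1 at hw1
    have hw1' : w ≠ 1 := fun e => hw1 (by rw [e, mul_one, mul_inv_cancel])
    obtain ⟨k, hk, e⟩ := hW.pt w hw hw1'
    have hkz := mem_C.1 (hMz hk)
    refine ⟨h * k * h⁻¹, ?_, ?_, ?_⟩
    · rw [hy]
      calc h * k * h⁻¹ * (h * z * h⁻¹) = h * (k * z) * h⁻¹ := by group
        _ = h * (z * k) * h⁻¹ := by rw [hkz]
        _ = _ := by group
    · change _ = h * w * h⁻¹
      calc h * k * h⁻¹ * r * (h * k * h⁻¹)⁻¹ = h * k * (h⁻¹ * r) * h * k⁻¹ * h⁻¹ := by group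
        _ = h * (k * r * k⁻¹) * h⁻¹ := by rw [hhr']; group
        _ = h * w * h⁻¹ := by rw [e]
    · rintro _ ⟨x, hx, rfl⟩
      change (h * k * h⁻¹)⁻¹ * (h * x * h⁻¹) * (h * k * h⁻¹) ∈ cj h W
      have h1 := hW.blk k⁻¹ (inv_mem hk) w hw hw1' (by
        rw [← e]
        have e2 : k⁻¹ * (k * r * k⁻¹) * k⁻¹⁻¹ = r := by group
        rw [e2]; exact hW.mem) x hx
      have e2 : (h * k * h⁻¹)⁻¹ * (h * x * h⁻¹) * (h * k * h⁻¹) = h * (k⁻¹ * x * k⁻¹⁻¹) * h⁻¹ := by group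
      rw [e2]
      exact conj_mem_cj h1) (cj_mono hVW hc₀) hcV with ⟨a, ha, hX⟩ | ⟨w₁, hw₁, c₁, hc₁, hne₁⟩
  · rcases (hr a).1 ha with rfl | rfl
    · -- `y ∈ C_X`
      rw [one_mul] at hX
      have e1 : cl (R o) (centralizer ({y} : Set G)) = cj h Uf := by
        rw [hUf, AlphaFive.cj_cl, AlphaFive.cj_C, ← hy, cj_eq_self_iff.2 hh]
      have h1 : V ≤ cj h Uf := by
        rw [← e1]
        have := AlphaFive.cj_le_cl_of b hr (k := 1) (y := y) (one_mem _) (by rw [cj_one]; exact hX)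
        rwa [cj_one] at this
      have h2 : cj h V ≤ cj h Uf := by
        apply cj_mono
        have := AlphaFive.cj_le_cl_of b hr (k := 1) (y := z) (one_mem _) (by rw [cj_one]; exact hzX)
        rwa [cj_one] at this
      apply hne₀
      obtain ⟨x, hx, e3⟩ := h1 ha₀
      obtain ⟨x', hx', e4⟩ := h2 hc₀
      rw [← e3, ← e4]
      change h * x * h⁻¹ * (h * x' * h⁻¹) = h * x' * h⁻¹ * (h * x * h⁻¹)
      calc h * x * h⁻¹ * (h * x' * h⁻¹) = h * (x * x') * h⁻¹ := by group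
        _ = h * (x' * x) * h⁻¹ := by rw [hUfcm x hx x' hx']
        _ = _ := by group
    · -- `r y ∈ C_X`
      refine lemX_false bs hLE (Ne.symm hj) (fun x hx => (hr x).1 hx) hW'Q
        (fun a ha c hc => Omega.TV.EA.comm_of hW'sq ha hc) (j := j) ?_ (cj_mono hVW hc₀) hcV ?_ hzX hz1
      · intro e he
        have her : e * a = a * e := (mem_centralizer_iff.1 (EE_le_cen j he) a (b.R_le o hrR)).symm
        refine hW'n e ?_ her
        have h1 : a * y * e = e * (a * y) := cenX_Q bs (hLE j) hX (EE_le_Q j he)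
        have h2 : a * (y * e) = a * (e * y) := by
          rw [← mul_assoc, h1, ← mul_assoc, her, mul_assoc]
        exact (mul_left_cancel h2).symm
      · have h0 : ∀ x ∈ W, x ∈ ZQ R o → x = 1 ∨ x = a := by
          rcases hW.irr a hW.mem hr1 (W ⊓ ZQ R o) inf_le_left ⟨hW.mem, hrQ⟩ (by
            rintro c hc hcr x ⟨hx, hx'⟩
            exact ⟨hKW c hcr (mem_C.1 (hMz hc)) x hx,
              conj_mem_of_normalizer (N_le_NZQ o ((hNr c).2 hcr)) hx'⟩) with h5 | h5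
          · exact fun x hx hx' => h5 x ⟨hx, hx'⟩
          · exfalso
            obtain ⟨t, ht, v, hv, hne⟩ := exists_mv b hr
            exact hne (ZQ_comm (h5 (hVW hv)).2 ht)
        rintro _ ⟨x, hx, rfl⟩ hxZ
        change h * x * h⁻¹ ∈ ZQ R o at hxZ
        change h * x * h⁻¹ ∈ R o
        have h1 : x ∈ ZQ R o := by
          have h2 := conj_inv_mem_of_normalizer (N_le_NZQ o hh) hxZ
          have e : h⁻¹ * (h * x * h⁻¹) * h = x := by group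
          rwa [e] at h2
        exact conj_mem_of_normalizer hh ((hr x).2 (h0 x hx h1))
  · -- conjugate back
    obtain ⟨w₂, hw₂, rfl⟩ := hw₁
    change c₁ * r * c₁⁻¹ * (h * w₂ * h⁻¹) ≠ h * w₂ * h⁻¹ * (c₁ * r * c₁⁻¹) at hne₁
    rw [hM] at hW
    refine part_B b hr hLE hz hz1 hW hWQ hVW (w₂ := w₂) (c₂ := h⁻¹ * c₁ * h) hw₂ ?_ ?_
    · have e : z * r = h⁻¹ * (y * r) * h := by
        rw [hzy]
        calc h⁻¹ * y * h * r = h⁻¹ * y * (h * r) := by group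
          _ = h⁻¹ * (y * r) * h := by rw [hhr]; group
      rw [e]
      calc h⁻¹ * c₁ * h * (h⁻¹ * (y * r) * h) = h⁻¹ * (c₁ * (y * r)) * h := by group
        _ = h⁻¹ * (y * r * c₁) * h := by rw [hc₁]
        _ = _ := by group
    · intro e
      apply hne₁
      have e1 : h⁻¹ * c₁ * h * r * (h⁻¹ * c₁ * h)⁻¹ = h⁻¹ * (c₁ * r * c₁⁻¹) * h := by
        calc h⁻¹ * c₁ * h * r * (h⁻¹ * c₁ * h)⁻¹ = h⁻¹ * c₁ * (h * r) * h⁻¹ * c₁⁻¹ * h := by group
          _ = _ := by rw [hhr]; group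
      rw [e1] at e
      calc c₁ * r * c₁⁻¹ * (h * w₂ * h⁻¹) = h * (h⁻¹ * (c₁ * r * c₁⁻¹) * h * w₂) * h⁻¹ := by group
        _ = h * (w₂ * (h⁻¹ * (c₁ * r * c₁⁻¹) * h)) * h⁻¹ := by rw [e]
        _ = _ := by group

end two

/-- **(α) is dead for the small group `M' = ⟨C_{H₁}(z), X⟩`** (#14489, #15368) -/
theorem not_alpha' {G : Type u} [Group G] [Finite G] {ι : Type*} {S : Sylow 2 G} {P V : Subgroup G}
    {R : ι → Subgroup G} {o : ι} (b : HT S P V R o) {z : G}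
    (hz : z ∈ zc (S : Subgroup G) ⊓ centralizer (P : Set G)) (hz1 : z ≠ 1) :
    ¬ UM V (MP V R o z) ≤ QQ (R o) := by
  obtain ⟨r, hr1, hrr, hr⟩ := b.exists_gen o
  exact not_alpha_aux b hr hz hz1

end Cfsg.Agent.Omega.HTwo.AlphaP

end

section


/-!
# II.0h1, `q = 2`, over a 2-group `S` (`HTT`): case (α) for `M' = ⟨C_{H₁}(z), X⟩` (#15368, #18182, #18272)

* `alpha_two` : (2) of #14489;
* `part_B` : (4), (5), (6) of #15368 with an abstract module `Y` for `C(z r)`: `r ∈ Y ≤ C(z r)`, `GSysW (C(z r)) Y r`;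
* `not_alpha'` : `⟨V^{M'}⟩` is not contained in `Q o`, if `O₂(M' / C(U)) = 1` and such a `Y` exists.
-/

set_option autoImplicit false
set_option linter.unusedSectionVars false

namespace Cfsg.Agent.Omega.HT.AlphaP

open Subgroup Cfsg Cfsg.Agent.MinSimple.VModule Cfsg.Agent.Omega.BTwo
open Cfsg.Agent.Omega.HOneTwo Cfsg.Agent.Omega.HTwo Cfsg.Agent.Omega.HTwo.ThmA Cfsg.Agent.Omega.HTwo.Par
open Cfsg.Agent.Omega.HTwo.Hat Cfsg.Agent.Omega.HTwo.TComp Cfsg.Agent.Omega.HT.TComp Cfsg.Agent.Omega.MinPar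
open Cfsg.Agent.ZN (zc o2 le_normalizer_o2)
open Cfsg.Agent.Omega.HTwo.AlphaFive (mem_C natC_two natC_cj)
open Cfsg.Agent.Omega.HTwo.AlphaOne (ZQ_swap ZQ_not_RC)
open Cfsg.Agent.Omega.HTwo.AlphaP (lemX_false four' MP)

universe u

/-- a 2-subgroup of `L` is conjugate in `L` into `T`, `T ≤ L` a 2-group of odd index -/
theorem exists_cj_T {G : Type*} [Group G] [Finite G] {T L B : Subgroup G} (hT : IsPGroup 2 T)
    (hTs : ¬ 2 ∣ T.relIndex L) (hBL : B ≤ L) (hB : IsPGroup 2 B) : ∃ g ∈ L, B ≤ cj g T := by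
  have hf : Fact (Nat.Prime 2) := ⟨Nat.prime_two⟩
  have h1 : IsPGroup 2 (T.subgroupOf L) := hT.comap_of_injective _ L.subtype_injective
  have h2 : IsPGroup 2 (B.subgroupOf L) := hB.comap_of_injective _ L.subtype_injective
  obtain ⟨Q, hQ⟩ := h2.exists_le_sylow
  obtain ⟨g, hg⟩ := MulAction.exists_smul_eq L (h1.toSylow hTs : Sylow 2 L) Q
  refine ⟨g, g.2, ?_⟩
  intro x hx
  have h3 : (⟨x, hBL hx⟩ : L) ∈ (Q : Subgroup L) := hQ (mem_subgroupOf.2 hx)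
  rw [← hg] at h3
  rw [mem_cj]
  have h4 : g⁻¹ * ⟨x, hBL hx⟩ * g ∈ ((h1.toSylow hTs : Sylow 2 L) : Subgroup L) := by
    rw [Sylow.coe_subgroup_smul, ← SetLike.mem_coe, Subgroup.coe_pointwise_smul,
      Set.mem_smul_set_iff_inv_smul_mem] at h3
    have h5 : g⁻¹ * ⟨x, hBL hx⟩ * g ∈ (h1.toSylow hTs : Sylow 2 L) := by
      simpa [MulAut.smul_def] using h3
    exact h5
  exact mem_subgroupOf.1 h4

section two

variable {G : Type u} [Group G] [Finite G] {ι : Type*} {S P V : Subgroup G} {R : ι → Subgroup G} {o : ι}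

variable (b : HTT S P V R o)
include b

/-- the product of elements of different points lies in the third -/
theorem mul_mem_third {i j k : ι} (hij : i ≠ j) (hik : i ≠ k) (hjk : j ≠ k) {x y : G} (hx : x ∈ R j) (hx1 : x ≠ 1)
    (hy : y ∈ R k) (hy1 : y ≠ 1) : x * y⁻¹ ∈ R i := by
  obtain ⟨l, hl⟩ := b.R_cov (x * y⁻¹) (mul_mem (b.R_le j hx) (inv_mem (b.R_le k hy)))
  have hne : x * y⁻¹ ≠ 1 := by
    intro h
    rw [mul_inv_eq_one] at h
    subst h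
    exact hx1 (b.eq_one hjk hx hy)
  rcases b.eq_of_ne hij hik hjk (l := l) with rfl | rfl | rfl
  · exact hl
  · exfalso
    have h1 : y⁻¹ ∈ R l := by
      have := mul_mem (inv_mem hx) hl
      rwa [inv_mul_cancel_left] at this
    exact hy1 (b.eq_one hjk (by simpa using inv_mem h1) hy)
  · exfalso
    have h1 : x ∈ R l := by
      have := mul_mem hl hy
      rwa [inv_mul_cancel_right] at this
    exact hx1 (b.eq_one hjk hx h1)

/-- an element of `N(V) ∩ N(R o)` acts trivially on `V / R o` -/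
theorem comm_mem_R {s v : G} (hsV : s ∈ normalizer (V : Set G)) (hsR : s ∈ normalizer (R o : Set G)) (hv : v ∈ V) :
    s * v * s⁻¹ * v⁻¹ ∈ R o := by
  obtain ⟨l, hl⟩ := b.R_cov v hv
  by_cases hlo : l = o
  · subst hlo
    exact mul_mem (conj_mem_of_normalizer hsR hl) (inv_mem hl)
  by_cases hv1 : v = 1
  · subst hv1
    have : s * 1 * s⁻¹ * 1⁻¹ = (1 : G) := by group
    rw [this]; exact one_mem _
  obtain ⟨m, hm⟩ := b.perm s hsV l
  have h1 : s * v * s⁻¹ ∈ R m := by rw [← hm]; exact conj_mem_cj hl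
  have hmo : m ≠ o := by
    rintro rfl
    exact hlo (b.R_index (cj_injective (hm.trans (cj_eq_self_iff.2 hsR).symm)))
  have hne : s * v * s⁻¹ ≠ 1 := fun h => hv1 (conj_eq_one_iff.1 h)
  by_cases hml : m = l
  · subst hml
    have h2 : s * v * s⁻¹ = v := eq_of_card_two (b.card_R m) hl hv1 h1 hne
    rw [h2, mul_inv_cancel]; exact one_mem _
  · exact mul_mem_third b (Ne.symm hmo) (Ne.symm hlo) hml h1 hne hl hv1

/-- **(2)** of #14489 for every `M ≥ N(R o) ∩ C(z)`, `X` -/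
theorem alpha_two {M : Subgroup G} (h : ∀ i, LE V R i) {z : G}
    (hz : z ∈ zc S ⊓ centralizer (P : Set G)) (hz1 : z ≠ 1)
    (hM : normalizer (R o : Set G) ⊓ centralizer ({z} : Set G) ≤ M)
    (hα : UM V M ≤ QQ (R o)) :
    ∃ a ∈ QQ (R o), ∃ c ∈ QQ (R o), a ∉ centralizer (UM V M : Set G) ∧
      c ∉ centralizer (UM V M : Set G) ∧ a * c ∉ centralizer (UM V M : Set G) := by
  by_contra hcon
  push Not at hcon
  set U := UM V M with hU
  obtain ⟨k, hk, H⟩ := b.mt o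
  obtain ⟨j, m, hj, hm, hjm⟩ := b.one_lt
  obtain ⟨-, v, hv, ev⟩ := H j m hj hm
  have hzz : z * z = 1 := by rw [← pow_two]; exact (mem_zc.1 hz.1).2.2
  have hzX : z ∈ CenX V R := b.cz_le hz
  have hzQ : z ∈ ZQ R o := cenX_le_ZQ b.toBTS h o hzX
  -- conjugate by `k⁻¹`
  have hk' : k⁻¹ ∈ normalizer (R o : Set G) := inv_mem hk
  set z₁ := k⁻¹ * z * k with hz₁
  have hz₁Q : z₁ ∈ ZQ R o := conj_inv_mem_of_normalizer (N_le_NZQ o hk) hzQ
  have hz₁z₁ : z₁ * z₁ = 1 := by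
    have : z₁ * z₁ = k⁻¹ * (z * z) * k := by rw [hz₁]; group
    rw [this, hzz, mul_one, inv_mul_cancel]
  set U₁ := cj k⁻¹ U with hU₁
  have hQk : cj k⁻¹ (QQ (R o)) = QQ (R o) := cj_eq_self_iff.2 (le_normalizer_O2 _ hk')
  have hU₁Q : U₁ ≤ QQ (R o) := by
    rw [← hQk]; exact cj_mono hα
  have hone : ∀ a ∈ QQ (R o), ∀ c ∈ QQ (R o), a ∉ centralizer (U₁ : Set G) → c ∉ centralizer (U₁ : Set G) →
      a * c ∈ centralizer (U₁ : Set G) := by
    intro a ha c hc h1 h2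
    rw [hU₁, centralizer_cj, mem_cj, inv_inv] at h1 h2 ⊢
    have h3 := hcon (k * a * k⁻¹) (conj_mem_of_normalizer (le_normalizer_O2 _ hk) ha) (k * c * k⁻¹)
      (conj_mem_of_normalizer (le_normalizer_O2 _ hk) hc) h1 h2
    have e : k * a * k⁻¹ * (k * c * k⁻¹) = k * (a * c) * k⁻¹ := by group
    rwa [e] at h3
  -- `N(R o) ∩ C(z₁)` normalises `U₁`
  have hMU : ∀ g ∈ normalizer (R o : Set G), g * z₁ = z₁ * g → g ∈ normalizer (U₁ : Set G) := by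
    intro g hgN hg
    rw [hU₁, normalizer_cj, mem_cj, inv_inv]
    apply le_normalizer_cl V M
    refine hM ⟨mul_mem (mul_mem hk hgN) hk', mem_C.2 ?_⟩
    calc k * g * k⁻¹ * z = k * (g * z₁) * k⁻¹ := by rw [hz₁]; group
      _ = k * (z₁ * g) * k⁻¹ := by rw [hg]
      _ = z * (k * g * k⁻¹) := by rw [hz₁]; group
  have hV₁ : cj k⁻¹ V ≤ U₁ := cj_mono (le_cl V M)
  -- `R j` does not centralise `U₁`
  obtain ⟨r₂, hr₂1, hr₂₂, hr₂⟩ := b.exists_gen j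
  have hr₂j : r₂ ∈ R j := (hr₂ _).2 (Or.inr rfl)
  have hv₁ : k⁻¹ * v * k ∈ U₁ := by
    have := hV₁ (conj_mem_cj (g := k⁻¹) hv)
    rwa [inv_inv] at this
  have hr₂U : r₂ ∉ centralizer (U₁ : Set G) := by
    intro hc
    have h1 := mem_centralizer_iff.1 hc _ hv₁
    have h2 : k⁻¹ * v * k * r₂ * (k⁻¹ * v * k)⁻¹ ∈ R m := by
      rw [← ev]; exact conj_mem_cj hr₂j
    rw [h1, mul_inv_cancel_right] at h2
    exact hr₂1 (b.eq_one hjm hr₂j h2)
  -- the group `B`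
  have hBN : ZQ R j ≤ normalizer (R o : Set G) := (ZQ_le_cen b.toBT j).trans (b.cen_le_N o)
  set B := ZQ R j ⊓ centralizer ({z₁} : Set G) with hB
  have hBp : IsPGroup 2 B := (O2_isPGroup _).to_le (inf_le_left.trans (ZQ_le j))
  have key : ∀ x ∈ B, ∃ a ∈ R j, a * x ∈ CenX V R := by
    -- a Sylow group
    set L := normalizer (R o : Set G) ⊓ centralizer ({z₁} : Set G) with hL
    have hSL : cj k⁻¹ S ≤ L := by
      rintro _ ⟨s, hs, rfl⟩
      change k⁻¹ * s * k⁻¹⁻¹ ∈ L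
      rw [inv_inv]
      refine ⟨mul_mem (mul_mem hk' (b.S_R hs)) hk, mem_centralizer_singleton_iff.2 ?_⟩
      have h1 : s * z = z * s := (mem_zc.1 hz.1).2.1 s hs
      calc k⁻¹ * s * k * z₁ = k⁻¹ * (s * z) * k := by rw [hz₁]; group
        _ = k⁻¹ * (z * s) * k := by rw [h1]
        _ = _ := by rw [hz₁]; group
    have hSp' : IsPGroup 2 (cj k⁻¹ S : Subgroup G) := b.S_p.map _
    have hSo : ¬ 2 ∣ (cj k⁻¹ S).relIndex L := by
      intro h2
      apply b.S_odd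
      have h3 : (cj k⁻¹ S).relIndex (normalizer (R o : Set G)) = S.relIndex (normalizer (R o : Set G)) := by
        have h4 : cj k⁻¹ (normalizer (R o : Set G)) = normalizer (R o : Set G) := cj_of_mem hk'
        conv_lhs => rw [← h4]
        exact relIndex_map_map_of_injective _ _ (MulAut.conj k⁻¹).injective
      rw [← h3, ← relIndex_mul_relIndex _ _ _ hSL inf_le_left]
      exact Dvd.dvd.mul_right h2 _
    obtain ⟨g, hg, hBg⟩ := exists_cj_T hSp' hSo (inf_le_inf_right _ hBN) hBp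
    set k' := g * k⁻¹ with hk'd
    have hk'N : k' ∈ normalizer (R o : Set G) := mul_mem hg.1 hk'
    have hBS : ∀ x ∈ B, ∃ s ∈ S, x = k' * s * k'⁻¹ := by
      intro x hx
      obtain ⟨y, hy, rfl⟩ := hBg hx
      obtain ⟨s, hs, rfl⟩ : ∃ s ∈ S, k⁻¹ * s * k⁻¹⁻¹ = y := hy
      refine ⟨s, hs, ?_⟩
      change g * (k⁻¹ * s * k⁻¹⁻¹) * g⁻¹ = _
      rw [hk'd]; group
    -- `V* = V^{k'} ≤ U₁`
    set a := k' * r₂ * k'⁻¹ with ha
    have haU : a ∈ U₁ := by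
      have h1 := conj_mem_of_normalizer (hMU g hg.1 (mem_centralizer_singleton_iff.1 hg.2))
        (hV₁ (conj_mem_cj (g := k⁻¹) (b.R_le j hr₂j)))
      have e : a = g * (k⁻¹ * r₂ * k⁻¹⁻¹) * g⁻¹ := by rw [ha, hk'd]; group
      rw [e]; exact h1
    -- an element of `Q o` moving `a`
    obtain ⟨w, hw, ew⟩ := b.trans o hj hm
    have hwQ := b.W_le_Q o hw
    set q := k' * w * k'⁻¹ with hq
    have hqQ : q ∈ QQ (R o) := conj_mem_of_normalizer (le_normalizer_O2 _ hk'N) hwQ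
    have hqa : q * a * q⁻¹ ≠ a := by
      intro h1
      have e : q * a * q⁻¹ = k' * (w * r₂ * w⁻¹) * k'⁻¹ := by rw [hq, ha]; group
      rw [e, ha] at h1
      have h2 : w * r₂ * w⁻¹ = r₂ := mul_left_cancel (mul_right_cancel h1)
      have h3 : w * r₂ * w⁻¹ ∈ R m := by rw [← ew]; exact conj_mem_cj hr₂j
      rw [h2] at h3
      exact hr₂1 (b.eq_one hjm hr₂j h3)
    have hqU : q ∉ centralizer (U₁ : Set G) := by
      intro hc
      apply hqa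
      rw [← mem_centralizer_iff.1 hc a haU, mul_inv_cancel_right]
    have hr₂Q : r₂ ∈ QQ (R o) := b.V_Q o (b.R_le j hr₂j)
    have h1 := hone r₂ hr₂Q q hqQ hr₂U hqU
    have hra : ¬ r₂ * a = a * r₂ := by
      intro h2
      apply hqa
      have h3 := mem_centralizer_iff.1 h1 a haU
      -- `a (r₂ q) = r₂ q a`
      have h4 : r₂ * (a * q) = r₂ * (q * a) := by
        rw [← mul_assoc, h2, mul_assoc, h3, mul_assoc]
      have h5 := mul_left_cancel h4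
      rw [← h5, mul_inv_cancel_right]
    -- `a` maps `R j` to `R m`
    have haQ : a ∈ QQ (R o) := hU₁Q haU
    have haV : a ∈ normalizer (V : Set G) := b.Q_le_NV o haQ
    obtain ⟨l, hl⟩ := b.perm a haV j
    have hlj : l ≠ j := by
      rintro rfl
      apply hra
      have h2 : a * r₂ * a⁻¹ ∈ R l := by rw [← hl]; exact conj_mem_cj hr₂j
      have h3 : a * r₂ * a⁻¹ ≠ 1 := fun h => hr₂1 (conj_eq_one_iff.1 h)
      have h4 := eq_of_card_two (b.card_R l) hr₂j hr₂1 h2 h3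
      rw [mul_inv_eq_iff_eq_mul] at h4
      exact h4.symm
    have hlo : l ≠ o := by
      rintro rfl
      exact hj (b.R_index (cj_injective (hl.trans (cj_eq_self_iff.2 (b.Q_le l haQ)).symm)))
    intro x hx
    obtain ⟨s, hs, ex⟩ := hBS x hx
    -- `[x, a] ∈ R o`
    have h2 : x * a * x⁻¹ * a⁻¹ ∈ R o := by
      have h3 := conj_mem_of_normalizer hk'N (comm_mem_R b (b.S_V hs) (b.S_R hs) (b.R_le j hr₂j))
      have e : x * a * x⁻¹ * a⁻¹ = k' * (s * r₂ * s⁻¹ * r₂⁻¹) * k'⁻¹ := by rw [ex, ha]; group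
      rw [e]; exact h3
    have h3 : x ∈ QQ (R l) := by
      have h4 : a * x * a⁻¹ ∈ QQ (R l) := by
        have h5 : a * x * a⁻¹ ∈ ZQ R l := by
          rw [← cj_ZQ b.toBT hl]; exact conj_mem_cj hx.1
        exact ZQ_le l h5
      have e : x = (x * a * x⁻¹ * a⁻¹) * (a * x * a⁻¹) := by group
      rw [e]
      exact mul_mem (b.V_Q l (b.R_le o h2)) h4
    exact ZQ_Q b.toBTS (Ne.symm hlj) hx.1 h3
  -- `z₁^σ ∈ B`
  obtain ⟨σ, hσ, eσ⟩ := b.trans m (Ne.symm hm) hjm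
  have hσQ := b.W_le_Q m hσ
  have hσV : σ ∈ normalizer (V : Set G) := b.Q_le_NV m hσQ
  have h1 := ZQ_swap b.toBTS h (Ne.symm hj) hσQ eσ hz₁Q hz₁z₁
  have h2 : σ * z₁ * σ⁻¹ ∈ B := by
    refine ⟨?_, ?_⟩
    · rw [← cj_ZQ b.toBT eσ]; exact conj_mem_cj hz₁Q
    · exact mem_centralizer_singleton_iff.2 h1.symm
  obtain ⟨a, ha, h3⟩ := key _ h2
  -- `z₁ ∈ R o C_X`
  have h4 : σ⁻¹ * a * σ ∈ R o := by
    rw [← eσ] at ha
    exact mem_cj.1 ha
  have h5 : σ⁻¹ * a * σ * z₁ ∈ CenX V R := by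
    have h6 := conj_inv_mem_of_normalizer (b.NV_le_NCenX hσV) h3
    have e : σ⁻¹ * (a * (σ * z₁ * σ⁻¹)) * σ = σ⁻¹ * a * σ * z₁ := by group
    rwa [e] at h6
  -- `Z(Q j)` centralises `z₁`
  have h6 : ZQ R j ≤ B := by
    intro x hx
    refine ⟨hx, mem_centralizer_singleton_iff.2 ?_⟩
    have h7 : σ⁻¹ * a * σ * x = x * (σ⁻¹ * a * σ) := mem_centralizer_iff.1 (ZQ_le_cen b.toBT j hx) _ (b.R_le o h4)
    have h8 : σ⁻¹ * a * σ * z₁ * x = x * (σ⁻¹ * a * σ * z₁) := cenX_Q b.toBTS (h j) h5 (ZQ_le j hx)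
    have h9 : σ⁻¹ * a * σ * (z₁ * x) = σ⁻¹ * a * σ * (x * z₁) := by
      rw [← mul_assoc, h8, ← mul_assoc, ← h7, mul_assoc]
    exact (mul_left_cancel h9).symm
  exact ZQ_not_RC b.toBTS h hzX hz1 j fun l hl => key l (h6 hl)

variable {r : G} (hr : ∀ x, x ∈ R o ↔ x = 1 ∨ x = r)
include hr

theorem r_ne : r ≠ 1 := by
  rintro rfl
  refine b.R_ne o ((eq_bot_iff_forall _).2 fun x hx => ?_)
  rcases (hr x).1 hx with h | h <;> exact h

theorem r_mem : r ∈ R o := (hr r).2 (Or.inr rfl)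

theorem r_sq : r * r = 1 := b.V_sq r (b.R_le o (r_mem b hr))

/-- `N(R o) = C(r)` -/
theorem mem_N_iff {g : G} : g ∈ normalizer (R o : Set G) ↔ g * r = r * g := by
  constructor
  · intro hg
    exact (mem_centralizer_iff.1 (normalizer_le_cen_of_card (b.card_R o) hg) r (r_mem b hr)).symm
  · intro hg
    refine mem_normalizer_of_conj fun x hx => ?_
    rcases (hr x).1 hx with rfl | rfl
    · rw [mul_one, mul_inv_cancel]; exact one_mem _
    · rw [hg, mul_inv_cancel_right]; exact hx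

/-- a conjugate of `V` under `N(R o)` is determined by one element outside `R o` -/
theorem cj_V_le {k : G} (hk : k ∈ normalizer (R o : Set G)) {W : Subgroup G} (hrW : r ∈ W) {v : G}
    (hv : v ∈ cj k V) (hv1 : v ∉ R o) (hvW : v ∈ W) : cj k V ≤ W := by
  obtain ⟨v, hv, rfl⟩ := hv
  change k * v * k⁻¹ ∉ R o at hv1
  change k * v * k⁻¹ ∈ W at hvW
  obtain ⟨j, hj⟩ := b.R_cov v hv
  have hjo : o ≠ j := by
    rintro rfl
    exact hv1 (conj_mem_of_normalizer hk hj)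
  have hv' : v ≠ 1 := by
    rintro rfl
    apply hv1
    rw [mul_one, mul_inv_cancel]
    exact one_mem _
  rw [← b.R_sup o j hjo, cj_sup]
  refine sup_le ?_ ?_
  · rw [cj_eq_self_iff.2 hk]
    intro x hx
    rcases (hr x).1 hx with rfl | rfl
    · exact one_mem _
    · exact hrW
  · rintro _ ⟨x, hx, rfl⟩
    change k * x * k⁻¹ ∈ W
    by_cases hx1 : x = 1
    · rw [hx1, mul_one, mul_inv_cancel]; exact one_mem _
    · rw [eq_of_card_two (b.card_R j) hj hv' hx hx1]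
      exact hvW

/-- elements of `V^k` are conjugate to `r` under `C(y)` if `y` centralises `X^k` -/
theorem exists_conj {k y : G} (hk : k ∈ normalizer (R o : Set G))
    (hy : y ∈ centralizer (cj k (XX V R) : Set G)) {v : G} (hv : v ∈ cj k V) (hv1 : v ≠ 1) :
    ∃ c ∈ centralizer ({y} : Set G), c * r * c⁻¹ = v := by
  obtain ⟨v, hv, rfl⟩ := hv
  change k * v * k⁻¹ ≠ 1 at hv1
  obtain ⟨j, hj⟩ := b.R_cov v hv
  obtain ⟨x, hx, e⟩ := b.trans_X_one o j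
  rw [← e, mem_cj] at hj
  have h2 := mem_centralizer_iff.1 hy _ (conj_mem_cj hx)
  refine ⟨k * x * k⁻¹, mem_C.2 h2, ?_⟩
  have hkr := (mem_N_iff b hr).1 hk
  rcases (hr _).1 hj with h0 | h0
  · exfalso
    apply hv1
    have h1 : v = 1 := by
      calc v = x * (x⁻¹ * v * x) * x⁻¹ := by group
        _ = 1 := by rw [h0, mul_one, mul_inv_cancel]
    rw [h1, mul_one, mul_inv_cancel]
  · change _ = k * v * k⁻¹
    have h3 : k⁻¹ * r * k = r := by rw [mul_assoc, ← hkr]; group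
    calc k * x * k⁻¹ * r * (k * x * k⁻¹)⁻¹ = k * x * (k⁻¹ * r * k) * x⁻¹ * k⁻¹ := by group
      _ = k * (x * (x⁻¹ * v * x) * x⁻¹) * k⁻¹ := by rw [h3, h0]; group
      _ = k * v * k⁻¹ := by group

/-- `V^k ≤ ⟨r^{C(y)}⟩` if `y` centralises `X^k` -/
theorem cj_le_cl_of {k y : G} (hk : k ∈ normalizer (R o : Set G))
    (hy : y ∈ centralizer (cj k (XX V R) : Set G)) : cj k V ≤ cl (R o) (centralizer ({y} : Set G)) := by
  intro v hv
  by_cases hv1 : v = 1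
  · rw [hv1]; exact one_mem _
  obtain ⟨c, hc, rfl⟩ := exists_conj b hr hk hy hv hv1
  exact cj_le_cl hc (conj_mem_cj (r_mem b hr))

/-- there is `h ∈ N(R o)` with `[V, V^h] ≠ 1` -/
theorem exists_h : ∃ h ∈ normalizer (R o : Set G), ∃ a ∈ V, ∃ c ∈ cj h V, a * c ≠ c * a := by
  have _ := hr
  obtain ⟨h, hh, H⟩ := b.mt o
  refine ⟨h, hh, ?_⟩
  by_contra hcon
  push Not at hcon
  refine b.false_of_comm (h := h) (fun j k hj hk => (H j k hj hk).1) fun v hv => ?_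
  rw [mem_centralizer_iff]
  exact fun w hw => hcon w hw _ (conj_mem_cj hv)

/-- there is an element of `Q o` moving an element of `V` -/
theorem exists_mv : ∃ t ∈ QQ (R o), ∃ v ∈ V, t * v ≠ v * t := by
  obtain ⟨h, hh, a, ha, c, hc, hne⟩ := exists_h b hr
  exact ⟨c, b.W_le_Q o (cj_le_WW hh hc), a, ha, fun e => hne e.symm⟩

/-- for `z ∈ C_Z(P)`: `⟨r^{C(z)}⟩ ≤ Ω₁(Z(O₂(C(z))))` -/
theorem cl_le_zc {z : G} (hz : z ∈ zc S ⊓ centralizer (P : Set G)) (hz1 : z ≠ 1) :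
    cl (R o) (centralizer ({z} : Set G)) ≤ zc (o2 (centralizer ({z} : Set G))) := by
  have _ := hr
  rw [b.cl_R_eq (b.trans_of_X (b.X_le_cen hz))]
  exact b.cl_V_le (b.isLoc_cen hz.1 hz1) (b.X_le_cen hz)

/-- `MP ≤ C(z)` -/
theorem MP_le {z : G} (hz : z ∈ zc S ⊓ centralizer (P : Set G)) (hz1 : z ≠ 1) :
    MP V R o z ≤ centralizer ({z} : Set G) := by
  have _ := hr
  exact sup_le inf_le_right (b.dt hz hz1).X_M

/-- `[W, Q o] ≤ R o` forces `W ≤ Q o` -/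
theorem le_Q_of_comm {W : Subgroup G} (hW : W ≤ normalizer (R o : Set G))
    (h : ∀ w ∈ W, ∀ q ∈ QQ (R o), w * q * w⁻¹ * q⁻¹ ∈ R o) : W ≤ QQ (R o) := by
  have _ := hr
  rw [← b.toBTS.K_eq o]
  exact fun w hw => ⟨hW hw, fun d hd => h w hw d (b.W_le_Q o hd)⟩

/-- elements of `V` are conjugate to `r` under `X` -/
theorem exists_conj_X {v : G} (hv : v ∈ V) (hv1 : v ≠ 1) : ∃ c ∈ XX V R, c * r * c⁻¹ = v := by
  obtain ⟨j, hj⟩ := b.R_cov v hv
  obtain ⟨x, hx, e⟩ := b.trans_X_one o j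
  refine ⟨x, hx, ?_⟩
  have h1 : x * r * x⁻¹ ∈ R j := by rw [← e]; exact conj_mem_cj (r_mem b hr)
  have h2 : x * r * x⁻¹ ≠ 1 := fun h => r_ne b hr (conj_eq_one_iff.1 h)
  exact eq_of_card_two (b.card_R j) hj hv1 h1 h2

/-- (4), (5), (6) of #15368 -/
theorem part_B (hLE : ∀ i, LE V R i) {z : G}
    (hz : z ∈ zc S ⊓ centralizer (P : Set G)) (hz1 : z ≠ 1) {W U : Subgroup G}
    (hW : NatC (MP V R o z) U W r) (hWQ : W ≤ QQ (R o)) (hVW : V ≤ W)
    {U₁ : Subgroup G} (hUle₁ : U₁ ≤ centralizer ({z * r} : Set G))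
    (hsys : GSysW (centralizer ({z * r} : Set G)) U₁ r)
    {w₂ c₂ : G} (hw₂ : w₂ ∈ W) (hc₂ : c₂ * (z * r) = z * r * c₂)
    (hne : c₂ * r * c₂⁻¹ * w₂ ≠ w₂ * (c₂ * r * c₂⁻¹)) : False := by
  have bs := b.toBTS
  have hr1 := r_ne b hr
  have hr2 := r_sq b hr
  have hrR := r_mem b hr
  have hNr := fun g => mem_N_iff b hr (g := g)
  set M := MP V R o z with hM
  have hMz : M ≤ centralizer ({z} : Set G) := MP_le b hr hz hz1
  have hKM : normalizer (R o : Set G) ⊓ centralizer ({z} : Set G) ≤ M := le_sup_left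
  -- `z`
  have hz2 : z * z = 1 := by rw [← pow_two]; exact (mem_zc.1 hz.1).2.2
  have hSz : ∀ s ∈ S, s * z = z * s := (mem_zc.1 hz.1).2.1
  have hSr : ∀ s ∈ S, s * r = r * s := fun s hs => (hNr s).1 (b.S_R hs)
  have hzX : z ∈ CenX V R := b.cz_le hz
  have hzQ : z ∈ ZQ R o := cenX_le_ZQ bs hLE o hzX
  have hrQ : r ∈ ZQ R o := R_le_ZQ b.toBT o hrR
  have hrz : r * z = z * r := ZQ_comm hzQ (ZQ_le o hrQ)
  have hWc : ∀ a ∈ W, ∀ c ∈ W, a * c = c * a := fun a ha c hc => Omega.TV.EA.comm_of hW.sq ha hc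
  -- `y = z r`
  obtain ⟨y, hy⟩ : ∃ y, y = z * r := ⟨_, rfl⟩
  rw [← hy] at hc₂ hsys hUle₁
  have hy2 : y * y = 1 := by
    rw [hy]
    calc z * r * (z * r) = z * (r * z) * r := by group
      _ = z * z * (r * r) := by rw [hrz]; group
      _ = 1 := by rw [hr2, hz2, mul_one]
  have hy1 : y ≠ 1 := by
    intro e
    have h5 : z = r := by
      calc z = z * (r * r) := by rw [hr2, mul_one]
        _ = (z * r) * r := by group
        _ = r := by rw [← hy, e, one_mul]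
    have h6 : r ∈ V ⊓ (zc S ⊓ centralizer (P : Set G)) :=
      ⟨b.R_le o hrR, by rw [← h5]; exact hz⟩
    rw [b.R_inf_cz, mem_bot] at h6
    exact hr1 h6
  have hSy : ∀ s ∈ S, s * y = y * s := by
    intro s hs
    rw [hy, ← mul_assoc, hSz s hs, mul_assoc, hSr s hs, ← mul_assoc]
  have hyQ : y ∈ ZQ R o := by rw [hy]; exact mul_mem hzQ hrQ
  have hQy : ∀ q ∈ QQ (R o), q ∈ centralizer ({y} : Set G) := fun q hq => mem_C.2 (ZQ_comm hyQ hq)
  have hzy : z = y * r := by rw [hy, mul_assoc, hr2, mul_one]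
  -- `C(y) ∩ C(r) = C(z) ∩ C(r)`
  have hCzy : ∀ g : G, g * r = r * g → (g ∈ centralizer ({z} : Set G) ↔ g ∈ centralizer ({y} : Set G)) := by
    intro g hg
    rw [mem_C, mem_C]
    constructor
    · intro h5
      rw [hy, ← mul_assoc, h5, mul_assoc, hg, ← mul_assoc]
    · intro h5
      rw [hzy, ← mul_assoc, h5, mul_assoc, hg, ← mul_assoc]
  set C₁ := centralizer ({y} : Set G) with hC₁
  have hUsq₁ : ∀ x ∈ U₁, x * x = 1 := hsys.sq
  have hUcm₁ : ∀ x ∈ U₁, ∀ y ∈ U₁, x * y = y * x := fun x hx y hy => Omega.TV.EA.comm_of hUsq₁ hx hy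
  have hrU₁ : r ∈ U₁ := hsys.mem
  have hU₁C : ∀ n ∈ U₁, n ∈ C₁ := fun n hn => hUle₁ hn
  have hU₁r : ∀ n ∈ U₁, n * r = r * n := fun n hn => hUcm₁ n hn r hrU₁
  have hnU₁ : C₁ ≤ normalizer (U₁ : Set G) := fun c hc => mem_normalizer_of_conj (fun x hx => hsys.nor c hc x hx)
  have hpU₁ : c₂ * r * c₂⁻¹ ∈ U₁ := conj_mem_of_normalizer (hnU₁ (mem_C.2 hc₂)) hrU₁
  -- the group `K = N(R o) ∩ C(z)` normalises `W`
  have hKW : ∀ c : G, c * r = r * c → c ∈ C₁ → ∀ x ∈ W, c * x * c⁻¹ ∈ W := by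
    intro c hcr hc
    refine hW.blk c (hKM ⟨(hNr c).2 hcr, (hCzy c hcr).2 hc⟩) r hW.mem hr1 ?_
    rw [hcr, mul_inv_cancel_right]
    exact hW.mem
  have hMC : ∀ c ∈ M, c * r = r * c → c ∈ C₁ := fun c hc hcr => (hCzy c hcr).1 (hMz hc)
  have hWC₁ : ∀ x ∈ W, x ∈ C₁ := fun x hx => hQy x (hWQ hx)
  -- `W ∩ U₁ = ⟨r⟩`
  have hWU : ∀ x ∈ W, x ∈ U₁ → x = 1 ∨ x = r := by
    rcases hW.irr r hW.mem hr1 (W ⊓ U₁) inf_le_left ⟨hW.mem, hrU₁⟩ (by
      rintro c hc hcr a ⟨ha, ha'⟩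
      exact ⟨hKW c hcr (hMC c hc hcr) a ha, conj_mem_of_normalizer (hnU₁ (hMC c hc hcr)) ha'⟩) with h5 | h5
    · exact fun x hx hx' => h5 x ⟨hx, hx'⟩
    · exact absurd (hUcm₁ _ hpU₁ _ (h5 hw₂).2) hne
  have hact : ∀ t ∈ W, ∀ n ∈ U₁, t * n * t⁻¹ = n ∨ t * n * t⁻¹ = n * r := by
    intro t ht n hn
    have h5 : t * n * t⁻¹ ∈ U₁ := conj_mem_of_normalizer (hnU₁ (hWC₁ t ht)) hn
    have h6 : n * t⁻¹ * n⁻¹ ∈ W := hKW n (hU₁r n hn) (hU₁C n hn) _ (inv_mem ht)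
    have h7 : t * n * t⁻¹ * n⁻¹ ∈ W := by
      have e : t * n * t⁻¹ * n⁻¹ = t * (n * t⁻¹ * n⁻¹) := by group
      rw [e]; exact mul_mem ht h6
    rcases hWU _ h7 (mul_mem h5 (inv_mem hn)) with h8 | h8
    · left; exact mul_inv_eq_one.1 h8
    · right
      rw [mul_inv_eq_iff_eq_mul] at h8
      rw [h8]
      exact hUcm₁ r hrU₁ n hn
  have hcen : ∀ x ∈ W, (∀ n ∈ U₁, x * n * x⁻¹ = n) → x = 1 ∨ x = r := by
    rcases hW.irr r hW.mem hr1 (W ⊓ centralizer (U₁ : Set G)) inf_le_left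
        ⟨hW.mem, mem_centralizer_iff.2 fun n hn => hU₁r n hn⟩ (by
      rintro c hc hcr a ⟨ha, ha'⟩
      exact ⟨hKW c hcr (hMC c hc hcr) a ha, conj_mem_of_normalizer
        (normalizer_le_normalizer_centralizer _ (hnU₁ (hMC c hc hcr))) ha'⟩) with h5 | h5
    · intro x hx hx'
      exact h5 x ⟨hx, mem_centralizer_iff.2 fun n hn => (mul_inv_eq_iff_eq_mul.1 (hx' n hn)).symm⟩
    · exact absurd (mem_centralizer_iff.1 (h5 hw₂).2 _ hpU₁) hne
  have hmv : ∀ x ∈ W, (x ≠ 1 ∧ x ≠ r) → ∃ n ∈ U₁, x * n * x⁻¹ ≠ n := by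
    rintro x hx ⟨hx1, hx2⟩
    by_contra hcon
    push Not at hcon
    rcases hcen x hx hcon with h5 | h5
    · exact hx1 h5
    · exact hx2 h5
  -- `W₁`
  obtain ⟨a, ha, c, hc, hna, hnc, hnac⟩ := natC_two hW hr2
  obtain ⟨W₁, hW₁, -⟩ := natC_of' hsys
    (hWC₁ a ha) (hWC₁ c hc) (hact a ha) (hact c hc) (hmv a ha hna) (hmv c hc hnc)
    (hmv _ (mul_mem ha hc) hnac)
  have hπW₁ : c₂ * r * c₂⁻¹ ∈ W₁ := by
    refine hW₁.adj r hW₁.mem hr1 w₂ (hWC₁ w₂ hw₂) (hact w₂ hw₂) c₂ (mem_C.2 hc₂) ?_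
    intro e
    exact hne (mul_inv_eq_iff_eq_mul.1 e).symm
  have hW₁U : W₁ ≤ U₁ := hW₁.W_le
  have hW₁N : W₁ ≤ normalizer (R o : Set G) := fun x hx => (hNr x).2 (hU₁r x (hW₁U hx))
  -- `K` normalises `W₁`
  have hKW₁ : ∀ c ∈ C₁, c * r = r * c → ∀ x ∈ W₁, c * x * c⁻¹ ∈ W₁ := by
    intro c hc hcr
    refine hW₁.blk c hc r hW₁.mem hr1 ?_
    rw [hcr, mul_inv_cancel_right]
    exact hW₁.mem
  -- (5)
  have hW₁Q : W₁ ≤ QQ (R o) := by
    rcases hW₁.irr r hW₁.mem hr1 (W₁ ⊓ QQ (R o)) inf_le_left ⟨hW₁.mem, ZQ_le o hrQ⟩ (by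
      rintro c hc hcr x ⟨hx, hx'⟩
      exact ⟨hKW₁ c hc hcr x hx, conj_mem_of_normalizer (le_normalizer_O2 _ ((hNr c).2 hcr)) hx'⟩) with h5 | h5
    · refine le_Q_of_comm b hr hW₁N fun w hw q hq => ?_
      have h6 : w * q * w⁻¹ ∈ QQ (R o) := conj_mem_of_normalizer (le_normalizer_O2 _ (hW₁N hw)) hq
      have hqr : q * r = r * q := ZQ_comm hrQ hq
      have h7 : q * w⁻¹ * q⁻¹ ∈ W₁ := hKW₁ q (hQy q hq) hqr _ (inv_mem hw)
      have h8 : w * q * w⁻¹ * q⁻¹ ∈ W₁ := by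
        have e : w * q * w⁻¹ * q⁻¹ = w * (q * w⁻¹ * q⁻¹) := by group
        rw [e]; exact mul_mem hw h7
      exact (hr _).2 (h5 _ ⟨h8, (QQ (R o)).mul_mem h6 ((QQ (R o)).inv_mem hq)⟩)
    · exact h5.trans inf_le_right
  -- (6)
  have hW₁V : ∃ x ∈ W₁, x ∉ centralizer (V : Set G) := by
    by_contra hcon
    push Not at hcon
    rcases hW.irr r hW.mem hr1 (W ⊓ centralizer (W₁ : Set G)) inf_le_left
        ⟨hW.mem, mem_centralizer_iff.2 fun n hn => hU₁r n (hW₁U hn)⟩ (by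
      rintro c hc hcr a ⟨ha, ha'⟩
      refine ⟨hKW c hcr (hMC c hc hcr) a ha, mem_centralizer_iff.2 fun x hx => ?_⟩
      have hci : c⁻¹ * r = r * c⁻¹ := by
        rw [inv_mul_eq_iff_eq_mul, ← mul_assoc, hcr, mul_inv_cancel_right]
      have h1 := hKW₁ c⁻¹ (inv_mem (hMC c hc hcr)) hci x hx
      rw [inv_inv] at h1
      have h2 := mem_centralizer_iff.1 ha' _ h1
      calc x * (c * a * c⁻¹) = c * ((c⁻¹ * x * c) * a) * c⁻¹ := by group
        _ = c * (a * (c⁻¹ * x * c)) * c⁻¹ := by rw [h2]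
        _ = c * a * c⁻¹ * x := by group) with h5 | h5
    · -- `V ≤ {1, r}`
      obtain ⟨j, -, hj, -, -⟩ := b.one_lt
      obtain ⟨e, he, he1⟩ := b.exists_ne j
      have heV := b.R_le j he
      have h6 : e ∈ centralizer (W₁ : Set G) := mem_centralizer_iff.2 fun x hx =>
        (mem_centralizer_iff.1 (hcon x hx) e heV).symm
      rcases h5 e ⟨hVW heV, h6⟩ with h7 | h7
      · exact he1 h7
      · apply he1
        refine b.eq_one (Ne.symm hj) ?_ he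
        rw [h7]; exact hrR
    · exact hne (mem_centralizer_iff.1 (h5 hw₂).2 _ hπW₁)
  obtain ⟨x, hx, hxV⟩ := hW₁V
  obtain ⟨j, -, hj, -, -⟩ := b.one_lt
  have hW₁Z : ∀ x ∈ W₁, x ∈ ZQ R o → x ∈ R o := by
    rcases hW₁.irr r hW₁.mem hr1 (W₁ ⊓ ZQ R o) inf_le_left ⟨hW₁.mem, hrQ⟩ (by
      rintro c hc hcr x ⟨hx, hx'⟩
      exact ⟨hKW₁ c hc hcr x hx, conj_mem_of_normalizer (N_le_NZQ o ((hNr c).2 hcr)) hx'⟩) with h5 | h5
    · exact fun x hx hx' => (hr x).2 (h5 x ⟨hx, hx'⟩)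
    · exact absurd (ZQ_le_cen b.toBT o (h5 hx).2) hxV
  refine lemX_false bs hLE (Ne.symm hj) (fun x hx => (hr x).1 hx) hW₁Q
    (fun a ha c hc => hUcm₁ a (hW₁U ha) c (hW₁U hc)) (j := j) ?_ hx hxV hW₁Z hzX hz1
  intro e he x hx
  have her : e * r = r * e := (mem_centralizer_iff.1 (EE_le_cen j he) r (b.R_le o hrR)).symm
  have hez : e ∈ centralizer ({z} : Set G) := mem_C.2 (cenX_Q bs (hLE j) hzX (EE_le_Q j he)).symm
  exact hKW₁ e ((hCzy e her).1 hez) her x hx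

/-- **#15368**, `|T| ≥ 4` -/
theorem not_alpha_aux (hLE : ∀ i, LE V R i) {z : G} (hz : z ∈ zc S ⊓ centralizer (P : Set G)) (hz1 : z ≠ 1)
    (hsysM : GSysW (MP V R o z) (cl (R o) (MP V R o z)) r)
    (hY : ∃ Y ≤ centralizer ({z * r} : Set G), GSysW (centralizer ({z * r} : Set G)) Y r) :
    ¬ UM V (MP V R o z) ≤ QQ (R o) := by
  intro hα
  have bs := b.toBTS
  have d := b.dt hz hz1
  have hr1 := r_ne b hr
  have hr2 := r_sq b hr
  have hrR := r_mem b hr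
  have hNr := fun g => mem_N_iff b hr (g := g)
  obtain ⟨M, hM⟩ : ∃ M, M = MP V R o z := ⟨_, rfl⟩
  have hMz : M ≤ centralizer ({z} : Set G) := by rw [hM]; exact MP_le b hr hz hz1
  have hKM : normalizer (R o : Set G) ⊓ centralizer ({z} : Set G) ≤ M := by rw [hM]; exact le_sup_left
  have hXM : XX V R ≤ M := by rw [hM]; exact le_sup_right
  have hz2 : z * z = 1 := by rw [← pow_two]; exact (mem_zc.1 hz.1).2.2
  have hSz : ∀ s ∈ S, s * z = z * s := (mem_zc.1 hz.1).2.1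
  have hSr : ∀ s ∈ S, s * r = r * s := fun s hs => (hNr s).1 (b.S_R hs)
  have hzX : z ∈ CenX V R := b.cz_le hz
  have hzQ : z ∈ ZQ R o := cenX_le_ZQ bs hLE o hzX
  have hrQ : r ∈ ZQ R o := R_le_ZQ b.toBT o hrR
  have hQz : ∀ q ∈ QQ (R o), q ∈ centralizer ({z} : Set G) := fun q hq => mem_C.2 (ZQ_comm hzQ hq)
  have hQM : ∀ q ∈ QQ (R o), q ∈ M := fun q hq => hKM ⟨b.Q_le o hq, hQz q hq⟩
  have hSM : S ≤ M := fun s hs => hKM ⟨b.S_R hs, mem_C.2 (hSz s hs)⟩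
  rw [← hM] at hα hsysM
  obtain ⟨a, ha, c, hc, hna, hnc, hnac⟩ := alpha_two b hLE hz hz1 hKM hα
  have hUeq : cl (R o) M = UM V M := b.cl_R_eq (b.trans_of_X hXM)
  rw [← hUeq] at hα hna hnc hnac
  have hUz := cl_le_zc b hr hz hz1
  have hUle : cl (R o) M ≤ cl (R o) (centralizer ({z} : Set G)) := iSup_le fun m => cj_le_cl (hMz m.2)
  set Uf := cl (R o) (centralizer ({z} : Set G)) with hUf
  have hUfcm : ∀ x ∈ Uf, ∀ y ∈ Uf, x * y = y * x := fun x hx y hy =>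
    (mem_zc.1 (hUz hy)).2.1 x (zc_le _ (hUz hx))
  set U := cl (R o) M with hU
  have hUsq : ∀ x ∈ U, x * x = 1 := fun x hx => by
    rw [← pow_two]; exact (mem_zc.1 (hUz (hUle hx))).2.2
  -- `Q o` acts on `U` as transvections
  have hQU : ∀ q ∈ QQ (R o), ∀ n ∈ U, q * n * q⁻¹ = n ∨ q * n * q⁻¹ = n * r := by
    intro q hq n hn
    have h5 := Q_comm bs (hLE o) hq (hα hn)
    rcases (hr _).1 h5 with h6 | h6
    · left; exact mul_inv_eq_one.1 h6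
    · right
      rw [mul_inv_eq_iff_eq_mul] at h6
      rw [h6]
      exact (b.QR o n (hα hn) r hrR).symm
  have hmv : ∀ q : G, q ∉ centralizer (U : Set G) → ∃ n ∈ U, q * n * q⁻¹ ≠ n := by
    intro q hq
    by_contra hcon
    push Not at hcon
    exact hq (mem_centralizer_iff.2 fun n hn => (mul_inv_eq_iff_eq_mul.1 (hcon n hn)).symm)
  obtain ⟨W, hW, -⟩ := natC_of' hsysM (hQM a ha)
    (hQM c hc) (hQU a ha) (hQU c hc) (hmv a hna) (hmv c hnc) (hmv _ hnac)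
  have hWU : W ≤ U := hW.W_le
  have hWQ : W ≤ QQ (R o) := hWU.trans hα
  -- `V ≤ W`
  have hVW : V ≤ W := by
    obtain ⟨t, ht, v, hv, hne⟩ := exists_mv b hr
    have hv1 : v ≠ 1 := by
      rintro rfl
      exact hne (by rw [mul_one, one_mul])
    obtain ⟨c, hc, e⟩ := exists_conj_X b hr hv hv1
    have h1 := hW.adj r hW.mem hr1 t (hQM t ht) (hQU t ht) c (hXM hc) (by
      rw [e]
      intro h
      exact hne (mul_inv_eq_iff_eq_mul.1 h))
    rw [e] at h1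
    have h2 := cj_V_le b hr (k := 1) (one_mem _) hW.mem (v := v) (by rw [cj_one]; exact hv) (by
      intro hvo
      apply hne
      have h3 := ((hr v).1 hvo).resolve_left hv1
      rw [h3]
      exact b.QR o t ht r hrR) h1
    rwa [cj_one] at h2
  have hKW : ∀ c : G, c * r = r * c → c * z = z * c → ∀ x ∈ W, c * x * c⁻¹ ∈ W := by
    intro c hcr hc
    refine hW.blk c (hKM ⟨(hNr c).2 hcr, mem_C.2 hc⟩) r hW.mem hr1 ?_
    rw [hcr, mul_inv_cancel_right]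
    exact hW.mem
  -- `V^h`
  obtain ⟨h, hh, a₀, ha₀, c₀, hc₀, hne₀⟩ := exists_h b hr
  have hhr : h * r = r * h := (hNr h).1 hh
  have hhr' : h⁻¹ * r = r * h⁻¹ := (hNr h⁻¹).1 (inv_mem hh)
  obtain ⟨y, hy⟩ : ∃ y, y = h * z * h⁻¹ := ⟨_, rfl⟩
  have hzy : z = h⁻¹ * y * h := by rw [hy]; group
  have hyQ : y ∈ ZQ R o := by rw [hy]; exact conj_mem_of_normalizer (N_le_NZQ o hh) hzQ
  have hyy : y * y = 1 := by
    rw [hy]
    calc h * z * h⁻¹ * (h * z * h⁻¹) = h * (z * z) * h⁻¹ := by group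
      _ = 1 := by rw [hz2, mul_one, mul_inv_cancel]
  have hcV : c₀ ∉ centralizer (V : Set G) := fun hc => hne₀ (mem_centralizer_iff.1 hc a₀ ha₀)
  have hW'n : ∀ c : G, c * y = y * c → c * r = r * c → ∀ x ∈ cj h W, c * x * c⁻¹ ∈ cj h W := by
    rintro c hcy hcr _ ⟨x, hx, rfl⟩
    change c * (h * x * h⁻¹) * c⁻¹ ∈ cj h W
    have h1 : (h⁻¹ * c * h) * z = z * (h⁻¹ * c * h) := by
      rw [hzy]
      calc h⁻¹ * c * h * (h⁻¹ * y * h) = h⁻¹ * (c * y) * h := by group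
        _ = h⁻¹ * (y * c) * h := by rw [hcy]
        _ = _ := by group
    have h2 : (h⁻¹ * c * h) * r = r * (h⁻¹ * c * h) := by
      calc h⁻¹ * c * h * r = h⁻¹ * c * (h * r) := by group
        _ = h⁻¹ * (c * r) * h := by rw [hhr]; group
        _ = (h⁻¹ * r) * c * h := by rw [hcr]; group
        _ = r * (h⁻¹ * c * h) := by rw [hhr']; group
    have h3 := hKW _ h2 h1 x hx
    have e : c * (h * x * h⁻¹) * c⁻¹ = h * (h⁻¹ * c * h * x * (h⁻¹ * c * h)⁻¹) * h⁻¹ := by group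
    rw [e]
    exact conj_mem_cj h3
  have hW'Q : cj h W ≤ QQ (R o) := by
    have h1 := cj_mono (g := h) hWQ
    rwa [cj_eq_self_iff.2 (le_normalizer_O2 _ hh)] at h1
  have hW'sq : ∀ x ∈ cj h W, x * x = 1 := by
    rintro _ ⟨x, hx, rfl⟩
    change h * x * h⁻¹ * (h * x * h⁻¹) = 1
    calc h * x * h⁻¹ * (h * x * h⁻¹) = h * (x * x) * h⁻¹ := by group
      _ = 1 := by rw [hW.sq x hx, mul_one, mul_inv_cancel]
  obtain ⟨j, -, hj, -, -⟩ := b.one_lt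
  rcases four' bs hj hr hyy hyQ hW'Q hW'sq hW'n (by
    rintro _ ⟨w, hw, rfl⟩ hw1
    change h * w * h⁻¹ ≠ 1 at hw1
    have hw1' : w ≠ 1 := fun e => hw1 (by rw [e, mul_one, mul_inv_cancel])
    obtain ⟨k, hk, e⟩ := hW.pt w hw hw1'
    have hkz := mem_C.1 (hMz hk)
    refine ⟨h * k * h⁻¹, ?_, ?_, ?_⟩
    · rw [hy]
      calc h * k * h⁻¹ * (h * z * h⁻¹) = h * (k * z) * h⁻¹ := by group
        _ = h * (z * k) * h⁻¹ := by rw [hkz]
        _ = _ := by group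
    · change _ = h * w * h⁻¹
      calc h * k * h⁻¹ * r * (h * k * h⁻¹)⁻¹ = h * k * (h⁻¹ * r) * h * k⁻¹ * h⁻¹ := by group
        _ = h * (k * r * k⁻¹) * h⁻¹ := by rw [hhr']; group
        _ = h * w * h⁻¹ := by rw [e]
    · rintro _ ⟨x, hx, rfl⟩
      change (h * k * h⁻¹)⁻¹ * (h * x * h⁻¹) * (h * k * h⁻¹) ∈ cj h W
      have h1 := hW.blk k⁻¹ (inv_mem hk) w hw hw1' (by
        rw [← e]
        have e2 : k⁻¹ * (k * r * k⁻¹) * k⁻¹⁻¹ = r := by group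
        rw [e2]; exact hW.mem) x hx
      have e2 : (h * k * h⁻¹)⁻¹ * (h * x * h⁻¹) * (h * k * h⁻¹) = h * (k⁻¹ * x * k⁻¹⁻¹) * h⁻¹ := by group
      rw [e2]
      exact conj_mem_cj h1) (cj_mono hVW hc₀) hcV with ⟨a, ha, hX⟩ | ⟨w₁, hw₁, c₁, hc₁, hne₁⟩
  · rcases (hr a).1 ha with rfl | rfl
    · -- `y ∈ C_X`
      rw [one_mul] at hX
      have e1 : cl (R o) (centralizer ({y} : Set G)) = cj h Uf := by
        rw [hUf, AlphaFive.cj_cl, AlphaFive.cj_C, ← hy, cj_eq_self_iff.2 hh]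
      have h1 : V ≤ cj h Uf := by
        rw [← e1]
        have := cj_le_cl_of b hr (k := 1) (y := y) (one_mem _) (by rw [cj_one]; exact hX)
        rwa [cj_one] at this
      have h2 : cj h V ≤ cj h Uf := by
        apply cj_mono
        have := cj_le_cl_of b hr (k := 1) (y := z) (one_mem _) (by rw [cj_one]; exact hzX)
        rwa [cj_one] at this
      apply hne₀
      obtain ⟨x, hx, e3⟩ := h1 ha₀
      obtain ⟨x', hx', e4⟩ := h2 hc₀
      rw [← e3, ← e4]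
      change h * x * h⁻¹ * (h * x' * h⁻¹) = h * x' * h⁻¹ * (h * x * h⁻¹)
      calc h * x * h⁻¹ * (h * x' * h⁻¹) = h * (x * x') * h⁻¹ := by group
        _ = h * (x' * x) * h⁻¹ := by rw [hUfcm x hx x' hx']
        _ = _ := by group
    · -- `r y ∈ C_X`
      refine lemX_false bs hLE (Ne.symm hj) (fun x hx => (hr x).1 hx) hW'Q
        (fun a ha c hc => Omega.TV.EA.comm_of hW'sq ha hc) (j := j) ?_ (cj_mono hVW hc₀) hcV ?_ hzX hz1
      · intro e he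
        have her : e * a = a * e := (mem_centralizer_iff.1 (EE_le_cen j he) a (b.R_le o hrR)).symm
        refine hW'n e ?_ her
        have h1 : a * y * e = e * (a * y) := cenX_Q bs (hLE j) hX (EE_le_Q j he)
        have h2 : a * (y * e) = a * (e * y) := by
          rw [← mul_assoc, h1, ← mul_assoc, her, mul_assoc]
        exact (mul_left_cancel h2).symm
      · have h0 : ∀ x ∈ W, x ∈ ZQ R o → x = 1 ∨ x = a := by
          rcases hW.irr a hW.mem hr1 (W ⊓ ZQ R o) inf_le_left ⟨hW.mem, hrQ⟩ (by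
            rintro c hc hcr x ⟨hx, hx'⟩
            exact ⟨hKW c hcr (mem_C.1 (hMz hc)) x hx,
              conj_mem_of_normalizer (N_le_NZQ o ((hNr c).2 hcr)) hx'⟩) with h5 | h5
          · exact fun x hx hx' => h5 x ⟨hx, hx'⟩
          · exfalso
            obtain ⟨t, ht, v, hv, hne⟩ := exists_mv b hr
            exact hne (ZQ_comm (h5 (hVW hv)).2 ht)
        rintro _ ⟨x, hx, rfl⟩ hxZ
        change h * x * h⁻¹ ∈ ZQ R o at hxZ
        change h * x * h⁻¹ ∈ R o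
        have h1 : x ∈ ZQ R o := by
          have h2 := conj_inv_mem_of_normalizer (N_le_NZQ o hh) hxZ
          have e : h⁻¹ * (h * x * h⁻¹) * h = x := by group
          rwa [e] at h2
        exact conj_mem_of_normalizer hh ((hr x).2 (h0 x hx h1))
  · -- conjugate back
    obtain ⟨w₂, hw₂, rfl⟩ := hw₁
    change c₁ * r * c₁⁻¹ * (h * w₂ * h⁻¹) ≠ h * w₂ * h⁻¹ * (c₁ * r * c₁⁻¹) at hne₁
    rw [hM] at hW
    obtain ⟨Y, hYle, hYs⟩ := hY
    refine part_B b hr hLE hz hz1 hW hWQ hVW hYle hYs (w₂ := w₂) (c₂ := h⁻¹ * c₁ * h) hw₂ ?_ ?_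
    · have e : z * r = h⁻¹ * (y * r) * h := by
        rw [hzy]
        calc h⁻¹ * y * h * r = h⁻¹ * y * (h * r) := by group
          _ = h⁻¹ * (y * r) * h := by rw [hhr]; group
      rw [e]
      calc h⁻¹ * c₁ * h * (h⁻¹ * (y * r) * h) = h⁻¹ * (c₁ * (y * r)) * h := by group
        _ = h⁻¹ * (y * r * c₁) * h := by rw [hc₁]
        _ = _ := by group
    · intro e
      apply hne₁
      have e1 : h⁻¹ * c₁ * h * r * (h⁻¹ * c₁ * h)⁻¹ = h⁻¹ * (c₁ * r * c₁⁻¹) * h := by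
        calc h⁻¹ * c₁ * h * r * (h⁻¹ * c₁ * h)⁻¹ = h⁻¹ * c₁ * (h * r) * h⁻¹ * c₁⁻¹ * h := by group
          _ = _ := by rw [hhr]; group
      rw [e1] at e
      calc c₁ * r * c₁⁻¹ * (h * w₂ * h⁻¹) = h * (h⁻¹ * (c₁ * r * c₁⁻¹) * h * w₂) * h⁻¹ := by group
        _ = h * (w₂ * (h⁻¹ * (c₁ * r * c₁⁻¹) * h)) * h⁻¹ := by rw [e]
        _ = _ := by group

end two

/-- **(α) is dead for the small group `M' = ⟨C_{H₁}(z), X⟩`**, over `S` -/
theorem not_alpha' {G : Type u} [Group G] [Finite G] {ι : Type*} {S P V : Subgroup G}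
    {R : ι → Subgroup G} {o : ι} (b : HTT S P V R o) (hLE : ∀ i, LE V R i) {r : G}
    (hr : ∀ x, x ∈ R o ↔ x = 1 ∨ x = r) {z : G}
    (hz : z ∈ zc S ⊓ centralizer (P : Set G)) (hz1 : z ≠ 1)
    (hsysM : GSysW (MP V R o z) (cl (R o) (MP V R o z)) r)
    (hY : ∃ Y ≤ centralizer ({z * r} : Set G), GSysW (centralizer ({z * r} : Set G)) Y r) :
    ¬ UM V (MP V R o z) ≤ QQ (R o) :=
  not_alpha_aux b hr hLE hz hz1 hsysM hY

/-- the module `Y = ⟨r^{C(y)}⟩`, if `S` is a Sylow group of `C(y)`, `y = z r` -/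
theorem exists_Y_of_odd {G : Type u} [Group G] [Finite G] {ι : Type*} {S P V : Subgroup G}
    {R : ι → Subgroup G} {o : ι} (b : HTT S P V R o) {r : G}
    (hr : ∀ x, x ∈ R o ↔ x = 1 ∨ x = r) {y : G} (hyy : y * y = 1) (hy1 : y ≠ 1)
    (hSy : ∀ s ∈ S, s * y = y * s) (hodd : ¬ 2 ∣ S.relIndex (centralizer ({y} : Set G))) :
    ∃ Y ≤ centralizer ({y} : Set G), GSysW (centralizer ({y} : Set G)) Y r := by
  obtain ⟨C, hC⟩ : ∃ C, C = centralizer ({y} : Set G) := ⟨_, rfl⟩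
  have hSC : S ≤ C := by rw [hC]; exact fun s hs => mem_C.2 (hSy s hs)
  have hloc : TLoc S C := by rw [hC]; exact TLoc.centralizer (by rw [pow_two]; exact hyy) hy1 (hC ▸ hSC)
  rw [← hC] at hodd ⊢
  have hoS : o2 C ≤ S := o2_le_of_sylow b.S_p hodd
  have hSr : ∀ s ∈ S, s * r = r * s := fun s hs => (mem_N_iff b hr).1 (b.S_R hs)
  have h1 : cl (R o) C ≤ zc (o2 C) := by
    refine cl_le ?_ ((Cfsg.Agent.ZN.le_normalizer_o2 _).trans (ZN.normalizer_le_normalizer_zc _))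
    intro x hx
    have hxS : ∀ s ∈ S, s * x = x * s := by
      intro s hs
      rcases (hr x).1 hx with rfl | rfl
      · rw [mul_one, one_mul]
      · exact hSr s hs
    have h2 : x ∈ centralizer (o2 C : Set G) := mem_centralizer_iff.2 fun s hs => hxS s (hoS hs)
    have h3 : x ∈ o2 C := hloc.char2 b.char2 ⟨hSC (b.V_le_S (b.R_le o hx)), h2⟩
    exact ZN.mem_zc.2 ⟨h3, fun c hc => mem_centralizer_iff.1 h2 c hc, by rw [pow_two]; exact b.V_sq x (b.R_le o hx)⟩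
  have hsq : ∀ x ∈ cl (R o) C, x * x = 1 := fun x hx => by rw [← pow_two]; exact (ZN.mem_zc.1 (h1 hx)).2.2
  have hnor : ∀ c ∈ C, ∀ n ∈ cl (R o) C, c * n * c⁻¹ ∈ cl (R o) C := fun c hc n hn =>
    conj_mem_of_normalizer (le_normalizer_cl _ _ hc) hn
  refine ⟨cl (R o) C, h1.trans ((ZN.zc_le _).trans (ZN.o2_le _)), hsq, hnor, le_cl _ _ (r_mem b hr), r_ne b hr, ?_⟩
  intro U hU hCU c hc h2 h3
  refine chain_of_core hsq hnor (core_of_T hSC b.S_p hodd ?_) hU hCU hc h2 h3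
  intro s hs
  rw [mem_centralizer_iff]
  intro x hx
  rcases (hr x).1 hx with rfl | rfl
  · rw [mul_one, one_mul]
  · exact (hSr s hs).symm

end Cfsg.Agent.Omega.HT.AlphaP

end

section


/-!
# `HTT`: `O₂(M / C_M(U)) = 1` if `|S|` is at least half the order of every 2-subgroup

* `core_X` : for `M ≥ S, X`, `U = ⟨(R o)^M⟩` elementary abelian (703's `FillA` for `HTT`);
* `core_Y` : two situations `b`, `b₂` over the same `S`; `M ≥ S, X₂`: for `⟨(R o)^M⟩ ⟨(R₂ o₂)^M⟩`;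
* `gsys_X`, `gsys_MP`, `exists_Y` : the structures `GSysW`; `not_alpha_two`.
-/

set_option autoImplicit false
set_option linter.unusedSectionVars false

namespace Cfsg.Agent.Omega.HT.Core

open Subgroup Cfsg Cfsg.Agent.ZN Cfsg.Agent.Omega.BTwo
open Cfsg.Agent.Omega.MinPar Cfsg.Agent.Omega.HOneTwo Cfsg.Agent.Omega.HT.TComp
open Cfsg.Agent.Omega.HTwo.AlphaFive (mem_C)
open Cfsg.Agent.Omega.HTwo.AlphaP (MP)
open Cfsg.Agent.Omega.HTwo.ThmA (LE)

universe u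

variable {G : Type u} [Group G] [Finite G] {ι : Type*} {S P V : Subgroup G} {R : ι → Subgroup G} {o : ι}

/-- a 2-group `U ≤ N` normalised by `S`, `S` of odd index in `N` -/
theorem le_of_odd {S U N : Subgroup G} (hS : IsPGroup 2 S) (hSN : S ≤ N) (hodd : ¬ 2 ∣ S.relIndex N)
    (hU : IsPGroup 2 U) (hUN : U ≤ N) (hSU : S ≤ normalizer (U : Set G)) : U ≤ S := by
  have h1 : IsPGroup 2 (U ⊔ S : Subgroup G) := IsPGroup.to_sup_of_normal_left' hU hS hSU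
  have h2 := card_dvd_card hSN hodd h1 (sup_le hUN hSN)
  have h3 : S = U ⊔ S := eq_of_le_of_card_ge le_sup_right (Nat.le_of_dvd Nat.card_pos h2)
  rw [h3]
  exact le_sup_left

/-- squares 1 -/
theorem comm_of_sq {N : Subgroup G} (sq : ∀ x ∈ N, x * x = 1) {x y : G} (hx : x ∈ N) (hy : y ∈ N) :
    x * y = y * x := by
  have e1 := sq _ (N.mul_mem hx hy)
  calc x * y = x * (x * y * (x * y)) * y := by rw [e1, mul_one]
    _ = (x * x) * (y * x) * (y * y) := by group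
    _ = y * x := by rw [sq x hx, sq y hy, one_mul, mul_one]

theorem isPGroup_of_sq {N : Subgroup G} (sq : ∀ x ∈ N, x * x = 1) : IsPGroup 2 N := by
  intro x
  refine ⟨1, ?_⟩
  rw [pow_one, pow_two]
  exact Subtype.ext (sq _ x.2)

variable (b : HTT S P V R o)
include b

/-- `⟨(R o)^M⟩ ≤ S` if it is elementary abelian -/
theorem cl_le_S {M : Subgroup G} (hSM : S ≤ M) (sq : ∀ x ∈ cl (R o) M, x * x = 1) : cl (R o) M ≤ S := by
  refine le_of_odd b.S_p b.S_R b.S_odd (isPGroup_of_sq sq) ?_ (hSM.trans (le_normalizer_cl _ _))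
  refine le_trans ?_ (centralizer_le_normalizer _)
  intro x hx
  rw [mem_centralizer_iff]
  intro y hy
  exact comm_of_sq sq (le_cl _ _ hy) hx

/-- **FILL-IN (a)** for `HTT`: `O₂(M / C_M(U)) = 1`, `U = ⟨(R o)^M⟩` -/
theorem core_X (hcard : ∀ Q : Subgroup G, IsPGroup 2 Q → Nat.card Q ≤ 2 * Nat.card S) {M : Subgroup G}
    (hSM : S ≤ M) (hXM : XX V R ≤ M) (sq : ∀ x ∈ cl (R o) M, x * x = 1)
    (B : Subgroup G) (hB : B ≤ M) (hn : ∀ m ∈ M, ∀ b ∈ B, m * b * m⁻¹ ∈ B)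
    (h2 : ∀ b ∈ B, ∀ u ∈ cl (R o) M, b * b * u = u * (b * b)) : ∀ b ∈ B, ∀ u ∈ cl (R o) M, b * u = u * b := by
  obtain ⟨r, hr1, hrr, hr⟩ := b.exists_gen o
  have hrR : r ∈ R o := (hr r).2 (Or.inr rfl)
  have hrV : r ∈ V := b.R_le o hrR
  have hSr : ∀ s ∈ S, s * r = r * s := fun s hs =>
    (mem_centralizer_iff.1 (normalizer_le_cen_of_card (b.card_R o) (b.S_R hs)) r hrR).symm
  have hVU : V ≤ cl (R o) M := by
    rw [b.cl_R_eq (fun i => b.trans_of_X hXM i)]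
    exact le_cl V M
  obtain ⟨j, -, hj, -, -⟩ := b.one_lt
  obtain ⟨a, haj, ha1⟩ := b.exists_ne j
  refine FillA.fillA (M := M) (T := S) (U := cl (R o) M) (A := ⊥) (V := V) (D := zc S ⊓ centralizer (P : Set G))
    (p := r) (a := a) b.S_p hSM hSr ?_ hcard ?_ sq (cl_le_S b hSM sq) ?_ hVU hrV hr1 (b.R_le j haj) ha1 ?_ ?_ ?_ ?_ ?_ ?_
    B hB hn h2
  · intro h
    apply b.S_odd
    have h1 : S ≤ M ⊓ centralizer ({r} : Set G) := fun s hs => ⟨hSM hs, mem_C.2 (hSr s hs)⟩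
    have h3 : M ⊓ centralizer ({r} : Set G) ≤ normalizer (R o : Set G) := by
      rintro g ⟨-, hg⟩
      refine centralizer_le_normalizer _ (mem_centralizer_iff.2 fun x hx => ?_)
      rcases (hr x).1 hx with rfl | rfl
      · rw [one_mul, mul_one]
      · exact (mem_C.1 hg).symm
    rw [← relIndex_mul_relIndex _ _ _ h1 h3]
    exact Dvd.dvd.mul_right h _
  · intro m hm u hu
    exact conj_mem_of_normalizer (le_normalizer_cl _ _ hm) hu
  · refine cl_le ?_ ?_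
    · intro x hx
      rcases (hr x).1 hx with rfl | rfl
      · exact one_mem _
      · exact subset_closure ⟨1, one_mem _, by group⟩
    · intro m hm
      refine HOne.TvHSide.le_normalizer_of (A := M) (fun m hm x hx => ?_) hm
      have h1 : closure {x | ∃ m ∈ M, x = m * r * m⁻¹} ≤
          (closure {x | ∃ m ∈ M, x = m * r * m⁻¹}).comap (MulAut.conj m).toMonoidHom := by
        rw [closure_le]
        rintro _ ⟨k, hk, rfl⟩
        refine subset_closure ⟨m * k, mul_mem hm hk, ?_⟩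
        change m * (k * r * k⁻¹) * m⁻¹ = _
        group
      exact h1 hx
  · rintro rfl
    exact hr1 (b.eq_one (Ne.symm hj) hrR haj)
  · intro t ht v hv
    exact conj_mem_of_normalizer (b.S_V ht) hv
  · intro v hv hv1
    obtain ⟨i, hi⟩ := b.R_cov v hv
    obtain ⟨x, hx, e⟩ := b.trans_X_one o i
    refine ⟨x, hXM hx, fun d hd => ?_, fun w hw => conj_mem_of_normalizer (b.P_V (b.X_le_P hx)) hw, ?_⟩
    · exact mem_centralizer_iff.1 hd.2 x (b.X_le_P hx)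
    · have h1 : x * r * x⁻¹ ∈ R i := by rw [← e]; exact conj_mem_cj hrR
      exact (eq_of_card_two (b.card_R i) hi hv1 h1 (fun h => hr1 (conj_eq_one_iff.1 h)))
  · intro d hd hdV
    have h1 : d ∈ V ⊓ (zc S ⊓ centralizer (P : Set G)) := ⟨hdV, hd⟩
    rw [b.R_inf_cz] at h1
    exact mem_bot.1 h1
  · intro y hy
    rw [mem_bot.1 hy]
    exact ⟨one_mem _, by rw [one_mul, mul_one]⟩
  · intro c hc hcc hcS _
    have h1 : c ∈ zc S := mem_zc.2 ⟨hc, fun s hs => hcS s hs, by rw [pow_two]; exact hcc⟩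
    obtain ⟨ρ, hρ, d, hd, rfl⟩ := b.exists_zc h1
    refine ⟨d, hd, ?_⟩
    rcases (hr ρ).1 hρ with rfl | rfl
    · exact Or.inl (one_mul _)
    · exact Or.inr rfl

/-- `GSysW` for `M ≥ S, X` -/
theorem gsys_X (hcard : ∀ Q : Subgroup G, IsPGroup 2 Q → Nat.card Q ≤ 2 * Nat.card S) {r : G} (hr1 : r ≠ 1)
    (hr : r ∈ R o) {M : Subgroup G} (hSM : S ≤ M) (hXM : XX V R ≤ M) (sq : ∀ x ∈ cl (R o) M, x * x = 1) :
    GSysW M (cl (R o) M) r := by
  have nor : ∀ c ∈ M, ∀ n ∈ cl (R o) M, c * n * c⁻¹ ∈ cl (R o) M := fun c hc n hn =>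
    conj_mem_of_normalizer (le_normalizer_cl _ _ hc) hn
  refine ⟨sq, nor, le_cl _ _ hr, hr1, ?_⟩
  intro U hU hCU c hc h2 h3
  exact chain_of_core sq nor (core_X b hcard hSM hXM sq) hU hCU hc h2 h3

/-- the closure is elementary abelian for `X, S ≤ M ≤ C(z)` -/
theorem sq_of_le {M : Subgroup G} {z : G} (hz : z ∈ zc S ⊓ centralizer (P : Set G)) (hz1 : z ≠ 1)
    (hM : M ≤ centralizer ({z} : Set G)) : ∀ x ∈ cl (R o) M, x * x = 1 := by
  intro x hx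
  have h1 : cl (R o) M ≤ cl V (centralizer ({z} : Set G)) := by
    refine cl_le ((b.R_le o).trans (le_cl _ _)) (hM.trans (le_normalizer_cl _ _))
  have h3 := b.cl_V_le (b.isLoc_cen hz.1 hz1) (b.X_le_cen hz) (h1 hx)
  rw [← pow_two]
  exact (mem_zc.1 h3).2.2

/-- `GSysW` for `X, S ≤ M ≤ C(z)` -/
theorem gsys_of_le (hcard : ∀ Q : Subgroup G, IsPGroup 2 Q → Nat.card Q ≤ 2 * Nat.card S) {r : G} (hr1 : r ≠ 1)
    (hr : r ∈ R o) {M : Subgroup G} (hSM : S ≤ M) (hXM : XX V R ≤ M) {z : G}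
    (hz : z ∈ zc S ⊓ centralizer (P : Set G)) (hz1 : z ≠ 1) (hM : M ≤ centralizer ({z} : Set G)) :
    GSysW M (cl (R o) M) r :=
  gsys_X b hcard hr1 hr hSM hXM (sq_of_le b hz hz1 hM)

theorem S_le_MP {z : G} (hz : z ∈ zc S ⊓ centralizer (P : Set G)) : S ≤ MP V R o z := by
  refine le_trans ?_ le_sup_left
  intro s hs
  exact ⟨b.S_R hs, mem_C.2 ((mem_zc.1 hz.1).2.1 s hs)⟩

theorem MP_le {z : G} (hz : z ∈ zc S ⊓ centralizer (P : Set G)) :
    MP V R o z ≤ centralizer ({z} : Set G) :=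
  sup_le inf_le_right (b.X_le_cen hz)

/-- the hypothesis `hsysM` of `AlphaP.not_alpha'` -/
theorem gsys_MP (hcard : ∀ Q : Subgroup G, IsPGroup 2 Q → Nat.card Q ≤ 2 * Nat.card S) {r : G} (hr1 : r ≠ 1)
    (hr : r ∈ R o) {z : G} (hz : z ∈ zc S ⊓ centralizer (P : Set G)) (hz1 : z ≠ 1) :
    GSysW (MP V R o z) (cl (R o) (MP V R o z)) r :=
  gsys_of_le b hcard hr1 hr (S_le_MP b hz) le_sup_right hz hz1 (MP_le b hz)

/-- the core statement for `MP` -/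
theorem core_MP (hcard : ∀ Q : Subgroup G, IsPGroup 2 Q → Nat.card Q ≤ 2 * Nat.card S) {z : G}
    (hz : z ∈ zc S ⊓ centralizer (P : Set G)) (hz1 : z ≠ 1)
    (B : Subgroup G) (hB : B ≤ MP V R o z) (hn : ∀ m ∈ MP V R o z, ∀ b ∈ B, m * b * m⁻¹ ∈ B)
    (h2 : ∀ b ∈ B, ∀ u ∈ cl (R o) (MP V R o z), b * b * u = u * (b * b)) :
    ∀ b ∈ B, ∀ u ∈ cl (R o) (MP V R o z), b * u = u * b :=
  core_X b hcard (S_le_MP b hz) le_sup_right (sq_of_le b hz hz1 (MP_le b hz)) B hB hn h2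

section Y

variable {ι₂ : Type*} {P₂ V₂ : Subgroup G} {R₂ : ι₂ → Subgroup G} {o₂ : ι₂} (b₂ : HTT S P₂ V₂ R₂ o₂)
include b₂

/-- the core for `⟨(R o)^M⟩ ⟨(R₂ o₂)^M⟩`, `M ≥ S, X₂` -/
theorem core_Y (hcard : ∀ Q : Subgroup G, IsPGroup 2 Q → Nat.card Q ≤ 2 * Nat.card S) {M : Subgroup G}
    (hSM : S ≤ M) (hXM : XX V₂ R₂ ≤ M) (sq₂ : ∀ x ∈ cl (R₂ o₂) M, x * x = 1)
    (B : Subgroup G) (hB : B ≤ M) (hn : ∀ m ∈ M, ∀ b ∈ B, m * b * m⁻¹ ∈ B)
    (h2 : ∀ b ∈ B, ∀ u ∈ cl (R o) M ⊔ cl (R₂ o₂) M, b * b * u = u * (b * b)) :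
    ∀ b ∈ B, ∀ u ∈ cl (R o) M ⊔ cl (R₂ o₂) M, b * u = u * b := by
  have h3 : ∀ b ∈ B, ∀ u ∈ cl (R₂ o₂) M, b * u = u * b :=
    core_X b₂ hcard hSM hXM sq₂ B hB hn (fun b hb u hu => h2 b hb u (mem_sup_right hu))
  -- `B ≤ N(R₂ o₂)`
  have hBN : B ≤ normalizer (R₂ o₂ : Set G) := by
    intro x hx
    refine centralizer_le_normalizer _ (mem_centralizer_iff.2 fun y hy => ?_)
    exact (h3 x hx y (le_cl _ _ hy)).symm
  have hSo : ¬ 2 ∣ S.relIndex (M ⊓ normalizer (R₂ o₂ : Set G)) := by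
    intro h
    apply b₂.S_odd
    rw [← relIndex_mul_relIndex _ _ _ (le_inf hSM b₂.S_R) inf_le_right]
    exact Dvd.dvd.mul_right h _
  have hSA : S ≤ centralizer (R o : Set G) := b.S_R.trans (normalizer_le_cen_of_card (b.card_R o))
  have hle : cl (R o) (M ⊓ normalizer (R₂ o₂ : Set G)) ≤ cl (R o) M :=
    cl_le (le_cl _ _) (inf_le_left.trans (le_normalizer_cl _ _))
  have h4 := core_of_T (T := S) (C := M ⊓ normalizer (R₂ o₂ : Set G)) (A := R o) (le_inf hSM b₂.S_R) b.S_p hSo hSA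
    B (le_inf hB hBN) (fun c hc x hx => hn c hc.1 x hx)
    (fun x hx n hn' => h2 x hx n (mem_sup_left (hle hn')))
  have h5 : ∀ x ∈ B, ∀ u ∈ cl (R o) M, x * u = u * x := by
    intro x hx u hu
    have h6 : cl (R o) M ≤ centralizer (B : Set G) := by
      refine cl_le ?_ ?_
      · intro y hy
        rw [mem_centralizer_iff]
        intro c hc
        exact h4 c hc y (le_cl _ _ hy)
      · intro m hm
        refine normalizer_le_normalizer_centralizer _ ?_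
        exact HOne.TvHSide.le_normalizer_of (A := M) (fun m hm x hx => hn m hm x hx) hm
    exact mem_centralizer_iff.1 (h6 hu) x hx
  intro x hx u hu
  have h6 : cl (R o) M ⊔ cl (R₂ o₂) M ≤ centralizer ({x} : Set G) := by
    refine sup_le ?_ ?_
    · intro y hy
      exact mem_C.2 (h5 x hx y hy).symm
    · intro y hy
      exact mem_C.2 (h3 x hx y hy).symm
  exact (mem_C.1 (h6 hu)).symm

/-- the module `Y = ⟨(R o)^C⟩ ⟨(R₂ o₂)^C⟩` for `C = C(y)`, `y` an involution centralised by `S` and `X₂` -/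
theorem exists_Y (hcard : ∀ Q : Subgroup G, IsPGroup 2 Q → Nat.card Q ≤ 2 * Nat.card S) {r : G} (hr1 : r ≠ 1)
    (hr : r ∈ R o) {y : G} (hyy : y * y = 1) (hy1 : y ≠ 1) (hSy : ∀ s ∈ S, s * y = y * s)
    (hXy : XX V₂ R₂ ≤ centralizer ({y} : Set G)) :
    ∃ Y ≤ centralizer ({y} : Set G), GSysW (centralizer ({y} : Set G)) Y r := by
  obtain ⟨C, hC⟩ : ∃ C, C = centralizer ({y} : Set G) := ⟨_, rfl⟩
  have hSC : S ≤ C := by rw [hC]; exact fun s hs => mem_C.2 (hSy s hs)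
  have hloc : TLoc S C := by rw [hC]; exact TLoc.centralizer (by rw [pow_two]; exact hyy) hy1 (hC ▸ hSC)
  rw [← hC] at hXy ⊢
  have hCO : C ≤ normalizer (o2 C : Set G) := le_normalizer_o2 _
  -- `O₂(C) ≤ S`
  have hoS : o2 C ≤ S := by
    refine le_of_odd b.S_p b₂.S_R b₂.S_odd (MinSimple.VModule.o2_isPGroup _) ?_ (hSC.trans hCO)
    exact (b₂.o2_le_cen hloc hXy).trans ((centralizer_le (b₂.R_le o₂)).trans (centralizer_le_normalizer _))
  have hSA : S ≤ centralizer (R o : Set G) := b.S_R.trans (normalizer_le_cen_of_card (b.card_R o))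
  have h1 : cl (R o) C ≤ zc (o2 C) := by
    refine cl_le ?_ (hCO.trans (normalizer_le_normalizer_zc _))
    intro x hx
    have hxc : ∀ s ∈ S, s * x = x * s := fun s hs => (mem_centralizer_iff.1 (hSA hs) x hx).symm
    have h2 : x ∈ centralizer (o2 C : Set G) := mem_centralizer_iff.2 fun s hs => hxc s (hoS hs)
    have h3 : x ∈ o2 C := hloc.char2 b.char2 ⟨hSC (b.V_le_S (b.R_le o hx)), h2⟩
    exact mem_zc.2 ⟨h3, fun c hc => hxc c (hoS hc), by rw [pow_two]; exact b.V_sq x (b.R_le o hx)⟩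
  have h2 : cl (R₂ o₂) C ≤ zc (o2 C) :=
    (cl_le ((b₂.R_le o₂).trans (le_cl _ _)) (le_normalizer_cl _ _)).trans (b₂.cl_V_le hloc hXy)
  have hN : cl (R o) C ⊔ cl (R₂ o₂) C ≤ zc (o2 C) := sup_le h1 h2
  have sq : ∀ x ∈ cl (R o) C ⊔ cl (R₂ o₂) C, x * x = 1 := fun x hx => by
    rw [← pow_two]; exact (mem_zc.1 (hN hx)).2.2
  have nor : ∀ c ∈ C, ∀ n ∈ cl (R o) C ⊔ cl (R₂ o₂) C, c * n * c⁻¹ ∈ cl (R o) C ⊔ cl (R₂ o₂) C := by
    intro c hc n hn
    refine conj_mem_of_normalizer ?_ hn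
    have e1 := cj_eq_self_iff.2 (le_normalizer_cl (R o) C hc)
    have e2 := cj_eq_self_iff.2 (le_normalizer_cl (R₂ o₂) C hc)
    rw [← cj_eq_self_iff, cj_sup, e1, e2]
  refine ⟨cl (R o) C ⊔ cl (R₂ o₂) C, hN.trans ((zc_le _).trans (o2_le _)), sq, nor,
    mem_sup_left (le_cl _ _ hr), hr1, ?_⟩
  intro U hU hCU c hc h3 h4
  exact chain_of_core sq nor (core_Y b b₂ hcard hSC hXy (fun x hx => sq x (mem_sup_right hx))) hU hCU hc h3 h4

/-- **(α) is dead** for `z ∈ C_Z(P)`, if `X₂ ≤ C(z r)` -/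
theorem not_alpha_two (hLE : ∀ i, LE V R i)
    (hcard : ∀ Q : Subgroup G, IsPGroup 2 Q → Nat.card Q ≤ 2 * Nat.card S) {r : G}
    (hr : ∀ x, x ∈ R o ↔ x = 1 ∨ x = r) {z : G} (hz : z ∈ zc S ⊓ centralizer (P : Set G)) (hz1 : z ≠ 1)
    (hX : ∀ x ∈ XX V₂ R₂, x * (z * r) = z * r * x) :
    ¬ UM V (MP V R o z) ≤ QQ (R o) := by
  have hr1 : r ≠ 1 := AlphaP.r_ne b hr
  have hrR : r ∈ R o := (hr r).2 (Or.inr rfl)
  have hrr : r * r = 1 := b.V_sq r (b.R_le o hrR)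
  have hzz : z * z = 1 := by rw [← pow_two]; exact (mem_zc.1 hz.1).2.2
  have hSr : ∀ s ∈ S, s * r = r * s := fun s hs =>
    (mem_centralizer_iff.1 (normalizer_le_cen_of_card (b.card_R o) (b.S_R hs)) r hrR).symm
  have hSz : ∀ s ∈ S, s * z = z * s := (mem_zc.1 hz.1).2.1
  have hzr : z * r = r * z := (hSz r (b.V_le_S (b.R_le o hrR))).symm
  refine AlphaP.not_alpha' b hLE hr hz hz1 (gsys_MP b hcard hr1 hrR hz hz1)
    (exists_Y b b₂ hcard hr1 hrR ?_ ?_ ?_ (fun x hx => mem_C.2 (hX x hx)))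
  · calc z * r * (z * r) = z * (r * z) * r := by group
      _ = (z * z) * (r * r) := by rw [← hzr]; group
      _ = 1 := by rw [hzz, hrr, mul_one]
  · intro h
    have h1 : z = r := by
      calc z = z * r * r := by rw [mul_assoc, hrr, mul_one]
        _ = r := by rw [h, one_mul]
    have h3 : r ∈ V ⊓ (zc S ⊓ centralizer (P : Set G)) := ⟨b.R_le o hrR, h1 ▸ hz⟩
    rw [b.R_inf_cz] at h3
    exact hr1 (mem_bot.1 h3)
  · intro s hs
    calc s * (z * r) = (s * z) * r := by group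
      _ = z * (s * r) := by rw [hSz s hs]; group
      _ = z * r * s := by rw [hSr s hs]; group

end Y

end Cfsg.Agent.Omega.HT.Core

end

section


/-!
# II.0h1, `q = 2`, JUNCTION (A), (B) (#17185)

`Z = Ω₁(Z(S)) = zc S`, `Z₀ = zc S ⊓ C(P)`, `Z(Q o) = ZQ R o`, `M₀ = ⟨C(Z), X⟩`.

* `exists_avg` (A) : `c ∈ Z(Q o)` with `r₂ c R o` fixed by the stabiliser of `V Z(Q o)` in `N(R o)`;
* `mem_of_alpha` (B) : if `⟨V^{M₀}⟩ ≤ Q o` then `c ∈ R o × C_X`;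
* `exists_z` : if `⟨V^{M₀}⟩ ≤ Q o` then there is `z ∈ Z₀`, `z ≠ 1`, such that `a ∈ N(R o) ∩ C(z)`,
  `V^a ≤ V Z(Q o)` implies `V^a = V`;
* `noPar` : the field `noPar` of `TvH`.
-/

set_option autoImplicit false
set_option linter.unusedSectionVars false

namespace Cfsg.Agent.Omega.HOne.JunAB

open Subgroup Cfsg Cfsg.Agent.MinSimple.VModule Cfsg.Agent.Omega.BTwo
open Cfsg.Agent.Omega.HOneTwo Cfsg.Agent.Omega.HTwo Cfsg.Agent.Omega.HTwo.ThmA Cfsg.Agent.Omega.HTwo.Par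
open Cfsg.Agent.Omega.HTwo.Hat Cfsg.Agent.Omega.HTwo.TComp Cfsg.Agent.Omega.MinPar
open Cfsg.Agent.ZN (zc o2 le_normalizer_o2)
open Cfsg.Agent.Omega.HTwo.AlphaFive (mem_C r_ne r_mem r_sq mem_N_iff cj_V_le exists_h exists_mv cl_le_zc)
open Cfsg.Agent.Omega.HTwo.AlphaOne (comm_mem_R)
open Cfsg.Agent.Omega.HTwo.AlphaP (le_Q_of_comm exists_conj_X)
open Cfsg.Agent.Omega.HOne.JunIrr

universe u

variable {G : Type u} [Group G] [Finite G] {ι : Type*} {S : Sylow 2 G} {P V : Subgroup G}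
  {R : ι → Subgroup G} {o : ι} (b : HT S P V R o) {r : G} (hr : ∀ x, x ∈ R o ↔ x = 1 ∨ x = r)
include b hr

section basic

variable {j : ι} (hj : j ≠ o) {r₂ : G} (h2 : r₂ ∈ R j) (h21 : r₂ ≠ 1)
include hj h2 h21

/-- `V = R o ∪ r₂ R o` -/
theorem mem_V {v : G} (hv : v ∈ V) : v ∈ R o ∨ r₂⁻¹ * v ∈ R o := by
  have _ := hr
  obtain ⟨a, ha, c, hc, rfl⟩ := b.exists_mul (Ne.symm hj) hv
  by_cases hc1 : c = 1
  · left
    rw [hc1, mul_one]; exact ha
  · right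
    rw [eq_of_card_two (b.card_R j) h2 h21 hc hc1, b.V_comm a (b.R_le o ha) r₂ (b.R_le j h2),
      inv_mul_cancel_left]
    exact ha

/-- `V Z(Q o) = Z(Q o) ∪ r₂ Z(Q o)` -/
theorem mem_VZ {x : G} (hx : x ∈ V ⊔ ZQ R o) : x ∈ ZQ R o ∨ r₂⁻¹ * x ∈ ZQ R o := by
  have hle : ZQ R o ≤ normalizer (V : Set G) := (ZQ_le o).trans (b.Q_le_NV o)
  rw [← SetLike.mem_coe, coe_mul_of_right_le_normalizer_left _ _ hle] at hx
  obtain ⟨v, hv, n, hn, rfl⟩ := hx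
  change v * n ∈ ZQ R o ∨ r₂⁻¹ * (v * n) ∈ ZQ R o
  rcases mem_V b hr hj h2 h21 hv with h | h
  · exact Or.inl (mul_mem (R_le_ZQ b.toBT o h) hn)
  · right
    rw [← mul_assoc]
    exact mul_mem (R_le_ZQ b.toBT o h) hn

theorem not_mem_ZQ : r₂ ∉ ZQ R o := by
  intro h
  obtain ⟨t, ht, v, hv, hne⟩ := exists_mv b hr
  apply hne
  have hvZ : v ∈ ZQ R o := by
    rcases mem_V b hr hj h2 h21 hv with h3 | h3
    · exact R_le_ZQ b.toBT o h3
    · have : v = r₂ * (r₂⁻¹ * v) := by group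
      rw [this]
      exact mul_mem h (R_le_ZQ b.toBT o h3)
  exact ZQ_comm hvZ ht

/-- the averaging lemma -/
theorem avg {A D : Subgroup G} (hSA : (S : Subgroup G) ≤ A) (hA : A ≤ normalizer (R o : Set G))
    (hRD : R o ≤ D) (hDZ : D ≤ ZQ R o) (hAD : ∀ a ∈ A, ∀ d ∈ D, a * d * a⁻¹ ∈ D)
    (h : ∀ a ∈ A, r₂⁻¹ * a * r₂ * a⁻¹ ∈ D) :
    ∃ d ∈ D, ∀ a ∈ A, (r₂ * d)⁻¹ * a * (r₂ * d) * a⁻¹ ∈ R o := by
  have hLE := Alpha.HT.le_all b
  have h2V := b.R_le j h2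
  refine Avg.avg (X := A) (P := (S : Subgroup G)) (Y := D) (D := R o) (c := r₂) hSA
    (ThmD.odd_relIndex S hSA) hRD hAD (fun a ha x hx => conj_mem_of_normalizer (hA ha) hx)
    (fun x hx y hy => conj_mem_of_normalizer (b.Q_le o (ZQ_le o (hDZ hx))) hy)
    (fun x hx => Q_sq b.toBTS (hLE o) (ZQ_le o (hDZ hx))) h (fun s hs => ?_)
  have h3 := comm_mem_R b (b.S_V hs) (b.S_R hs) h2V
  have h4 : r₂ ∈ normalizer (R o : Set G) := b.Q_le o (b.V_Q o h2V)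
  have h5 := conj_inv_mem_of_normalizer h4 h3
  have e : r₂⁻¹ * (s * r₂ * s⁻¹ * r₂⁻¹) * r₂ = r₂⁻¹ * s * r₂ * s⁻¹ := by group
  rwa [e] at h5

/-- **(A)** -/
theorem exists_avg : ∃ c ∈ ZQ R o, ∀ a ∈ normalizer (R o : Set G), (∀ v ∈ V, a * v * a⁻¹ ∈ V ⊔ ZQ R o) →
    (r₂ * c)⁻¹ * a * (r₂ * c) * a⁻¹ ∈ R o := by
  have hnZ : normalizer (R o : Set G) ≤ normalizer (ZQ R o : Set G) := N_le_NZQ o
  obtain ⟨c, hc, H⟩ := avg b hr hj h2 h21 (A := normalizer (R o : Set G) ⊓ normalizer ((V ⊔ ZQ R o : Subgroup G) : Set G))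
    (D := ZQ R o) (by
      refine le_inf b.S_R fun s hs => ?_
      rw [← cj_eq_self_iff, cj_sup, cj_eq_self_iff.2 (b.S_V hs), cj_eq_self_iff.2 (hnZ (b.S_R hs))])
    inf_le_left (R_le_ZQ b.toBT o) le_rfl (fun a ha d hd => conj_mem_of_normalizer (hnZ ha.1) hd) (by
      intro a ha
      have h3 : a * r₂ * a⁻¹ ∈ V ⊔ ZQ R o :=
        conj_mem_of_normalizer ha.2 (mem_sup_left (b.R_le j h2))
      rcases mem_VZ b hr hj h2 h21 h3 with h4 | h4
      · exfalso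
        have h5 := conj_inv_mem_of_normalizer (hnZ ha.1) h4
        have e : a⁻¹ * (a * r₂ * a⁻¹) * a = r₂ := by group
        rw [e] at h5
        exact not_mem_ZQ b hr hj h2 h21 h5
      · have e : r₂⁻¹ * (a * r₂ * a⁻¹) = r₂⁻¹ * a * r₂ * a⁻¹ := by group
        rwa [e] at h4)
  refine ⟨c, hc, fun a ha hav => H a ⟨ha, mem_normalizer_of_conj fun x hx => ?_⟩⟩
  have hle : ZQ R o ≤ normalizer (V : Set G) := (ZQ_le o).trans (b.Q_le_NV o)
  rw [← SetLike.mem_coe, coe_mul_of_right_le_normalizer_left _ _ hle] at hx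
  obtain ⟨v, hv, n, hn, rfl⟩ := hx
  change a * (v * n) * a⁻¹ ∈ V ⊔ ZQ R o
  have e : a * (v * n) * a⁻¹ = (a * v * a⁻¹) * (a * n * a⁻¹) := by group
  rw [e]
  exact mul_mem (hav v hv) (mem_sup_right (conj_mem_of_normalizer (hnZ ha) hn))

/-- `N(V) ∩ N(R o)` fixes `c R o` -/
theorem fix_c {c a : G} (hc : c ∈ ZQ R o) (haV : a ∈ normalizer (V : Set G))
    (haR : a ∈ normalizer (R o : Set G)) (H : (r₂ * c)⁻¹ * a * (r₂ * c) * a⁻¹ ∈ R o) :
    a * c * a⁻¹ * c⁻¹ ∈ R o := by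
  have h2V := b.R_le j h2
  have h3 := comm_mem_R b haV haR h2V
  have h4 : r₂ ∈ normalizer (R o : Set G) := b.Q_le o (b.V_Q o h2V)
  have h5 := conj_inv_mem_of_normalizer h4 h3
  have e : r₂⁻¹ * (a * r₂ * a⁻¹ * r₂⁻¹) * r₂ = r₂⁻¹ * a * r₂ * a⁻¹ := by group
  rw [e] at h5
  have hcN : c ∈ normalizer (R o : Set G) := b.Q_le o (ZQ_le o hc)
  have h6 := conj_mem_of_normalizer hcN H
  have e2 : c * ((r₂ * c)⁻¹ * a * (r₂ * c) * a⁻¹) * c⁻¹ =
      (r₂⁻¹ * a * r₂ * a⁻¹) * (a * c * a⁻¹ * c⁻¹) := by group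
  rw [e2] at h6
  have := mul_mem (inv_mem h5) h6
  rwa [inv_mul_cancel_left] at this

end basic

/-! ### (B) -/

/-- a product in `Z(Q i) ∩ Q j` -/
theorem of_conj {c x : G} {i j : ι} (hx : x ∈ XX V R) (e : cj x (R o) = R i) (hij : i ≠ j)
    (hc : c ∈ ZQ R o) (h : x * c * x⁻¹ ∈ QQ (R j)) : ∃ a ∈ R o, a * c ∈ CenX V R := by
  have _ := hr
  have h1 : x * c * x⁻¹ ∈ ZQ R i := by
    rw [← cj_ZQ b.toBT e]; exact conj_mem_cj hc
  obtain ⟨a, ha, h2⟩ := ZQ_Q b.toBTS hij h1 h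
  refine ⟨x⁻¹ * a * x, ?_, ?_⟩
  · rw [← e, mem_cj] at ha
    exact ha
  · have h3 := conj_inv_mem_of_normalizer (b.NV_le_NCenX (b.X_le_NV hx)) h2
    have e2 : x⁻¹ * (a * (x * c * x⁻¹)) * x = x⁻¹ * a * x * c := by group
    rwa [e2] at h3

/-- (i): if the normal closure of `n` normalises `V`, then `n ∈ Q o` -/
theorem mem_Q_of_norm {n : G} (hn : n ∈ normalizer (R o : Set G))
    (h : cl (zpowers n) (normalizer (R o : Set G)) ≤ normalizer (V : Set G)) : n ∈ QQ (R o) := by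
  have _ := hr
  rw [← b.toBTS.K_eq o]
  refine ⟨hn, ?_⟩
  let T : Subgroup G :=
    { carrier := {d | d ∈ normalizer (R o : Set G) ∧ n * d * n⁻¹ * d⁻¹ ∈ R o}
      one_mem' := ⟨one_mem _, by
        have : n * 1 * n⁻¹ * 1⁻¹ = 1 := by group
        rw [this]; exact one_mem _⟩
      mul_mem' := by
        rintro x y ⟨hx, hx'⟩ ⟨hy, hy'⟩
        refine ⟨mul_mem hx hy, ?_⟩
        have e : n * (x * y) * n⁻¹ * (x * y)⁻¹ = (n * x * n⁻¹ * x⁻¹) * (x * (n * y * n⁻¹ * y⁻¹) * x⁻¹) := by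
          group
        rw [e]
        exact mul_mem hx' (conj_mem_of_normalizer hx hy')
      inv_mem' := by
        rintro x ⟨hx, hx'⟩
        refine ⟨inv_mem hx, ?_⟩
        have e : n * x⁻¹ * n⁻¹ * x⁻¹⁻¹ = x⁻¹ * (n * x * n⁻¹ * x⁻¹)⁻¹ * x := by group
        rw [e]
        exact conj_inv_mem_of_normalizer hx (inv_mem hx') }
  have hT : WW V (R o) ≤ T := by
    refine iSup_le fun h' => ?_
    rintro _ ⟨v, hv, rfl⟩
    change (h' : G) * v * (h' : G)⁻¹ ∈ T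
    refine ⟨b.W_le_N o (cj_le_WW h'.2 (conj_mem_cj hv)), ?_⟩
    have h1 : (h' : G)⁻¹ * n * (h' : G)⁻¹⁻¹ ∈ cl (zpowers n) (normalizer (R o : Set G)) :=
      cj_le_cl (inv_mem h'.2) (conj_mem_cj (mem_zpowers n))
    rw [inv_inv] at h1
    have h3 : (h' : G)⁻¹ * n * (h' : G) ∈ normalizer (R o : Set G) := mul_mem (mul_mem (inv_mem h'.2) hn) h'.2
    have h4 := conj_mem_of_normalizer h'.2 (comm_mem_R b (h h1) h3 hv)
    have e : (h' : G) * ((h' : G)⁻¹ * n * h' * v * ((h' : G)⁻¹ * n * h')⁻¹ * v⁻¹) * (h' : G)⁻¹ =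
        n * (h' * v * (h' : G)⁻¹) * n⁻¹ * (h' * v * (h' : G)⁻¹)⁻¹ := by group
    rwa [e] at h4
  exact fun d hd => (hT hd).2

/-- `Z ≤ Z(Q o)` -/
theorem zc_le_ZQ : zc (S : Subgroup G) ≤ ZQ R o := by
  have _ := hr
  intro z hz
  have h1 := b.zc_le_zc_Q hz
  refine ⟨zc_le _ h1, mem_centralizer_iff.2 fun q hq => ?_⟩
  exact (mem_zc.1 h1).2.1 q hq

/-- an element of `C_X` fixed by `S` modulo `R o` is in `Z` -/
theorem mem_zc_of {c : G} (hc : c ∈ CenX V R) (h : ∀ s ∈ (S : Subgroup G), s * c * s⁻¹ * c⁻¹ ∈ R o) :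
    c ∈ zc (S : Subgroup G) ⊓ centralizer (P : Set G) := by
  have _ := hr
  have hLE := Alpha.HT.le_all b
  rw [b.cz_eq]
  refine ⟨mem_zc.2 ⟨b.Q_le_S (mem_iInf.1 (b.toBTS.CenX_le_C hc) o), fun s hs => ?_, ?_⟩, hc⟩
  · have h1 : s * c * s⁻¹ * c⁻¹ ∈ CenX V R :=
      mul_mem (conj_mem_of_normalizer (b.NV_le_NCenX (b.S_V hs)) hc) (inv_mem hc)
    have h2 := b.toBTS.cen_VX (b.R_le o (h s hs)) h1
    exact mul_inv_eq_iff_eq_mul.1 (mul_inv_eq_one.1 h2)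
  · rw [pow_two]; exact cenX_sq b.toBTS (hLE o) hc

/-- `M₀ = ⟨C(Z), X⟩` -/
def MZ (S : Sylow 2 G) (V : Subgroup G) (R : ι → Subgroup G) : Subgroup G :=
  centralizer (zc (S : Subgroup G) : Set G) ⊔ XX V R

omit hr in
theorem MZ_le {z : G} (hz : z ∈ zc (S : Subgroup G) ⊓ centralizer (P : Set G)) :
    MZ S V R ≤ centralizer ({z} : Set G) := by
  refine sup_le (centralizer_le ?_) (b.X_le_cen hz)
  rintro _ rfl
  exact hz.1

/-- **(B)** -/
theorem mem_of_alpha {z₀ : G} (hz₀ : z₀ ∈ zc (S : Subgroup G) ⊓ centralizer (P : Set G)) (hz₀1 : z₀ ≠ 1)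
    (hα : UM V (MZ S V R) ≤ QQ (R o)) {c : G} (hc : c ∈ ZQ R o)
    (hcN : ∀ a ∈ normalizer (V : Set G), a ∈ normalizer (R o : Set G) → a * c * a⁻¹ * c⁻¹ ∈ R o) :
    ∃ a ∈ R o, a * c ∈ CenX V R := by
  classical
  have hLE := Alpha.HT.le_all b
  have bs := b.toBTS
  have hr1 := r_ne b hr
  have hr2 := r_sq b hr
  have hrR := r_mem b hr
  have hNr := fun g => @mem_N_iff G _ ι _ S P V R o b r hr g
  have hnZ : normalizer (R o : Set G) ≤ normalizer (ZQ R o : Set G) := N_le_NZQ o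
  by_contra hcon
  obtain ⟨j, k, hj, hk, hjk⟩ := b.one_lt
  obtain ⟨r₂, h21, h22, h2⟩ := b.exists_gen j
  have h2j : r₂ ∈ R j := (h2 _).2 (Or.inr rfl)
  have h2V := b.R_le j h2j
  -- `x` interchanges `o` and `j`
  obtain ⟨x, hx, ex, ex'⟩ := b.trans_X (Ne.symm hj) hj
  have hxV := b.X_le_NV hx
  -- (1) `c` commutes with `Z(Q j)`
  have h1 : ∀ m ∈ ZQ R j, m * c = c * m := by
    intro m hm
    have hmV := ZQ_le_cen b.toBT j hm
    have h3 := hcN m (cen_le_NV V hmV) (b.cen_le_N o hmV)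
    have h4 : m * c * m⁻¹ * c⁻¹ ∈ CenX V R := by
      rw [← ZQ_inf bs hLE (Ne.symm hj)]
      refine ⟨(ZQ R o).mul_mem (conj_mem_of_normalizer (hnZ (b.cen_le_N o hmV)) hc) ((ZQ R o).inv_mem hc), ?_⟩
      exact comm_mem_of' hm (N_le_NZQ j (b.cen_le_N j (ZQ_le_cen b.toBT o hc)))
    have h5 := bs.cen_VX (b.R_le o h3) h4
    exact mul_inv_eq_iff_eq_mul.1 (mul_inv_eq_one.1 h5)
  -- (2) `n₂` commutes with `Z(Q o)`
  obtain ⟨n, hn⟩ : ∃ n, n = x * c * x⁻¹ := ⟨_, rfl⟩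
  have hnj : n ∈ ZQ R j := by
    rw [hn, ← cj_ZQ b.toBT ex]; exact conj_mem_cj hc
  have hnV := ZQ_le_cen b.toBT j hnj
  have hnN : n ∈ normalizer (R o : Set G) := b.cen_le_N o hnV
  have hno : ∀ m ∈ ZQ R o, n * m = m * n := by
    intro m hm
    rw [← cj_ZQ b.toBT ex', mem_cj] at hm
    have h3 := h1 _ hm
    rw [hn]
    calc x * c * x⁻¹ * m = x * (c * (x⁻¹ * m * x)) * x⁻¹ := by group
      _ = x * ((x⁻¹ * m * x) * c) * x⁻¹ := by rw [h3]
      _ = m * (x * c * x⁻¹) := by group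
  have hnot : ∀ i, i ≠ j → n ∉ QQ (R i) := by
    intro i hi h
    apply hcon
    rw [hn] at h
    exact of_conj b hr hx ex (Ne.symm hi) hc h
  -- (3) the normal closure
  set K := cl (zpowers n) (normalizer (R o : Set G)) with hK
  have hKN : K ≤ normalizer (R o : Set G) := cl_le (by rw [zpowers_le]; exact hnN) le_normalizer
  have hKc : K ≤ centralizer (ZQ R o : Set G) := by
    refine cl_le ?_ (hnZ.trans (normalizer_le_normalizer_centralizer _))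
    rw [zpowers_le, mem_centralizer_iff]
    exact fun m hm => (hno m hm).symm
  have hKZ : K ≤ centralizer (zc (S : Subgroup G) : Set G) := hKc.trans (centralizer_le (zc_le_ZQ b hr))
  have hnK : n ∈ K := le_cl _ _ (mem_zpowers n)
  have hKn : normalizer (R o : Set G) ≤ normalizer (K : Set G) := le_normalizer_cl _ _
  have hKV : ¬ K ≤ normalizer (V : Set G) := fun h => hnot o (Ne.symm hj) (mem_Q_of_norm b hr hnN h)
  -- `M₀`, `U`
  obtain ⟨M, hM⟩ : ∃ M, M = MZ S V R := ⟨_, rfl⟩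
  rw [← hM] at hα
  have hZM : centralizer (zc (S : Subgroup G) : Set G) ≤ M := by rw [hM]; exact le_sup_left
  have hXM : XX V R ≤ M := by rw [hM]; exact le_sup_right
  have hMz₀ : M ≤ centralizer ({z₀} : Set G) := by rw [hM]; exact MZ_le b hz₀
  have hKM : K ≤ M := hKZ.trans hZM
  have hSM : (S : Subgroup G) ≤ M := fun s hs => hZM (mem_centralizer_iff.2 fun z hz => ((mem_zc.1 hz).2.1 s hs).symm)
  have hSr : ∀ s ∈ (S : Subgroup G), s * r = r * s := fun s hs => (hNr s).1 (b.S_R hs)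
  have hz2 : z₀ * z₀ = 1 := by rw [← pow_two]; exact (mem_zc.1 hz₀.1).2.2
  have hSz : ∀ s ∈ (S : Subgroup G), s * z₀ = z₀ * s := (mem_zc.1 hz₀.1).2.1
  have hUeq : cl (R o) M = UM V M := b.cl_R_eq (b.trans_of_X hXM)
  rw [← hUeq] at hα
  set U := cl (R o) M with hU
  have hUz := cl_le_zc b hr hz₀1 hz2 hSz
  have hUle : U ≤ cl (R o) (centralizer ({z₀} : Set G)) := iSup_le fun m => cj_le_cl (hMz₀ m.2)
  have hUcm : ∀ x ∈ U, ∀ y ∈ U, x * y = y * x := fun x hx y hy =>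
    (mem_zc.1 (hUz (hUle hy))).2.1 x (zc_le _ (hUz (hUle hx)))
  have hUsq : ∀ x ∈ U, x * x = 1 := fun x hx => by
    rw [← pow_two]; exact (mem_zc.1 (hUz (hUle hx))).2.2
  have hMU : M ≤ normalizer (U : Set G) := le_normalizer_cl _ _
  have hVU : V ≤ U := by rw [hUeq]; exact le_cl _ _
  -- `U ≤ Q i` for all `i`
  have hUQ : ∀ i, U ≤ QQ (R i) := by
    intro i
    obtain ⟨y, hy, e⟩ := b.trans_X_one o i
    have h3 := cj_mono (g := y) hα
    rwa [b.cj_QQ e, cj_eq_self_iff.2 (hMU (hXM hy))] at h3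
  have hZU : ∀ i, ∀ m ∈ ZQ R i, ∀ u ∈ U, m * u = u * m := fun i m hm u hu => (ZQ_comm hm (hUQ i hu)).symm
  -- `Q o` acts on `U` as transvections
  have hQU : ∀ q ∈ QQ (R o), ∀ n ∈ U, q * n * q⁻¹ = n ∨ q * n * q⁻¹ = n * r := by
    intro q hq n hn
    have h5 := Q_comm bs (hLE o) hq (hα hn)
    rcases (hr _).1 h5 with h6 | h6
    · left; exact mul_inv_eq_one.1 h6
    · right
      rw [mul_inv_eq_iff_eq_mul] at h6
      rw [h6]
      exact (b.QR o n (hα hn) r hrR).symm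
  have hmv : ∀ q : G, q ∉ centralizer (U : Set G) → ∃ n ∈ U, q * n * q⁻¹ ≠ n := by
    intro q hq
    by_contra hcon
    push Not at hcon
    exact hq (mem_centralizer_iff.2 fun n hn => (mul_inv_eq_iff_eq_mul.1 (hcon n hn)).symm)
  have hCZN : centralizer (zc (S : Subgroup G) : Set G) ≤ normalizer (R o : Set G) := by
    intro g hg
    rw [hNr]
    exact (mem_centralizer_iff.1 hg r (b.R_le_zc hrR)).symm
  by_cases hcase : ∃ a ∈ QQ (R o), ∃ c ∈ QQ (R o), a ∉ centralizer (U : Set G) ∧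
      c ∉ centralizer (U : Set G) ∧ a * c ∉ centralizer (U : Set G)
  · -- the component
    obtain ⟨a, ha, c', hc', hna, hnc, hnac⟩ := hcase
    have hQM : ∀ q ∈ QQ (R o), q ∈ M := fun q hq => hSM (b.Q_le_S hq)
    obtain ⟨W, hW, hF⟩ := natC_full_of_sylow S hSM hSr hr hr1 hUsq (hQM a ha)
      (hQM c' hc') (hQU a ha) (hQU c' hc') (hmv a hna) (hmv c' hnc) (hmv _ hnac)
    rw [← hU] at hW
    have hWU : W ≤ U := hW.W_le
    -- `V ≤ W`
    have hVW : V ≤ W := by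
      obtain ⟨t, ht, v, hv, hne⟩ := exists_mv b hr
      have hv1 : v ≠ 1 := by
        rintro rfl
        exact hne (by rw [mul_one, one_mul])
      obtain ⟨c, hc, e⟩ := exists_conj_X b hr hv hv1
      have h1 := hW.adj r hW.mem hr1 t (hQM t ht) (hQU t ht) c (hXM hc) (by
        rw [e]
        intro h
        exact hne (mul_inv_eq_iff_eq_mul.1 h))
      rw [e] at h1
      have h2 := cj_V_le b hr (k := 1) (one_mem _) hW.mem (v := v) (by rw [cj_one]; exact hv) (by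
        intro hvo
        apply hne
        have h3 := ((hr v).1 hvo).resolve_left hv1
        rw [h3]
        exact b.QR o t ht r hrR) h1
      rwa [cj_one] at h2
    have hKr : ∀ k ∈ K, k * r = r * k := fun k hk => (hNr k).1 (hKN hk)
    have hKW : ∀ k ∈ K, ∀ w ∈ W, k * w * k⁻¹ ∈ W := by
      intro k hk
      refine hW.blk k (hKM hk) r hW.mem hr1 ?_
      rw [hKr k hk, mul_inv_cancel_right]
      exact hW.mem
    have hKn' : ∀ t ∈ M, t * r = r * t → ∀ k ∈ K, t * k * t⁻¹ ∈ K := fun t _ htr k hk =>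
      conj_mem_of_normalizer (hKn ((hNr t).2 htr)) hk
    -- `h`
    obtain ⟨h, hh, v₀, hv₀, w, hw, hne⟩ := exists_h b hr
    have hhr : h * r = r * h := (hNr h).1 hh
    have hhi : h⁻¹ ∈ normalizer (R o : Set G) := inv_mem hh
    have hcjK : ∀ k ∈ K, ∀ y ∈ cj h W, k * y * k⁻¹ ∈ cj h W := by
      rintro k hk _ ⟨y, hy, rfl⟩
      change k * (h * y * h⁻¹) * k⁻¹ ∈ cj h W
      have h3 := hKW _ (conj_inv_mem_of_normalizer (hKn hh) hk) y hy
      have e : k * (h * y * h⁻¹) * k⁻¹ = h * (h⁻¹ * k * h * y * (h⁻¹ * k * h)⁻¹) * h⁻¹ := by group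
      rw [e]
      exact conj_mem_cj h3
    -- `C_W(W^{h⁻¹}) ≤ R o`
    have hcen : ∀ y ∈ cj h W, (∀ u ∈ W, y * u = u * y) → y ∈ R o := by
      rcases irr_of_full hW hF hKn' hKr (B := W ⊓ centralizer (cj h⁻¹ W : Set G)) inf_le_left
        ⟨hW.mem, mem_centralizer_iff.2 (by
          rintro _ ⟨y, hy, rfl⟩
          change h⁻¹ * y * h⁻¹⁻¹ * r = r * (h⁻¹ * y * h⁻¹⁻¹)
          have h3 := hUcm y (hWU hy) r (hWU hW.mem)
          rw [inv_inv]
          calc h⁻¹ * y * h * r = h⁻¹ * y * (h * r) := by group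
            _ = h⁻¹ * (y * r) * h := by rw [hhr]; group
            _ = (h⁻¹ * r * h) * (h⁻¹ * y * h) := by rw [h3]; group
            _ = (h⁻¹ * (r * h)) * (h⁻¹ * y * h) := by group
            _ = r * (h⁻¹ * y * h) := by rw [← hhr]; group)⟩ (by
          rintro k hk y ⟨hy, hy'⟩
          refine ⟨hKW k hk y hy, mem_centralizer_iff.2 ?_⟩
          rintro _ ⟨u, hu, rfl⟩
          change h⁻¹ * u * h⁻¹⁻¹ * (k * y * k⁻¹) = k * y * k⁻¹ * (h⁻¹ * u * h⁻¹⁻¹)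
          rw [inv_inv]
          have h3 : h * k⁻¹ * h⁻¹ ∈ K := conj_mem_of_normalizer (hKn hh) (K.inv_mem hk)
          have h4 := hKW _ h3 u hu
          have h5 := mem_centralizer_iff.1 hy' _ (conj_mem_cj (g := h⁻¹) h4)
          have e1 : h⁻¹ * (h * k⁻¹ * h⁻¹ * u * (h * k⁻¹ * h⁻¹)⁻¹) * h⁻¹⁻¹ = k⁻¹ * (h⁻¹ * u * h) * k := by
            group
          rw [e1] at h5
          calc h⁻¹ * u * h * (k * y * k⁻¹) = k * (k⁻¹ * (h⁻¹ * u * h) * k * y) * k⁻¹ := by group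
            _ = k * (y * (k⁻¹ * (h⁻¹ * u * h) * k)) * k⁻¹ := by rw [h5]
            _ = k * y * k⁻¹ * (h⁻¹ * u * h) := by group) with h3 | h3 | h3
      · exfalso
        apply hKV
        intro k hk
        refine mem_normalizer_of_conj fun v hv => ?_
        rcases h3 k hk v (hVW hv) with h4 | h4
        · rw [h4]; exact hv
        · rw [h4]; exact mul_mem hv (b.R_le o hrR)
      · intro y hy hy'
        have h4 : h⁻¹ * y * h ∈ W := mem_cj.1 hy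
        have h5 : h⁻¹ * y * h ∈ centralizer (cj h⁻¹ W : Set G) := by
          rw [mem_centralizer_iff]
          rintro _ ⟨u, hu, rfl⟩
          change h⁻¹ * u * h⁻¹⁻¹ * (h⁻¹ * y * h) = h⁻¹ * y * h * (h⁻¹ * u * h⁻¹⁻¹)
          have h6 := hy' u hu
          calc h⁻¹ * u * h⁻¹⁻¹ * (h⁻¹ * y * h) = h⁻¹ * (u * y) * h := by group
            _ = h⁻¹ * (y * u) * h := by rw [h6]
            _ = _ := by group
        have h6 := (hr _).2 (h3 _ ⟨h4, h5⟩)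
        have h7 := conj_mem_of_normalizer hh h6
        have e : h * (h⁻¹ * y * h) * h⁻¹ = y := by group
        rwa [e] at h7
      · exfalso
        obtain ⟨w', hw', rfl⟩ := hw
        change v₀ * (h * w' * h⁻¹) ≠ h * w' * h⁻¹ * v₀ at hne
        apply hne
        have h4 := (h3 (hVW hw')).2
        have h5 := mem_centralizer_iff.1 h4 _ (conj_mem_cj (g := h⁻¹) (hVW hv₀))
        rw [inv_inv] at h5
        calc v₀ * (h * w' * h⁻¹) = h * (h⁻¹ * v₀ * h * w') * h⁻¹ := by group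
          _ = h * (w' * (h⁻¹ * v₀ * h)) * h⁻¹ := by rw [h5]
          _ = h * w' * h⁻¹ * v₀ := by group
    -- `w` moves the point `j` to another point
    have hwW : w ∈ cj h W := cj_mono hVW hw
    have hwQ : w ∈ QQ (R o) := b.W_le_Q o (cj_le_WW hh hw)
    have hwV : w ∉ centralizer (V : Set G) := fun h3 => hne (mem_centralizer_iff.1 h3 v₀ hv₀)
    obtain ⟨l, hlj, hlo, hl⟩ := movesQ b.toBT hj hwQ hwV
    have hwn : w * n * w⁻¹ ∈ ZQ R l := by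
      rw [← cj_ZQ b.toBT hl]; exact conj_mem_cj hnj
    have h3 : w * n * w⁻¹ * n⁻¹ ∈ R o := by
      refine hcen _ ?_ ?_
      · have h4 := hcjK n hnK _ (inv_mem hwW)
        have e : w * n * w⁻¹ * n⁻¹ = w * (n * w⁻¹ * n⁻¹) := by group
        rw [e]
        exact mul_mem hwW h4
      · intro u hu
        have h4 := hZU l _ hwn u (hWU hu)
        have h5 := hZU j n hnj u (hWU hu)
        have h6 : n⁻¹ * u = u * n⁻¹ := by
          rw [inv_mul_eq_iff_eq_mul, ← mul_assoc, h5, mul_inv_cancel_right]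
        rw [mul_assoc, h6, ← mul_assoc, h4, mul_assoc]
    apply hnot l hlj
    have e : n = (w * n * w⁻¹ * n⁻¹)⁻¹ * (w * n * w⁻¹) := by group
    rw [e]
    exact mul_mem (inv_mem (b.V_Q l (b.R_le o h3))) (ZQ_le l hwn)
  · -- `|Q o : C(U)| = 2`
    push Not at hcase
    obtain ⟨t, ht, v, hv, hne⟩ := exists_mv b hr
    have htU : t ∉ centralizer (U : Set G) := fun h3 => hne (mem_centralizer_iff.1 h3 v (hVU hv)).symm
    have htr : t * r = r * t := b.QR o t ht r hrR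
    have htr₂ : t * r₂ * t⁻¹ = r₂ * r := by
      refine (hQU t ht r₂ (hVU h2V)).resolve_left fun h3 => hne ?_
      have h3' : t * r₂ = r₂ * t := mul_inv_eq_iff_eq_mul.1 h3
      rcases mem_V b hr hj h2j h21 hv with h4 | h4
      · exact b.QR o t ht v h4
      · have h5 := b.QR o t ht _ h4
        calc t * v = t * r₂ * (r₂⁻¹ * v) := by group
          _ = r₂ * (t * (r₂⁻¹ * v)) := by rw [h3']; group
          _ = v * t := by rw [h5]; group
    have key : ∀ u ∈ U, t * u * t⁻¹ = u → u ∈ ZQ R o := by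
      intro u hu h3
      refine ⟨hα hu, mem_centralizer_iff.2 fun q hq => ?_⟩
      by_cases hqU : q ∈ centralizer (U : Set G)
      · exact (mem_centralizer_iff.1 hqU u hu).symm
      · have h4 := hcase t ht q hq htU hqU
        have h5 := mem_centralizer_iff.1 h4 u hu
        have h6 : t * u = u * t := mul_inv_eq_iff_eq_mul.1 h3
        apply mul_left_cancel (a := t)
        rw [← mul_assoc, ← h5, ← mul_assoc, ← h6, mul_assoc]
    have hdec : ∀ u ∈ U, u ∈ ZQ R o ∨ r₂⁻¹ * u ∈ ZQ R o := by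
      intro u hu
      rcases hQU t ht u hu with h3 | h3
      · exact Or.inl (key u hu h3)
      · right
        have h4 : r₂⁻¹ * u ∈ U := mul_mem (inv_mem (hVU h2V)) hu
        refine key _ h4 ?_
        have h5 := hUcm r (hVU (b.R_le o hrR)) _ h4
        calc t * (r₂⁻¹ * u) * t⁻¹ = (t * r₂ * t⁻¹)⁻¹ * (t * u * t⁻¹) := by group
          _ = r⁻¹ * ((r₂⁻¹ * u) * r) := by rw [htr₂, h3]; group
          _ = r₂⁻¹ * u := by rw [← h5]; group
    have hCZM : ∀ a ∈ centralizer (zc (S : Subgroup G) : Set G), ∀ u ∈ U, a * u * a⁻¹ ∈ U := fun a ha u hu =>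
      conj_mem_of_normalizer (hMU (hZM ha)) hu
    obtain ⟨d, hd, H⟩ := avg b hr hj h2j h21 (A := centralizer (zc (S : Subgroup G) : Set G))
      (D := U ⊓ ZQ R o)
      (fun s hs => mem_centralizer_iff.2 fun z hz => ((mem_zc.1 hz).2.1 s hs).symm) hCZN
      (le_inf ((b.R_le o).trans hVU) (R_le_ZQ b.toBT o)) inf_le_right
      (fun a ha d hd => ⟨hCZM a ha d hd.1, conj_mem_of_normalizer (hnZ (hCZN ha)) hd.2⟩)
      (by
        intro a ha
        have h3 := hCZM a ha r₂ (hVU h2V)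
        have e : r₂⁻¹ * a * r₂ * a⁻¹ = r₂⁻¹ * (a * r₂ * a⁻¹) := by group
        rw [e]
        refine ⟨U.mul_mem (U.inv_mem (hVU h2V)) h3, ?_⟩
        refine (hdec _ h3).resolve_left fun h4 => ?_
        have h5 := conj_inv_mem_of_normalizer (hnZ (hCZN ha)) h4
        have e : a⁻¹ * (a * r₂ * a⁻¹) * a = r₂ := by group
        rw [e] at h5
        exact not_mem_ZQ b hr hj h2j h21 h5)
    obtain ⟨a, ha, had⟩ := ZQ_Q bs (Ne.symm hj) hd.2 (hUQ j hd.1)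
    have hadZ := mem_zc_of b hr had (by
      intro s hs
      have h3 := fix_c b hr hj h2j h21 hd.2 (b.S_V hs) (b.S_R hs)
        (H s (mem_centralizer_iff.2 fun z hz => ((mem_zc.1 hz).2.1 s hs).symm))
      have e : s * (a * d) * s⁻¹ * (a * d)⁻¹ = (s * a * s⁻¹) * (s * d * s⁻¹ * d⁻¹) * a⁻¹ := by group
      rw [e]
      exact mul_mem (mul_mem (conj_mem_of_normalizer (b.S_R hs) ha) h3) (inv_mem ha))
    apply hKV
    refine hKZ.trans fun m hm => mem_normalizer_of_conj fun v hv => ?_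
    have hmN := hCZN hm
    have h3 : a * d * m = m * (a * d) := mem_centralizer_iff.1 hm _ hadZ.1
    have h4 : a * m = m * a := by
      rcases (hr a).1 ha with rfl | rfl
      · rw [one_mul, mul_one]
      · exact ((hNr m).1 hmN).symm
    have h5 : d * m = m * d := by
      apply mul_left_cancel (a := a)
      rw [← mul_assoc, h3, ← mul_assoc, ← h4, mul_assoc]
    have h6 := H m hm
    have e1 : (r₂ * d)⁻¹ * m * (r₂ * d) * m⁻¹ = d⁻¹ * (r₂⁻¹ * m * r₂ * m⁻¹) * d := by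
      have e2 : d * m⁻¹ = m⁻¹ * d := by
        rw [eq_inv_mul_iff_mul_eq, ← mul_assoc, ← h5, mul_inv_cancel_right]
      calc (r₂ * d)⁻¹ * m * (r₂ * d) * m⁻¹ = d⁻¹ * r₂⁻¹ * m * r₂ * (d * m⁻¹) := by group
        _ = _ := by rw [e2]; group
    rw [e1] at h6
    have hdN : d ∈ normalizer (R o : Set G) := b.Q_le o (ZQ_le o hd.2)
    have h7 := conj_mem_of_normalizer hdN h6
    have e2 : d * (d⁻¹ * (r₂⁻¹ * m * r₂ * m⁻¹) * d) * d⁻¹ = r₂⁻¹ * m * r₂ * m⁻¹ := by group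
    rw [e2] at h7
    have h8 : m * r₂ * m⁻¹ ∈ V := by
      have e : m * r₂ * m⁻¹ = r₂ * (r₂⁻¹ * m * r₂ * m⁻¹) := by group
      rw [e]
      exact mul_mem h2V (b.R_le o h7)
    rcases mem_V b hr hj h2j h21 hv with h9 | h9
    · exact b.R_le o (conj_mem_of_normalizer hmN h9)
    · have e : m * v * m⁻¹ = (m * r₂ * m⁻¹) * (m * (r₂⁻¹ * v) * m⁻¹) := by group
      rw [e]
      exact mul_mem h8 (b.R_le o (conj_mem_of_normalizer hmN h9))

/-- **(A), (B)** : the choice of `z` -/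
theorem exists_z_aux {z₀ : G} (hz₀ : z₀ ∈ zc (S : Subgroup G) ⊓ centralizer (P : Set G)) (hz₀1 : z₀ ≠ 1)
    (hα : UM V (MZ S V R) ≤ QQ (R o)) :
    ∃ z ∈ zc (S : Subgroup G) ⊓ centralizer (P : Set G), z ≠ 1 ∧
      ∀ a ∈ normalizer (R o : Set G), a * z = z * a → (∀ v ∈ V, a * v * a⁻¹ ∈ V ⊔ ZQ R o) →
        a ∈ normalizer (V : Set G) := by
  have hNr := fun g => @mem_N_iff G _ ι _ S P V R o b r hr g
  obtain ⟨j, k, hj, hk, hjk⟩ := b.one_lt
  obtain ⟨r₂, h21, h22, h2⟩ := b.exists_gen j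
  have h2j : r₂ ∈ R j := (h2 _).2 (Or.inr rfl)
  have h2V := b.R_le j h2j
  obtain ⟨c, hc, H⟩ := exists_avg b hr hj h2j h21
  have hVn : ∀ a ∈ normalizer (V : Set G), ∀ v ∈ V, a * v * a⁻¹ ∈ V ⊔ ZQ R o := fun a ha v hv =>
    mem_sup_left (conj_mem_of_normalizer ha hv)
  obtain ⟨a, ha, hac⟩ := mem_of_alpha b hr hz₀ hz₀1 hα hc fun g hgV hgR =>
    fix_c b hr hj h2j h21 hc hgV hgR (H g hgR (hVn g hgV))
  have hZ := mem_zc_of b hr hac (by
    intro s hs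
    have h3 := fix_c b hr hj h2j h21 hc (b.S_V hs) (b.S_R hs) (H s (b.S_R hs) (hVn s (b.S_V hs)))
    have e : s * (a * c) * s⁻¹ * (a * c)⁻¹ = (s * a * s⁻¹) * (s * c * s⁻¹ * c⁻¹) * a⁻¹ := by group
    rw [e]
    exact mul_mem (mul_mem (conj_mem_of_normalizer (b.S_R hs) ha) h3) (inv_mem ha))
  have main : ∀ g ∈ normalizer (R o : Set G), g * (a * c) = a * c * g →
      (∀ v ∈ V, g * v * g⁻¹ ∈ V ⊔ ZQ R o) → g ∈ normalizer (V : Set G) := by
    intro g hg hgc hgV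
    refine mem_normalizer_of_conj fun v hv => ?_
    have h4 : g * a = a * g := by
      rcases (hr a).1 ha with rfl | rfl
      · rw [one_mul, mul_one]
      · exact (hNr g).1 hg
    have h5 : g * c = c * g := by
      apply mul_left_cancel (a := a)
      rw [← mul_assoc, ← h4, mul_assoc, hgc, mul_assoc]
    have h6 := H g hg hgV
    have e1 : (r₂ * c)⁻¹ * g * (r₂ * c) * g⁻¹ = c⁻¹ * (r₂⁻¹ * g * r₂ * g⁻¹) * c := by
      have e2 : c * g⁻¹ = g⁻¹ * c := by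
        rw [eq_inv_mul_iff_mul_eq, ← mul_assoc, h5, mul_inv_cancel_right]
      calc (r₂ * c)⁻¹ * g * (r₂ * c) * g⁻¹ = c⁻¹ * r₂⁻¹ * g * r₂ * (c * g⁻¹) := by group
        _ = _ := by rw [e2]; group
    rw [e1] at h6
    have hdN : c ∈ normalizer (R o : Set G) := b.Q_le o (ZQ_le o hc)
    have h7 := conj_mem_of_normalizer hdN h6
    have e2 : c * (c⁻¹ * (r₂⁻¹ * g * r₂ * g⁻¹) * c) * c⁻¹ = r₂⁻¹ * g * r₂ * g⁻¹ := by group
    rw [e2] at h7
    have h8 : g * r₂ * g⁻¹ ∈ V := by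
      have e : g * r₂ * g⁻¹ = r₂ * (r₂⁻¹ * g * r₂ * g⁻¹) := by group
      rw [e]
      exact mul_mem h2V (b.R_le o h7)
    rcases mem_V b hr hj h2j h21 hv with h9 | h9
    · exact b.R_le o (conj_mem_of_normalizer hg h9)
    · have e : g * v * g⁻¹ = (g * r₂ * g⁻¹) * (g * (r₂⁻¹ * v) * g⁻¹) := by group
      rw [e]
      exact mul_mem h8 (b.R_le o (conj_mem_of_normalizer hg h9))
  by_cases hz1 : a * c = 1
  · refine ⟨z₀, hz₀, hz₀1, fun g hg _ hgV => main g hg ?_ hgV⟩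
    rw [hz1, mul_one, one_mul]
  · exact ⟨a * c, hZ, hz1, fun g hg hgz hgV => main g hg hgz hgV⟩

omit hr in
/-- **(A), (B)** : the choice of `z` -/
theorem exists_z {z₀ : G} (hz₀ : z₀ ∈ zc (S : Subgroup G) ⊓ centralizer (P : Set G)) (hz₀1 : z₀ ≠ 1)
    (hα : UM V (MZ S V R) ≤ QQ (R o)) :
    ∃ z ∈ zc (S : Subgroup G) ⊓ centralizer (P : Set G), z ≠ 1 ∧
      ∀ a ∈ normalizer (R o : Set G), a * z = z * a → (∀ v ∈ V, a * v * a⁻¹ ∈ V ⊔ ZQ R o) →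
        a ∈ normalizer (V : Set G) := by
  obtain ⟨r, -, -, hr⟩ := b.exists_gen o
  exact exists_z_aux b hr hz₀ hz₀1 hα

/-- the field `noPar` of `TvH`, general form -/
theorem noPar' {M : Subgroup G}
    (H : ∀ a ∈ M, a ∈ normalizer (R o : Set G) → (∀ v ∈ V, a * v * a⁻¹ ∈ V ⊔ ZQ R o) →
      a ∈ normalizer (V : Set G)) {j : ι} (hj : j ≠ o) {t : G} (ht : t ∈ R j) (ht1 : t ≠ 1)
    {Q : G → Subgroup G} (hQ : Q r = QQ (R o)) :
    ∀ a a', TvDef.Adj M r t r a → TvDef.Adj M r t r a' → a * a' ∈ TvDef.ZC Q r → a' = a ∨ a' = r * a := by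
  rintro _ _ ⟨m, hm, hmr, rfl⟩ ⟨m', hm', hmr', rfl⟩ hZ
  have hNr := fun g => @mem_N_iff G _ ι _ S P V R o b r hr g
  have hnZ : normalizer (R o : Set G) ≤ normalizer (ZQ R o : Set G) := N_le_NZQ o
  have htV := b.R_le j ht
  have hmN : m ∈ normalizer (R o : Set G) := (hNr m).2 (mul_inv_eq_iff_eq_mul.1 hmr)
  have hmN' : m' ∈ normalizer (R o : Set G) := (hNr m').2 (mul_inv_eq_iff_eq_mul.1 hmr')
  have hQN : normalizer (R o : Set G) ≤ normalizer (QQ (R o) : Set G) := le_normalizer_O2 _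
  have htQ : t ∈ QQ (R o) := b.V_Q o htV
  have h1 : m * t * m⁻¹ * (m' * t * m'⁻¹) ∈ ZQ R o := by
    refine ⟨(QQ (R o)).mul_mem (conj_mem_of_normalizer (hQN hmN) htQ)
      (conj_mem_of_normalizer (hQN hmN') htQ), ?_⟩
    have h3 := hZ
    unfold TvDef.ZC at h3
    rwa [hQ] at h3
  obtain ⟨g, hg⟩ : ∃ g, g = m⁻¹ * m' := ⟨_, rfl⟩
  have hgN : g ∈ normalizer (R o : Set G) := by rw [hg]; exact mul_mem (inv_mem hmN) hmN'
  have hgM : g ∈ M := by rw [hg]; exact mul_mem (inv_mem hm) hm'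
  have h2 : t * (g * t * g⁻¹) ∈ ZQ R o := by
    have h3 := conj_inv_mem_of_normalizer (hnZ hmN) h1
    have e : m⁻¹ * (m * t * m⁻¹ * (m' * t * m'⁻¹)) * m = t * (g * t * g⁻¹) := by rw [hg]; group
    rwa [e] at h3
  have h3 : g * t * g⁻¹ ∈ V ⊔ ZQ R o := by
    have e : g * t * g⁻¹ = t⁻¹ * (t * (g * t * g⁻¹)) := by group
    rw [e]
    exact mul_mem (mem_sup_left (inv_mem htV)) (mem_sup_right h2)
  have h4 : g ∈ normalizer (V : Set G) := by
    refine H g hgM hgN fun v hv => ?_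
    rcases mem_V b hr hj ht ht1 hv with h9 | h9
    · exact mem_sup_left (b.R_le o (conj_mem_of_normalizer hgN h9))
    · have e : g * v * g⁻¹ = (g * t * g⁻¹) * (g * (t⁻¹ * v) * g⁻¹) := by group
      rw [e]
      exact mul_mem h3 (mem_sup_left (b.R_le o (conj_mem_of_normalizer hgN h9)))
  have h5 := comm_mem_R b h4 hgN htV
  have e : m' * t * m'⁻¹ = m * (g * t * g⁻¹ * t⁻¹) * m⁻¹ * (m * t * m⁻¹) := by rw [hg]; group
  rcases (hr _).1 h5 with h6 | h6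
  · left
    rw [e, h6, mul_one, mul_inv_cancel, one_mul]
  · right
    rw [e, h6, hmr]

/-- the field `noPar` of `TvH` -/
theorem noPar {z : G} {M : Subgroup G} (hMz : M ≤ centralizer ({z} : Set G))
    (H : ∀ a ∈ normalizer (R o : Set G), a * z = z * a → (∀ v ∈ V, a * v * a⁻¹ ∈ V ⊔ ZQ R o) →
      a ∈ normalizer (V : Set G)) {j : ι} (hj : j ≠ o) {t : G} (ht : t ∈ R j) (ht1 : t ≠ 1)
    {Q : G → Subgroup G} (hQ : Q r = QQ (R o)) :
    ∀ a a', TvDef.Adj M r t r a → TvDef.Adj M r t r a' → a * a' ∈ TvDef.ZC Q r → a' = a ∨ a' = r * a :=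
  noPar' b hr (fun a ha haN haV => H a haN (mem_C.1 (hMz ha)) haV) hj ht ht1 hQ

/-- **(3) of #15959** for `M ≥ S, X, Z(Q o)` centralising `Z₀` : no parallels -/
theorem norm_of_par {z₀ : G} (hz₀ : z₀ ∈ zc (S : Subgroup G) ⊓ centralizer (P : Set G)) (hz₀1 : z₀ ≠ 1)
    {M : Subgroup G} (hSM : (S : Subgroup G) ≤ M) (hXM : XX V R ≤ M) (hZM : ZQ R o ≤ M)
    (hMz : ∀ y ∈ zc (S : Subgroup G) ⊓ centralizer (P : Set G), M ≤ centralizer ({y} : Set G)) :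
    ∀ g ∈ M, g ∈ normalizer (R o : Set G) → (∀ v ∈ V, g * v * g⁻¹ ∈ V ⊔ ZQ R o) →
      g ∈ normalizer (V : Set G) := by
  have hLE := Alpha.HT.le_all b
  have bs := b.toBTS
  have hrR := r_mem b hr
  have hNr := fun g => @mem_N_iff G _ ι _ S P V R o b r hr g
  have hnZ : normalizer (R o : Set G) ≤ normalizer (ZQ R o : Set G) := N_le_NZQ o
  obtain ⟨j, k, hj, hk, hjk⟩ := b.one_lt
  obtain ⟨r₂, h21, h22, h2⟩ := b.exists_gen j
  have h2j : r₂ ∈ R j := (h2 _).2 (Or.inr rfl)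
  have h2V := b.R_le j h2j
  obtain ⟨x, hx, ex, ex'⟩ := b.trans_X (Ne.symm hj) hj
  have hxM := hXM hx
  -- `U`
  set U := UM V M with hU
  have hMU : M ≤ normalizer (U : Set G) := le_normalizer_cl _ _
  have hVU : V ≤ U := le_cl _ _
  have d := b.dt hz₀ hz₀1
  have hUle : U ≤ UM V (centralizer ({z₀} : Set G)) := iSup_le fun m => cj_le_cl (hMz z₀ hz₀ m.2)
  have hZjM : ZQ R j ≤ M := by
    rw [← cj_ZQ b.toBT ex, cj_le_iff]
    exact fun y hy => mul_mem (mul_mem hxM (hZM hy)) (inv_mem hxM)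
  have hDn : ∀ g ∈ M, g ∈ normalizer (R o : Set G) → ∀ y ∈ U ⊓ ZQ R o, g * y * g⁻¹ ∈ U ⊓ ZQ R o :=
    fun g hg hgN y hy => ⟨conj_mem_of_normalizer (hMU hg) hy.1, conj_mem_of_normalizer (hnZ hgN) hy.2⟩
  have hD : ∀ g ∈ M, g ∈ normalizer (R o : Set G) → g * r₂ * g⁻¹ ∈ V ⊔ ZQ R o →
      r₂⁻¹ * (g * r₂ * g⁻¹) ∈ U ⊓ ZQ R o := by
    intro g hg hgN h3
    refine ⟨U.mul_mem (U.inv_mem (hVU h2V)) (conj_mem_of_normalizer (hMU hg) (hVU h2V)), ?_⟩
    refine (mem_VZ b hr hj h2j h21 h3).resolve_left fun h4 => ?_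
    have h5 := conj_inv_mem_of_normalizer (hnZ hgN) h4
    have e : g⁻¹ * (g * r₂ * g⁻¹) * g = r₂ := by group
    rw [e] at h5
    exact not_mem_ZQ b hr hj h2j h21 h5
  obtain ⟨c, hc, H⟩ := avg b hr hj h2j h21
    (A := (M ⊓ normalizer (R o : Set G)) ⊓ normalizer ((V ⊔ ZQ R o : Subgroup G) : Set G))
    (D := U ⊓ ZQ R o) (by
      refine le_inf (le_inf hSM b.S_R) fun s hs => ?_
      rw [← cj_eq_self_iff, cj_sup, cj_eq_self_iff.2 (b.S_V hs), cj_eq_self_iff.2 (hnZ (b.S_R hs))])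
    (inf_le_left.trans inf_le_right) (le_inf ((b.R_le o).trans hVU) (R_le_ZQ b.toBT o)) inf_le_right
    (fun a ha d hd => hDn a ha.1.1 ha.1.2 d hd) (by
      intro a ha
      have h3 : a * r₂ * a⁻¹ ∈ V ⊔ ZQ R o :=
        conj_mem_of_normalizer ha.2 (mem_sup_left (b.R_le j h2j))
      have h4 := hD a ha.1.1 ha.1.2 h3
      have e : r₂⁻¹ * (a * r₂ * a⁻¹) = r₂⁻¹ * a * r₂ * a⁻¹ := by group
      rwa [e] at h4)
  have hA : ∀ a ∈ M, a ∈ normalizer (R o : Set G) → (∀ v ∈ V, a * v * a⁻¹ ∈ V ⊔ ZQ R o) →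
      a ∈ (M ⊓ normalizer (R o : Set G)) ⊓ normalizer ((V ⊔ ZQ R o : Subgroup G) : Set G) := by
    intro a haM haN haV
    refine ⟨⟨haM, haN⟩, mem_normalizer_of_conj fun y hy => ?_⟩
    have hle : ZQ R o ≤ normalizer (V : Set G) := (ZQ_le o).trans (b.Q_le_NV o)
    rw [← SetLike.mem_coe, coe_mul_of_right_le_normalizer_left _ _ hle] at hy
    obtain ⟨v, hv, n, hn, rfl⟩ := hy
    change a * (v * n) * a⁻¹ ∈ V ⊔ ZQ R o
    have e : a * (v * n) * a⁻¹ = (a * v * a⁻¹) * (a * n * a⁻¹) := by group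
    rw [e]
    exact mul_mem (haV v hv) (mem_sup_right (conj_mem_of_normalizer (hnZ haN) hn))
  have hVn : ∀ a ∈ normalizer (V : Set G), ∀ v ∈ V, a * v * a⁻¹ ∈ V ⊔ ZQ R o := fun a ha v hv =>
    mem_sup_left (conj_mem_of_normalizer ha hv)
  have hfix : ∀ a ∈ M, a ∈ normalizer (V : Set G) → a ∈ normalizer (R o : Set G) → a * c * a⁻¹ * c⁻¹ ∈ R o :=
    fun a haM haV haR => fix_c b hr hj h2j h21 hc.2 haV haR (H a (hA a haM haR (hVn a haV)))
  -- `c` commutes with `Z(Q j)`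
  have h1 : ∀ m ∈ ZQ R j, m * c = c * m := by
    intro m hm
    have hmV := ZQ_le_cen b.toBT j hm
    have h3 := hfix m (hZjM hm) (cen_le_NV V hmV) (b.cen_le_N o hmV)
    have h4 : m * c * m⁻¹ * c⁻¹ ∈ CenX V R := by
      rw [← ZQ_inf bs hLE (Ne.symm hj)]
      refine ⟨(ZQ R o).mul_mem (conj_mem_of_normalizer (hnZ (b.cen_le_N o hmV)) hc.2)
        ((ZQ R o).inv_mem hc.2), ?_⟩
      exact comm_mem_of' hm (N_le_NZQ j (b.cen_le_N j (ZQ_le_cen b.toBT o hc.2)))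
    have h5 := bs.cen_VX (b.R_le o h3) h4
    exact mul_inv_eq_iff_eq_mul.1 (mul_inv_eq_one.1 h5)
  have h3 : x * c * x⁻¹ ∈ QQ (R o) := by
    have h4 : x * c * x⁻¹ ∈ UM V (centralizer ({z₀} : Set G)) ⊓ QQ (R o) := by
      rw [← d.U_cen_N b.toBT o]
      refine ⟨hUle (conj_mem_of_normalizer (hMU hxM) hc.1), mem_centralizer_iff.2 fun m hm => ?_⟩
      have h6 := d.N_le o hm
      have hm' : m ∈ ZQ R o :=
        ⟨MinSimple.VModule.zc_le _ h6, mem_centralizer_iff.2 fun q hq => (mem_zc.1 h6).2.1 q hq⟩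
      rw [← cj_ZQ b.toBT ex', mem_cj] at hm'
      have h7 := h1 _ hm'
      calc m * (x * c * x⁻¹) = x * ((x⁻¹ * m * x) * c) * x⁻¹ := by group
        _ = x * (c * (x⁻¹ * m * x)) * x⁻¹ := by rw [h7]
        _ = x * c * x⁻¹ * m := by group
    exact h4.2
  obtain ⟨a, ha, hac⟩ := of_conj b hr hx ex hj hc.2 h3
  have hZ := mem_zc_of b hr hac (by
    intro s hs
    have h3 := hfix s (hSM hs) (b.S_V hs) (b.S_R hs)
    have e : s * (a * c) * s⁻¹ * (a * c)⁻¹ = (s * a * s⁻¹) * (s * c * s⁻¹ * c⁻¹) * a⁻¹ := by group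
    rw [e]
    exact mul_mem (mul_mem (conj_mem_of_normalizer (b.S_R hs) ha) h3) (inv_mem ha))
  intro g hgM hg hgV
  refine mem_normalizer_of_conj fun v hv => ?_
  have hgc : g * (a * c) = a * c * g := mem_C.1 (hMz _ hZ hgM)
  have h4 : g * a = a * g := by
    rcases (hr a).1 ha with rfl | rfl
    · rw [one_mul, mul_one]
    · exact (hNr g).1 hg
  have h5 : g * c = c * g := by
    apply mul_left_cancel (a := a)
    rw [← mul_assoc, ← h4, mul_assoc, hgc, mul_assoc]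
  have h6 := H g (hA g hgM hg hgV)
  have e1 : (r₂ * c)⁻¹ * g * (r₂ * c) * g⁻¹ = c⁻¹ * (r₂⁻¹ * g * r₂ * g⁻¹) * c := by
    have e2 : c * g⁻¹ = g⁻¹ * c := by
      rw [eq_inv_mul_iff_mul_eq, ← mul_assoc, h5, mul_inv_cancel_right]
    calc (r₂ * c)⁻¹ * g * (r₂ * c) * g⁻¹ = c⁻¹ * r₂⁻¹ * g * r₂ * (c * g⁻¹) := by group
      _ = _ := by rw [e2]; group
  rw [e1] at h6
  have hdN : c ∈ normalizer (R o : Set G) := b.Q_le o (ZQ_le o hc.2)
  have h7 := conj_mem_of_normalizer hdN h6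
  have e2 : c * (c⁻¹ * (r₂⁻¹ * g * r₂ * g⁻¹) * c) * c⁻¹ = r₂⁻¹ * g * r₂ * g⁻¹ := by group
  rw [e2] at h7
  have h8 : g * r₂ * g⁻¹ ∈ V := by
    have e : g * r₂ * g⁻¹ = r₂ * (r₂⁻¹ * g * r₂ * g⁻¹) := by group
    rw [e]
    exact mul_mem h2V (b.R_le o h7)
  rcases mem_V b hr hj h2j h21 hv with h9 | h9
  · exact b.R_le o (conj_mem_of_normalizer hg h9)
  · have e : g * v * g⁻¹ = (g * r₂ * g⁻¹) * (g * (r₂⁻¹ * v) * g⁻¹) := by group
    rw [e]
    exact mul_mem h8 (b.R_le o (conj_mem_of_normalizer hg h9))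

/-- **(3) of #15959** for `M₀ = ⟨C(Z), X⟩` -/
theorem norm_of_par_MZ {z₀ : G} (hz₀ : z₀ ∈ zc (S : Subgroup G) ⊓ centralizer (P : Set G)) (hz₀1 : z₀ ≠ 1) :
    ∀ g ∈ MZ S V R, g ∈ normalizer (R o : Set G) → (∀ v ∈ V, g * v * g⁻¹ ∈ V ⊔ ZQ R o) →
      g ∈ normalizer (V : Set G) := by
  have hCM : centralizer (zc (S : Subgroup G) : Set G) ≤ MZ S V R := le_sup_left
  refine norm_of_par b hr hz₀ hz₀1 (fun s hs => hCM ?_) le_sup_right (fun y hy => hCM ?_)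
    (fun y hy => MZ_le b hy)
  · exact mem_centralizer_iff.2 fun z hz => ((mem_zc.1 hz).2.1 s hs).symm
  · refine mem_centralizer_iff.2 fun z hz => ?_
    have h3 := zc_le_ZQ b hr hz
    exact ZQ_comm hy h3.1

end Cfsg.Agent.Omega.HOne.JunAB

end

section


/-!
# II.0h1, `q = 2`, JUNCTION (A), (B) (#17185) over a 2-group `S` of odd index in `N(R o)`

The statements of `HOne/JunAB` for `b : HTT S P V R o` and `hLE : ∀ i, LE V R i`.  Where a Sylow subgroup of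
`M₀ = ⟨C(Ω₁Z(S)), X⟩` was used: the hypothesis `hch : GSys (MZ S V R) (cl (R o) (MZ S V R)) r`.

* `exists_avg` (A); `mem_of_alpha` (B); `exists_z`; `noPar'`, `noPar`; `norm_of_par`, `norm_of_par_MZ`.
-/

set_option autoImplicit false
set_option linter.unusedSectionVars false

namespace Cfsg.Agent.Omega.HT.JunAB

open Subgroup Cfsg Cfsg.Agent.MinSimple.VModule Cfsg.Agent.Omega.BTwo
open Cfsg.Agent.Omega.HOneTwo Cfsg.Agent.Omega.HTwo Cfsg.Agent.Omega.HTwo.ThmA Cfsg.Agent.Omega.HTwo.Par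
open Cfsg.Agent.Omega.HTwo.Hat Cfsg.Agent.Omega.HTwo.TComp Cfsg.Agent.Omega.MinPar
open Cfsg.Agent.ZN (zc o2 le_normalizer_o2)
open Cfsg.Agent.Omega.HTwo.AlphaFive (mem_C)
open Cfsg.Agent.Omega.TV (GSys)
open Cfsg.Agent.Omega.HOne
open Cfsg.Agent.Omega.HOne.JunIrr Cfsg.Agent.Omega.HT Cfsg.Agent.Omega.HT.Two Cfsg.Agent.Omega.HT.JunIrr

universe u

variable {G : Type u} [Group G] [Finite G] {ι : Type*} {S P V : Subgroup G}
  {R : ι → Subgroup G} {o : ι} (b : HTT S P V R o) {r : G} (hr : ∀ x, x ∈ R o ↔ x = 1 ∨ x = r)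
include b hr

section basic

variable {j : ι} (hj : j ≠ o) {r₂ : G} (h2 : r₂ ∈ R j) (h21 : r₂ ≠ 1)
include hj h2 h21

/-- `V = R o ∪ r₂ R o` -/
theorem mem_V {v : G} (hv : v ∈ V) : v ∈ R o ∨ r₂⁻¹ * v ∈ R o := by
  have _ := hr
  obtain ⟨a, ha, c, hc, rfl⟩ := b.exists_mul (Ne.symm hj) hv
  by_cases hc1 : c = 1
  · left
    rw [hc1, mul_one]; exact ha
  · right
    rw [eq_of_card_two (b.card_R j) h2 h21 hc hc1, b.V_comm a (b.R_le o ha) r₂ (b.R_le j h2),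
      inv_mul_cancel_left]
    exact ha

/-- `V Z(Q o) = Z(Q o) ∪ r₂ Z(Q o)` -/
theorem mem_VZ {x : G} (hx : x ∈ V ⊔ ZQ R o) : x ∈ ZQ R o ∨ r₂⁻¹ * x ∈ ZQ R o := by
  have hle : ZQ R o ≤ normalizer (V : Set G) := (ZQ_le o).trans (b.Q_le_NV o)
  rw [← SetLike.mem_coe, coe_mul_of_right_le_normalizer_left _ _ hle] at hx
  obtain ⟨v, hv, n, hn, rfl⟩ := hx
  change v * n ∈ ZQ R o ∨ r₂⁻¹ * (v * n) ∈ ZQ R o
  rcases mem_V b hr hj h2 h21 hv with h | h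
  · exact Or.inl (mul_mem (R_le_ZQ b.toBT o h) hn)
  · right
    rw [← mul_assoc]
    exact mul_mem (R_le_ZQ b.toBT o h) hn

theorem not_mem_ZQ : r₂ ∉ ZQ R o := by
  intro h
  obtain ⟨t, ht, v, hv, hne⟩ := exists_mv b hr
  apply hne
  have hvZ : v ∈ ZQ R o := by
    rcases mem_V b hr hj h2 h21 hv with h3 | h3
    · exact R_le_ZQ b.toBT o h3
    · have : v = r₂ * (r₂⁻¹ * v) := by group
      rw [this]
      exact mul_mem h (R_le_ZQ b.toBT o h3)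
  exact ZQ_comm hvZ ht

/-- the averaging lemma -/
theorem avg (hLE : ∀ i, ThmA.LE V R i) {A D : Subgroup G} (hSA : S ≤ A) (hA : A ≤ normalizer (R o : Set G))
    (hRD : R o ≤ D) (hDZ : D ≤ ZQ R o) (hAD : ∀ a ∈ A, ∀ d ∈ D, a * d * a⁻¹ ∈ D)
    (h : ∀ a ∈ A, r₂⁻¹ * a * r₂ * a⁻¹ ∈ D) :
    ∃ d ∈ D, ∀ a ∈ A, (r₂ * d)⁻¹ * a * (r₂ * d) * a⁻¹ ∈ R o := by
  have h2V := b.R_le j h2
  refine Avg.avg (X := A) (P := S) (Y := D) (D := R o) (c := r₂) hSA
    (HT.ThmD.odd_relIndex b.S_odd hSA hA) hRD hAD (fun a ha x hx => conj_mem_of_normalizer (hA ha) hx)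
    (fun x hx y hy => conj_mem_of_normalizer (b.Q_le o (ZQ_le o (hDZ hx))) hy)
    (fun x hx => Q_sq b.toBTS (hLE o) (ZQ_le o (hDZ hx))) h (fun s hs => ?_)
  have h3 := comm_mem_R b (b.S_V hs) (b.S_R hs) h2V
  have h4 : r₂ ∈ normalizer (R o : Set G) := b.Q_le o (b.V_Q o h2V)
  have h5 := conj_inv_mem_of_normalizer h4 h3
  have e : r₂⁻¹ * (s * r₂ * s⁻¹ * r₂⁻¹) * r₂ = r₂⁻¹ * s * r₂ * s⁻¹ := by group
  rwa [e] at h5

/-- **(A)** -/
theorem exists_avg (hLE : ∀ i, ThmA.LE V R i) : ∃ c ∈ ZQ R o, ∀ a ∈ normalizer (R o : Set G), (∀ v ∈ V, a * v * a⁻¹ ∈ V ⊔ ZQ R o) →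
    (r₂ * c)⁻¹ * a * (r₂ * c) * a⁻¹ ∈ R o := by
  have hnZ : normalizer (R o : Set G) ≤ normalizer (ZQ R o : Set G) := N_le_NZQ o
  obtain ⟨c, hc, H⟩ := avg b hr hj h2 h21 hLE (A := normalizer (R o : Set G) ⊓ normalizer ((V ⊔ ZQ R o : Subgroup G) : Set G))
    (D := ZQ R o) (by
      refine le_inf b.S_R fun s hs => ?_
      rw [← cj_eq_self_iff, cj_sup, cj_eq_self_iff.2 (b.S_V hs), cj_eq_self_iff.2 (hnZ (b.S_R hs))])
    inf_le_left (R_le_ZQ b.toBT o) le_rfl (fun a ha d hd => conj_mem_of_normalizer (hnZ ha.1) hd) (by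
      intro a ha
      have h3 : a * r₂ * a⁻¹ ∈ V ⊔ ZQ R o :=
        conj_mem_of_normalizer ha.2 (mem_sup_left (b.R_le j h2))
      rcases mem_VZ b hr hj h2 h21 h3 with h4 | h4
      · exfalso
        have h5 := conj_inv_mem_of_normalizer (hnZ ha.1) h4
        have e : a⁻¹ * (a * r₂ * a⁻¹) * a = r₂ := by group
        rw [e] at h5
        exact not_mem_ZQ b hr hj h2 h21 h5
      · have e : r₂⁻¹ * (a * r₂ * a⁻¹) = r₂⁻¹ * a * r₂ * a⁻¹ := by group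
        rwa [e] at h4)
  refine ⟨c, hc, fun a ha hav => H a ⟨ha, mem_normalizer_of_conj fun x hx => ?_⟩⟩
  have hle : ZQ R o ≤ normalizer (V : Set G) := (ZQ_le o).trans (b.Q_le_NV o)
  rw [← SetLike.mem_coe, coe_mul_of_right_le_normalizer_left _ _ hle] at hx
  obtain ⟨v, hv, n, hn, rfl⟩ := hx
  change a * (v * n) * a⁻¹ ∈ V ⊔ ZQ R o
  have e : a * (v * n) * a⁻¹ = (a * v * a⁻¹) * (a * n * a⁻¹) := by group
  rw [e]
  exact mul_mem (hav v hv) (mem_sup_right (conj_mem_of_normalizer (hnZ ha) hn))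

/-- `N(V) ∩ N(R o)` fixes `c R o` -/
theorem fix_c {c a : G} (hc : c ∈ ZQ R o) (haV : a ∈ normalizer (V : Set G))
    (haR : a ∈ normalizer (R o : Set G)) (H : (r₂ * c)⁻¹ * a * (r₂ * c) * a⁻¹ ∈ R o) :
    a * c * a⁻¹ * c⁻¹ ∈ R o := by
  have h2V := b.R_le j h2
  have h3 := comm_mem_R b haV haR h2V
  have h4 : r₂ ∈ normalizer (R o : Set G) := b.Q_le o (b.V_Q o h2V)
  have h5 := conj_inv_mem_of_normalizer h4 h3
  have e : r₂⁻¹ * (a * r₂ * a⁻¹ * r₂⁻¹) * r₂ = r₂⁻¹ * a * r₂ * a⁻¹ := by group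
  rw [e] at h5
  have hcN : c ∈ normalizer (R o : Set G) := b.Q_le o (ZQ_le o hc)
  have h6 := conj_mem_of_normalizer hcN H
  have e2 : c * ((r₂ * c)⁻¹ * a * (r₂ * c) * a⁻¹) * c⁻¹ =
      (r₂⁻¹ * a * r₂ * a⁻¹) * (a * c * a⁻¹ * c⁻¹) := by group
  rw [e2] at h6
  have := mul_mem (inv_mem h5) h6
  rwa [inv_mul_cancel_left] at this

end basic

/-! ### (B) -/

/-- a product in `Z(Q i) ∩ Q j` -/
theorem of_conj {c x : G} {i j : ι} (hx : x ∈ XX V R) (e : cj x (R o) = R i) (hij : i ≠ j)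
    (hc : c ∈ ZQ R o) (h : x * c * x⁻¹ ∈ QQ (R j)) : ∃ a ∈ R o, a * c ∈ CenX V R := by
  have _ := hr
  have h1 : x * c * x⁻¹ ∈ ZQ R i := by
    rw [← cj_ZQ b.toBT e]; exact conj_mem_cj hc
  obtain ⟨a, ha, h2⟩ := ZQ_Q b.toBTS hij h1 h
  refine ⟨x⁻¹ * a * x, ?_, ?_⟩
  · rw [← e, mem_cj] at ha
    exact ha
  · have h3 := conj_inv_mem_of_normalizer (b.NV_le_NCenX (b.X_le_NV hx)) h2
    have e2 : x⁻¹ * (a * (x * c * x⁻¹)) * x = x⁻¹ * a * x * c := by group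
    rwa [e2] at h3

/-- (i): if the normal closure of `n` normalises `V`, then `n ∈ Q o` -/
theorem mem_Q_of_norm {n : G} (hn : n ∈ normalizer (R o : Set G))
    (h : cl (zpowers n) (normalizer (R o : Set G)) ≤ normalizer (V : Set G)) : n ∈ QQ (R o) := by
  have _ := hr
  rw [← b.toBTS.K_eq o]
  refine ⟨hn, ?_⟩
  let T : Subgroup G :=
    { carrier := {d | d ∈ normalizer (R o : Set G) ∧ n * d * n⁻¹ * d⁻¹ ∈ R o}
      one_mem' := ⟨one_mem _, by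
        have : n * 1 * n⁻¹ * 1⁻¹ = 1 := by group
        rw [this]; exact one_mem _⟩
      mul_mem' := by
        rintro x y ⟨hx, hx'⟩ ⟨hy, hy'⟩
        refine ⟨mul_mem hx hy, ?_⟩
        have e : n * (x * y) * n⁻¹ * (x * y)⁻¹ = (n * x * n⁻¹ * x⁻¹) * (x * (n * y * n⁻¹ * y⁻¹) * x⁻¹) := by
          group
        rw [e]
        exact mul_mem hx' (conj_mem_of_normalizer hx hy')
      inv_mem' := by
        rintro x ⟨hx, hx'⟩
        refine ⟨inv_mem hx, ?_⟩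
        have e : n * x⁻¹ * n⁻¹ * x⁻¹⁻¹ = x⁻¹ * (n * x * n⁻¹ * x⁻¹)⁻¹ * x := by group
        rw [e]
        exact conj_inv_mem_of_normalizer hx (inv_mem hx') }
  have hT : WW V (R o) ≤ T := by
    refine iSup_le fun h' => ?_
    rintro _ ⟨v, hv, rfl⟩
    change (h' : G) * v * (h' : G)⁻¹ ∈ T
    refine ⟨b.W_le_N o (cj_le_WW h'.2 (conj_mem_cj hv)), ?_⟩
    have h1 : (h' : G)⁻¹ * n * (h' : G)⁻¹⁻¹ ∈ cl (zpowers n) (normalizer (R o : Set G)) :=
      cj_le_cl (inv_mem h'.2) (conj_mem_cj (mem_zpowers n))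
    rw [inv_inv] at h1
    have h3 : (h' : G)⁻¹ * n * (h' : G) ∈ normalizer (R o : Set G) := mul_mem (mul_mem (inv_mem h'.2) hn) h'.2
    have h4 := conj_mem_of_normalizer h'.2 (comm_mem_R b (h h1) h3 hv)
    have e : (h' : G) * ((h' : G)⁻¹ * n * h' * v * ((h' : G)⁻¹ * n * h')⁻¹ * v⁻¹) * (h' : G)⁻¹ =
        n * (h' * v * (h' : G)⁻¹) * n⁻¹ * (h' * v * (h' : G)⁻¹)⁻¹ := by group
    rwa [e] at h4
  exact fun d hd => (hT hd).2

/-- `Z ≤ Z(Q o)` -/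
theorem zc_le_ZQ : zc S ≤ ZQ R o := by
  have _ := hr
  intro z hz
  have h1 := b.zc_le_zc_Q hz
  refine ⟨zc_le _ h1, mem_centralizer_iff.2 fun q hq => ?_⟩
  exact (mem_zc.1 h1).2.1 q hq

/-- an element of `C_X` fixed by `S` modulo `R o` is in `Z` -/
theorem mem_zc_of (hLE : ∀ i, ThmA.LE V R i) {c : G} (hc : c ∈ CenX V R) (h : ∀ s ∈ S, s * c * s⁻¹ * c⁻¹ ∈ R o) :
    c ∈ zc S ⊓ centralizer (P : Set G) := by
  have _ := hr
  rw [b.cz_eq]
  refine ⟨mem_zc.2 ⟨b.Q_le_S (mem_iInf.1 (b.toBTS.CenX_le_C hc) o), fun s hs => ?_, ?_⟩, hc⟩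
  · have h1 : s * c * s⁻¹ * c⁻¹ ∈ CenX V R :=
      mul_mem (conj_mem_of_normalizer (b.NV_le_NCenX (b.S_V hs)) hc) (inv_mem hc)
    have h2 := b.toBTS.cen_VX (b.R_le o (h s hs)) h1
    exact mul_inv_eq_iff_eq_mul.1 (mul_inv_eq_one.1 h2)
  · rw [pow_two]; exact cenX_sq b.toBTS (hLE o) hc

/-- `M₀ = ⟨C(Z), X⟩` -/
def MZ (S V : Subgroup G) (R : ι → Subgroup G) : Subgroup G :=
  centralizer (zc S : Set G) ⊔ XX V R

omit hr in
theorem MZ_le {z : G} (hz : z ∈ zc S ⊓ centralizer (P : Set G)) :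
    MZ S V R ≤ centralizer ({z} : Set G) := by
  refine sup_le (centralizer_le ?_) (b.X_le_cen hz)
  rintro _ rfl
  exact hz.1

/-- `GSys` for `M₀` from `2 ∤ |M₀ : S|` -/
theorem gsys_MZ {z₀ : G} (hz₀ : z₀ ∈ zc S ⊓ centralizer (P : Set G)) (hz₀1 : z₀ ≠ 1)
    (hodd : ¬ 2 ∣ S.relIndex (MZ S V R)) : GSys (MZ S V R) (cl (R o) (MZ S V R)) r := by
  have hNr := fun g => mem_N_iff b hr (g := g)
  have hUz : cl (R o) (centralizer ({z₀} : Set G)) ≤ zc (o2 (centralizer ({z₀} : Set G))) :=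
    (b.cl_R_eq (b.trans_of_X (b.X_le_cen hz₀))).trans_le (b.cl_V_le (b.isLoc_cen hz₀.1 hz₀1) (b.X_le_cen hz₀))
  have hMz₀ : MZ S V R ≤ centralizer ({z₀} : Set G) := MZ_le b hz₀
  have hUle : cl (R o) (MZ S V R) ≤ cl (R o) (centralizer ({z₀} : Set G)) :=
    iSup_le fun m => cj_le_cl (hMz₀ m.2)
  refine gsys_of_sylow b.S_p hodd ?_ (fun s hs => (hNr s).1 (b.S_R hs)) hr (r_ne b hr) fun x hx => ?_
  · exact fun s hs => (le_sup_left : centralizer (zc S : Set G) ≤ MZ S V R)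
      (mem_centralizer_iff.2 fun z hz => ((mem_zc.1 hz).2.1 s hs).symm)
  · rw [← pow_two]; exact (mem_zc.1 (hUz (hUle hx))).2.2

/-- **(B)** -/
theorem mem_of_alpha (hLE : ∀ i, ThmA.LE V R i) (hch : GSys (MZ S V R) (cl (R o) (MZ S V R)) r)
    {z₀ : G} (hz₀ : z₀ ∈ zc S ⊓ centralizer (P : Set G)) (hz₀1 : z₀ ≠ 1)
    (hα : UM V (MZ S V R) ≤ QQ (R o)) {c : G} (hc : c ∈ ZQ R o)
    (hcN : ∀ a ∈ normalizer (V : Set G), a ∈ normalizer (R o : Set G) → a * c * a⁻¹ * c⁻¹ ∈ R o) :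
    ∃ a ∈ R o, a * c ∈ CenX V R := by
  classical
  have bs := b.toBTS
  have hr1 := r_ne b hr
  have hr2 := r_sq b hr
  have hrR := r_mem b hr
  have hNr := fun g => mem_N_iff b hr (g := g)
  have hnZ : normalizer (R o : Set G) ≤ normalizer (ZQ R o : Set G) := N_le_NZQ o
  by_contra hcon
  obtain ⟨j, k, hj, hk, hjk⟩ := b.one_lt
  obtain ⟨r₂, h21, h22, h2⟩ := b.exists_gen j
  have h2j : r₂ ∈ R j := (h2 _).2 (Or.inr rfl)
  have h2V := b.R_le j h2j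
  -- `x` interchanges `o` and `j`
  obtain ⟨x, hx, ex, ex'⟩ := b.trans_X (Ne.symm hj) hj
  have hxV := b.X_le_NV hx
  -- (1) `c` commutes with `Z(Q j)`
  have h1 : ∀ m ∈ ZQ R j, m * c = c * m := by
    intro m hm
    have hmV := ZQ_le_cen b.toBT j hm
    have h3 := hcN m (cen_le_NV V hmV) (b.cen_le_N o hmV)
    have h4 : m * c * m⁻¹ * c⁻¹ ∈ CenX V R := by
      rw [← ZQ_inf bs hLE (Ne.symm hj)]
      refine ⟨(ZQ R o).mul_mem (conj_mem_of_normalizer (hnZ (b.cen_le_N o hmV)) hc) ((ZQ R o).inv_mem hc), ?_⟩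
      exact comm_mem_of' hm (N_le_NZQ j (b.cen_le_N j (ZQ_le_cen b.toBT o hc)))
    have h5 := bs.cen_VX (b.R_le o h3) h4
    exact mul_inv_eq_iff_eq_mul.1 (mul_inv_eq_one.1 h5)
  -- (2) `n₂` commutes with `Z(Q o)`
  obtain ⟨n, hn⟩ : ∃ n, n = x * c * x⁻¹ := ⟨_, rfl⟩
  have hnj : n ∈ ZQ R j := by
    rw [hn, ← cj_ZQ b.toBT ex]; exact conj_mem_cj hc
  have hnV := ZQ_le_cen b.toBT j hnj
  have hnN : n ∈ normalizer (R o : Set G) := b.cen_le_N o hnV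
  have hno : ∀ m ∈ ZQ R o, n * m = m * n := by
    intro m hm
    rw [← cj_ZQ b.toBT ex', mem_cj] at hm
    have h3 := h1 _ hm
    rw [hn]
    calc x * c * x⁻¹ * m = x * (c * (x⁻¹ * m * x)) * x⁻¹ := by group
      _ = x * ((x⁻¹ * m * x) * c) * x⁻¹ := by rw [h3]
      _ = m * (x * c * x⁻¹) := by group
  have hnot : ∀ i, i ≠ j → n ∉ QQ (R i) := by
    intro i hi h
    apply hcon
    rw [hn] at h
    exact of_conj b hr hx ex (Ne.symm hi) hc h
  -- (3) the normal closure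
  set K := cl (zpowers n) (normalizer (R o : Set G)) with hK
  have hKN : K ≤ normalizer (R o : Set G) := cl_le (by rw [zpowers_le]; exact hnN) le_normalizer
  have hKc : K ≤ centralizer (ZQ R o : Set G) := by
    refine cl_le ?_ (hnZ.trans (normalizer_le_normalizer_centralizer _))
    rw [zpowers_le, mem_centralizer_iff]
    exact fun m hm => (hno m hm).symm
  have hKZ : K ≤ centralizer (zc S : Set G) := hKc.trans (centralizer_le (zc_le_ZQ b hr))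
  have hnK : n ∈ K := le_cl _ _ (mem_zpowers n)
  have hKn : normalizer (R o : Set G) ≤ normalizer (K : Set G) := le_normalizer_cl _ _
  have hKV : ¬ K ≤ normalizer (V : Set G) := fun h => hnot o (Ne.symm hj) (mem_Q_of_norm b hr hnN h)
  -- `M₀`, `U`
  obtain ⟨M, hM⟩ : ∃ M, M = MZ S V R := ⟨_, rfl⟩
  rw [← hM] at hα hch
  have hZM : centralizer (zc S : Set G) ≤ M := by rw [hM]; exact le_sup_left
  have hXM : XX V R ≤ M := by rw [hM]; exact le_sup_right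
  have hMz₀ : M ≤ centralizer ({z₀} : Set G) := by rw [hM]; exact MZ_le b hz₀
  have hKM : K ≤ M := hKZ.trans hZM
  have hSM : S ≤ M := fun s hs => hZM (mem_centralizer_iff.2 fun z hz => ((mem_zc.1 hz).2.1 s hs).symm)
  have hSr : ∀ s ∈ S, s * r = r * s := fun s hs => (hNr s).1 (b.S_R hs)
  have hz2 : z₀ * z₀ = 1 := by rw [← pow_two]; exact (mem_zc.1 hz₀.1).2.2
  have hSz : ∀ s ∈ S, s * z₀ = z₀ * s := (mem_zc.1 hz₀.1).2.1
  have hUeq : cl (R o) M = UM V M := b.cl_R_eq (b.trans_of_X hXM)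
  rw [← hUeq] at hα
  set U := cl (R o) M with hU
  have hUz : cl (R o) (centralizer ({z₀} : Set G)) ≤ zc (o2 (centralizer ({z₀} : Set G))) :=
    (b.cl_R_eq (b.trans_of_X (b.X_le_cen hz₀))).trans_le (b.cl_V_le (b.isLoc_cen hz₀.1 hz₀1) (b.X_le_cen hz₀))
  have hUle : U ≤ cl (R o) (centralizer ({z₀} : Set G)) := iSup_le fun m => cj_le_cl (hMz₀ m.2)
  have hUcm : ∀ x ∈ U, ∀ y ∈ U, x * y = y * x := fun x hx y hy =>
    (mem_zc.1 (hUz (hUle hy))).2.1 x (zc_le _ (hUz (hUle hx)))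
  have hUsq : ∀ x ∈ U, x * x = 1 := fun x hx => by
    rw [← pow_two]; exact (mem_zc.1 (hUz (hUle hx))).2.2
  have hMU : M ≤ normalizer (U : Set G) := le_normalizer_cl _ _
  have hVU : V ≤ U := by rw [hUeq]; exact le_cl _ _
  -- `U ≤ Q i` for all `i`
  have hUQ : ∀ i, U ≤ QQ (R i) := by
    intro i
    obtain ⟨y, hy, e⟩ := b.trans_X_one o i
    have h3 := cj_mono (g := y) hα
    rwa [b.cj_QQ e, cj_eq_self_iff.2 (hMU (hXM hy))] at h3
  have hZU : ∀ i, ∀ m ∈ ZQ R i, ∀ u ∈ U, m * u = u * m := fun i m hm u hu => (ZQ_comm hm (hUQ i hu)).symm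
  -- `Q o` acts on `U` as transvections
  have hQU : ∀ q ∈ QQ (R o), ∀ n ∈ U, q * n * q⁻¹ = n ∨ q * n * q⁻¹ = n * r := by
    intro q hq n hn
    have h5 := Q_comm bs (hLE o) hq (hα hn)
    rcases (hr _).1 h5 with h6 | h6
    · left; exact mul_inv_eq_one.1 h6
    · right
      rw [mul_inv_eq_iff_eq_mul] at h6
      rw [h6]
      exact (b.QR o n (hα hn) r hrR).symm
  have hmv : ∀ q : G, q ∉ centralizer (U : Set G) → ∃ n ∈ U, q * n * q⁻¹ ≠ n := by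
    intro q hq
    by_contra hcon
    push Not at hcon
    exact hq (mem_centralizer_iff.2 fun n hn => (mul_inv_eq_iff_eq_mul.1 (hcon n hn)).symm)
  have hCZN : centralizer (zc S : Set G) ≤ normalizer (R o : Set G) := by
    intro g hg
    rw [hNr]
    exact (mem_centralizer_iff.1 hg r (b.R_le_zc hrR)).symm
  by_cases hcase : ∃ a ∈ QQ (R o), ∃ c ∈ QQ (R o), a ∉ centralizer (U : Set G) ∧
      c ∉ centralizer (U : Set G) ∧ a * c ∉ centralizer (U : Set G)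
  · -- the component
    obtain ⟨a, ha, c', hc', hna, hnc, hnac⟩ := hcase
    have hQM : ∀ q ∈ QQ (R o), q ∈ M := fun q hq => hSM (b.Q_le_S hq)
    obtain ⟨W, hW, hF⟩ := natC_full_of_gsys hch (hQM a ha)
      (hQM c' hc') (hQU a ha) (hQU c' hc') (hmv a hna) (hmv c' hnc) (hmv _ hnac)
    have _ := hU
    have hWU : W ≤ U := hW.W_le
    -- `V ≤ W`
    have hVW : V ≤ W := by
      obtain ⟨t, ht, v, hv, hne⟩ := exists_mv b hr
      have hv1 : v ≠ 1 := by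
        rintro rfl
        exact hne (by rw [mul_one, one_mul])
      obtain ⟨c, hc, e⟩ := exists_conj_X b hr hv hv1
      have h1 := hW.adj r hW.mem hr1 t (hQM t ht) (hQU t ht) c (hXM hc) (by
        rw [e]
        intro h
        exact hne (mul_inv_eq_iff_eq_mul.1 h))
      rw [e] at h1
      have h2 := cj_V_le b hr (k := 1) (one_mem _) hW.mem (v := v) (by rw [cj_one]; exact hv) (by
        intro hvo
        apply hne
        have h3 := ((hr v).1 hvo).resolve_left hv1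
        rw [h3]
        exact b.QR o t ht r hrR) h1
      rwa [cj_one] at h2
    have hKr : ∀ k ∈ K, k * r = r * k := fun k hk => (hNr k).1 (hKN hk)
    have hKW : ∀ k ∈ K, ∀ w ∈ W, k * w * k⁻¹ ∈ W := by
      intro k hk
      refine hW.blk k (hKM hk) r hW.mem hr1 ?_
      rw [hKr k hk, mul_inv_cancel_right]
      exact hW.mem
    have hKn' : ∀ t ∈ M, t * r = r * t → ∀ k ∈ K, t * k * t⁻¹ ∈ K := fun t _ htr k hk =>
      conj_mem_of_normalizer (hKn ((hNr t).2 htr)) hk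
    -- `h`
    obtain ⟨h, hh, v₀, hv₀, w, hw, hne⟩ := exists_h b hr
    have hhr : h * r = r * h := (hNr h).1 hh
    have hhi : h⁻¹ ∈ normalizer (R o : Set G) := inv_mem hh
    have hcjK : ∀ k ∈ K, ∀ y ∈ cj h W, k * y * k⁻¹ ∈ cj h W := by
      rintro k hk _ ⟨y, hy, rfl⟩
      change k * (h * y * h⁻¹) * k⁻¹ ∈ cj h W
      have h3 := hKW _ (conj_inv_mem_of_normalizer (hKn hh) hk) y hy
      have e : k * (h * y * h⁻¹) * k⁻¹ = h * (h⁻¹ * k * h * y * (h⁻¹ * k * h)⁻¹) * h⁻¹ := by group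
      rw [e]
      exact conj_mem_cj h3
    -- `C_W(W^{h⁻¹}) ≤ R o`
    have hcen : ∀ y ∈ cj h W, (∀ u ∈ W, y * u = u * y) → y ∈ R o := by
      rcases irr_of_full hW hF hKn' hKr (B := W ⊓ centralizer (cj h⁻¹ W : Set G)) inf_le_left
        ⟨hW.mem, mem_centralizer_iff.2 (by
          rintro _ ⟨y, hy, rfl⟩
          change h⁻¹ * y * h⁻¹⁻¹ * r = r * (h⁻¹ * y * h⁻¹⁻¹)
          have h3 := hUcm y (hWU hy) r (hWU hW.mem)
          rw [inv_inv]
          calc h⁻¹ * y * h * r = h⁻¹ * y * (h * r) := by group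
            _ = h⁻¹ * (y * r) * h := by rw [hhr]; group
            _ = (h⁻¹ * r * h) * (h⁻¹ * y * h) := by rw [h3]; group
            _ = (h⁻¹ * (r * h)) * (h⁻¹ * y * h) := by group
            _ = r * (h⁻¹ * y * h) := by rw [← hhr]; group)⟩ (by
          rintro k hk y ⟨hy, hy'⟩
          refine ⟨hKW k hk y hy, mem_centralizer_iff.2 ?_⟩
          rintro _ ⟨u, hu, rfl⟩
          change h⁻¹ * u * h⁻¹⁻¹ * (k * y * k⁻¹) = k * y * k⁻¹ * (h⁻¹ * u * h⁻¹⁻¹)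
          rw [inv_inv]
          have h3 : h * k⁻¹ * h⁻¹ ∈ K := conj_mem_of_normalizer (hKn hh) (K.inv_mem hk)
          have h4 := hKW _ h3 u hu
          have h5 := mem_centralizer_iff.1 hy' _ (conj_mem_cj (g := h⁻¹) h4)
          have e1 : h⁻¹ * (h * k⁻¹ * h⁻¹ * u * (h * k⁻¹ * h⁻¹)⁻¹) * h⁻¹⁻¹ = k⁻¹ * (h⁻¹ * u * h) * k := by
            group
          rw [e1] at h5
          calc h⁻¹ * u * h * (k * y * k⁻¹) = k * (k⁻¹ * (h⁻¹ * u * h) * k * y) * k⁻¹ := by group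
            _ = k * (y * (k⁻¹ * (h⁻¹ * u * h) * k)) * k⁻¹ := by rw [h5]
            _ = k * y * k⁻¹ * (h⁻¹ * u * h) := by group) with h3 | h3 | h3
      · exfalso
        apply hKV
        intro k hk
        refine mem_normalizer_of_conj fun v hv => ?_
        rcases h3 k hk v (hVW hv) with h4 | h4
        · rw [h4]; exact hv
        · rw [h4]; exact mul_mem hv (b.R_le o hrR)
      · intro y hy hy'
        have h4 : h⁻¹ * y * h ∈ W := mem_cj.1 hy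
        have h5 : h⁻¹ * y * h ∈ centralizer (cj h⁻¹ W : Set G) := by
          rw [mem_centralizer_iff]
          rintro _ ⟨u, hu, rfl⟩
          change h⁻¹ * u * h⁻¹⁻¹ * (h⁻¹ * y * h) = h⁻¹ * y * h * (h⁻¹ * u * h⁻¹⁻¹)
          have h6 := hy' u hu
          calc h⁻¹ * u * h⁻¹⁻¹ * (h⁻¹ * y * h) = h⁻¹ * (u * y) * h := by group
            _ = h⁻¹ * (y * u) * h := by rw [h6]
            _ = _ := by group
        have h6 := (hr _).2 (h3 _ ⟨h4, h5⟩)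
        have h7 := conj_mem_of_normalizer hh h6
        have e : h * (h⁻¹ * y * h) * h⁻¹ = y := by group
        rwa [e] at h7
      · exfalso
        obtain ⟨w', hw', rfl⟩ := hw
        change v₀ * (h * w' * h⁻¹) ≠ h * w' * h⁻¹ * v₀ at hne
        apply hne
        have h4 := (h3 (hVW hw')).2
        have h5 := mem_centralizer_iff.1 h4 _ (conj_mem_cj (g := h⁻¹) (hVW hv₀))
        rw [inv_inv] at h5
        calc v₀ * (h * w' * h⁻¹) = h * (h⁻¹ * v₀ * h * w') * h⁻¹ := by group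
          _ = h * (w' * (h⁻¹ * v₀ * h)) * h⁻¹ := by rw [h5]
          _ = h * w' * h⁻¹ * v₀ := by group
    -- `w` moves the point `j` to another point
    have hwW : w ∈ cj h W := cj_mono hVW hw
    have hwQ : w ∈ QQ (R o) := b.W_le_Q o (cj_le_WW hh hw)
    have hwV : w ∉ centralizer (V : Set G) := fun h3 => hne (mem_centralizer_iff.1 h3 v₀ hv₀)
    obtain ⟨l, hlj, hlo, hl⟩ := movesQ b.toBT hj hwQ hwV
    have hwn : w * n * w⁻¹ ∈ ZQ R l := by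
      rw [← cj_ZQ b.toBT hl]; exact conj_mem_cj hnj
    have h3 : w * n * w⁻¹ * n⁻¹ ∈ R o := by
      refine hcen _ ?_ ?_
      · have h4 := hcjK n hnK _ (inv_mem hwW)
        have e : w * n * w⁻¹ * n⁻¹ = w * (n * w⁻¹ * n⁻¹) := by group
        rw [e]
        exact mul_mem hwW h4
      · intro u hu
        have h4 := hZU l _ hwn u (hWU hu)
        have h5 := hZU j n hnj u (hWU hu)
        have h6 : n⁻¹ * u = u * n⁻¹ := by
          rw [inv_mul_eq_iff_eq_mul, ← mul_assoc, h5, mul_inv_cancel_right]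
        rw [mul_assoc, h6, ← mul_assoc, h4, mul_assoc]
    apply hnot l hlj
    have e : n = (w * n * w⁻¹ * n⁻¹)⁻¹ * (w * n * w⁻¹) := by group
    rw [e]
    exact mul_mem (inv_mem (b.V_Q l (b.R_le o h3))) (ZQ_le l hwn)
  · -- `|Q o : C(U)| = 2`
    push Not at hcase
    obtain ⟨t, ht, v, hv, hne⟩ := exists_mv b hr
    have htU : t ∉ centralizer (U : Set G) := fun h3 => hne (mem_centralizer_iff.1 h3 v (hVU hv)).symm
    have htr : t * r = r * t := b.QR o t ht r hrR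
    have htr₂ : t * r₂ * t⁻¹ = r₂ * r := by
      refine (hQU t ht r₂ (hVU h2V)).resolve_left fun h3 => hne ?_
      have h3' : t * r₂ = r₂ * t := mul_inv_eq_iff_eq_mul.1 h3
      rcases mem_V b hr hj h2j h21 hv with h4 | h4
      · exact b.QR o t ht v h4
      · have h5 := b.QR o t ht _ h4
        calc t * v = t * r₂ * (r₂⁻¹ * v) := by group
          _ = r₂ * (t * (r₂⁻¹ * v)) := by rw [h3']; group
          _ = v * t := by rw [h5]; group
    have key : ∀ u ∈ U, t * u * t⁻¹ = u → u ∈ ZQ R o := by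
      intro u hu h3
      refine ⟨hα hu, mem_centralizer_iff.2 fun q hq => ?_⟩
      by_cases hqU : q ∈ centralizer (U : Set G)
      · exact (mem_centralizer_iff.1 hqU u hu).symm
      · have h4 := hcase t ht q hq htU hqU
        have h5 := mem_centralizer_iff.1 h4 u hu
        have h6 : t * u = u * t := mul_inv_eq_iff_eq_mul.1 h3
        apply mul_left_cancel (a := t)
        rw [← mul_assoc, ← h5, ← mul_assoc, ← h6, mul_assoc]
    have hdec : ∀ u ∈ U, u ∈ ZQ R o ∨ r₂⁻¹ * u ∈ ZQ R o := by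
      intro u hu
      rcases hQU t ht u hu with h3 | h3
      · exact Or.inl (key u hu h3)
      · right
        have h4 : r₂⁻¹ * u ∈ U := mul_mem (inv_mem (hVU h2V)) hu
        refine key _ h4 ?_
        have h5 := hUcm r (hVU (b.R_le o hrR)) _ h4
        calc t * (r₂⁻¹ * u) * t⁻¹ = (t * r₂ * t⁻¹)⁻¹ * (t * u * t⁻¹) := by group
          _ = r⁻¹ * ((r₂⁻¹ * u) * r) := by rw [htr₂, h3]; group
          _ = r₂⁻¹ * u := by rw [← h5]; group
    have hCZM : ∀ a ∈ centralizer (zc S : Set G), ∀ u ∈ U, a * u * a⁻¹ ∈ U := fun a ha u hu =>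
      conj_mem_of_normalizer (hMU (hZM ha)) hu
    obtain ⟨d, hd, H⟩ := avg b hr hj h2j h21 hLE (A := centralizer (zc S : Set G))
      (D := U ⊓ ZQ R o)
      (fun s hs => mem_centralizer_iff.2 fun z hz => ((mem_zc.1 hz).2.1 s hs).symm) hCZN
      (le_inf ((b.R_le o).trans hVU) (R_le_ZQ b.toBT o)) inf_le_right
      (fun a ha d hd => ⟨hCZM a ha d hd.1, conj_mem_of_normalizer (hnZ (hCZN ha)) hd.2⟩)
      (by
        intro a ha
        have h3 := hCZM a ha r₂ (hVU h2V)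
        have e : r₂⁻¹ * a * r₂ * a⁻¹ = r₂⁻¹ * (a * r₂ * a⁻¹) := by group
        rw [e]
        refine ⟨U.mul_mem (U.inv_mem (hVU h2V)) h3, ?_⟩
        refine (hdec _ h3).resolve_left fun h4 => ?_
        have h5 := conj_inv_mem_of_normalizer (hnZ (hCZN ha)) h4
        have e : a⁻¹ * (a * r₂ * a⁻¹) * a = r₂ := by group
        rw [e] at h5
        exact not_mem_ZQ b hr hj h2j h21 h5)
    obtain ⟨a, ha, had⟩ := ZQ_Q bs (Ne.symm hj) hd.2 (hUQ j hd.1)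
    have hadZ := mem_zc_of b hr hLE had (by
      intro s hs
      have h3 := fix_c b hr hj h2j h21 hd.2 (b.S_V hs) (b.S_R hs)
        (H s (mem_centralizer_iff.2 fun z hz => ((mem_zc.1 hz).2.1 s hs).symm))
      have e : s * (a * d) * s⁻¹ * (a * d)⁻¹ = (s * a * s⁻¹) * (s * d * s⁻¹ * d⁻¹) * a⁻¹ := by group
      rw [e]
      exact mul_mem (mul_mem (conj_mem_of_normalizer (b.S_R hs) ha) h3) (inv_mem ha))
    apply hKV
    refine hKZ.trans fun m hm => mem_normalizer_of_conj fun v hv => ?_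
    have hmN := hCZN hm
    have h3 : a * d * m = m * (a * d) := mem_centralizer_iff.1 hm _ hadZ.1
    have h4 : a * m = m * a := by
      rcases (hr a).1 ha with rfl | rfl
      · rw [one_mul, mul_one]
      · exact ((hNr m).1 hmN).symm
    have h5 : d * m = m * d := by
      apply mul_left_cancel (a := a)
      rw [← mul_assoc, h3, ← mul_assoc, ← h4, mul_assoc]
    have h6 := H m hm
    have e1 : (r₂ * d)⁻¹ * m * (r₂ * d) * m⁻¹ = d⁻¹ * (r₂⁻¹ * m * r₂ * m⁻¹) * d := by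
      have e2 : d * m⁻¹ = m⁻¹ * d := by
        rw [eq_inv_mul_iff_mul_eq, ← mul_assoc, ← h5, mul_inv_cancel_right]
      calc (r₂ * d)⁻¹ * m * (r₂ * d) * m⁻¹ = d⁻¹ * r₂⁻¹ * m * r₂ * (d * m⁻¹) := by group
        _ = _ := by rw [e2]; group
    rw [e1] at h6
    have hdN : d ∈ normalizer (R o : Set G) := b.Q_le o (ZQ_le o hd.2)
    have h7 := conj_mem_of_normalizer hdN h6
    have e2 : d * (d⁻¹ * (r₂⁻¹ * m * r₂ * m⁻¹) * d) * d⁻¹ = r₂⁻¹ * m * r₂ * m⁻¹ := by group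
    rw [e2] at h7
    have h8 : m * r₂ * m⁻¹ ∈ V := by
      have e : m * r₂ * m⁻¹ = r₂ * (r₂⁻¹ * m * r₂ * m⁻¹) := by group
      rw [e]
      exact mul_mem h2V (b.R_le o h7)
    rcases mem_V b hr hj h2j h21 hv with h9 | h9
    · exact b.R_le o (conj_mem_of_normalizer hmN h9)
    · have e : m * v * m⁻¹ = (m * r₂ * m⁻¹) * (m * (r₂⁻¹ * v) * m⁻¹) := by group
      rw [e]
      exact mul_mem h8 (b.R_le o (conj_mem_of_normalizer hmN h9))

/-- **(A), (B)** : the choice of `z` -/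
theorem exists_z_aux (hLE : ∀ i, ThmA.LE V R i) (hch : GSys (MZ S V R) (cl (R o) (MZ S V R)) r) {z₀ : G} (hz₀ : z₀ ∈ zc S ⊓ centralizer (P : Set G)) (hz₀1 : z₀ ≠ 1)
    (hα : UM V (MZ S V R) ≤ QQ (R o)) :
    ∃ z ∈ zc S ⊓ centralizer (P : Set G), z ≠ 1 ∧
      ∀ a ∈ normalizer (R o : Set G), a * z = z * a → (∀ v ∈ V, a * v * a⁻¹ ∈ V ⊔ ZQ R o) →
        a ∈ normalizer (V : Set G) := by
  have hNr := fun g => mem_N_iff b hr (g := g)
  obtain ⟨j, k, hj, hk, hjk⟩ := b.one_lt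
  obtain ⟨r₂, h21, h22, h2⟩ := b.exists_gen j
  have h2j : r₂ ∈ R j := (h2 _).2 (Or.inr rfl)
  have h2V := b.R_le j h2j
  obtain ⟨c, hc, H⟩ := exists_avg b hr hj h2j h21 hLE
  have hVn : ∀ a ∈ normalizer (V : Set G), ∀ v ∈ V, a * v * a⁻¹ ∈ V ⊔ ZQ R o := fun a ha v hv =>
    mem_sup_left (conj_mem_of_normalizer ha hv)
  obtain ⟨a, ha, hac⟩ := mem_of_alpha b hr hLE hch hz₀ hz₀1 hα hc fun g hgV hgR =>
    fix_c b hr hj h2j h21 hc hgV hgR (H g hgR (hVn g hgV))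
  have hZ := mem_zc_of b hr hLE hac (by
    intro s hs
    have h3 := fix_c b hr hj h2j h21 hc (b.S_V hs) (b.S_R hs) (H s (b.S_R hs) (hVn s (b.S_V hs)))
    have e : s * (a * c) * s⁻¹ * (a * c)⁻¹ = (s * a * s⁻¹) * (s * c * s⁻¹ * c⁻¹) * a⁻¹ := by group
    rw [e]
    exact mul_mem (mul_mem (conj_mem_of_normalizer (b.S_R hs) ha) h3) (inv_mem ha))
  have main : ∀ g ∈ normalizer (R o : Set G), g * (a * c) = a * c * g →
      (∀ v ∈ V, g * v * g⁻¹ ∈ V ⊔ ZQ R o) → g ∈ normalizer (V : Set G) := by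
    intro g hg hgc hgV
    refine mem_normalizer_of_conj fun v hv => ?_
    have h4 : g * a = a * g := by
      rcases (hr a).1 ha with rfl | rfl
      · rw [one_mul, mul_one]
      · exact (hNr g).1 hg
    have h5 : g * c = c * g := by
      apply mul_left_cancel (a := a)
      rw [← mul_assoc, ← h4, mul_assoc, hgc, mul_assoc]
    have h6 := H g hg hgV
    have e1 : (r₂ * c)⁻¹ * g * (r₂ * c) * g⁻¹ = c⁻¹ * (r₂⁻¹ * g * r₂ * g⁻¹) * c := by
      have e2 : c * g⁻¹ = g⁻¹ * c := by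
        rw [eq_inv_mul_iff_mul_eq, ← mul_assoc, h5, mul_inv_cancel_right]
      calc (r₂ * c)⁻¹ * g * (r₂ * c) * g⁻¹ = c⁻¹ * r₂⁻¹ * g * r₂ * (c * g⁻¹) := by group
        _ = _ := by rw [e2]; group
    rw [e1] at h6
    have hdN : c ∈ normalizer (R o : Set G) := b.Q_le o (ZQ_le o hc)
    have h7 := conj_mem_of_normalizer hdN h6
    have e2 : c * (c⁻¹ * (r₂⁻¹ * g * r₂ * g⁻¹) * c) * c⁻¹ = r₂⁻¹ * g * r₂ * g⁻¹ := by group
    rw [e2] at h7
    have h8 : g * r₂ * g⁻¹ ∈ V := by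
      have e : g * r₂ * g⁻¹ = r₂ * (r₂⁻¹ * g * r₂ * g⁻¹) := by group
      rw [e]
      exact mul_mem h2V (b.R_le o h7)
    rcases mem_V b hr hj h2j h21 hv with h9 | h9
    · exact b.R_le o (conj_mem_of_normalizer hg h9)
    · have e : g * v * g⁻¹ = (g * r₂ * g⁻¹) * (g * (r₂⁻¹ * v) * g⁻¹) := by group
      rw [e]
      exact mul_mem h8 (b.R_le o (conj_mem_of_normalizer hg h9))
  by_cases hz1 : a * c = 1
  · refine ⟨z₀, hz₀, hz₀1, fun g hg _ hgV => main g hg ?_ hgV⟩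
    rw [hz1, mul_one, one_mul]
  · exact ⟨a * c, hZ, hz1, fun g hg hgz hgV => main g hg hgz hgV⟩

omit hr in
/-- **(A), (B)** : the choice of `z` -/
theorem exists_z (hLE : ∀ i, ThmA.LE V R i) (hodd : ¬ 2 ∣ S.relIndex (MZ S V R)) {z₀ : G} (hz₀ : z₀ ∈ zc S ⊓ centralizer (P : Set G)) (hz₀1 : z₀ ≠ 1)
    (hα : UM V (MZ S V R) ≤ QQ (R o)) :
    ∃ z ∈ zc S ⊓ centralizer (P : Set G), z ≠ 1 ∧
      ∀ a ∈ normalizer (R o : Set G), a * z = z * a → (∀ v ∈ V, a * v * a⁻¹ ∈ V ⊔ ZQ R o) →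
        a ∈ normalizer (V : Set G) := by
  obtain ⟨r, -, -, hr⟩ := b.exists_gen o
  exact exists_z_aux b hr hLE (gsys_MZ b hr hz₀ hz₀1 hodd) hz₀ hz₀1 hα

/-- the field `noPar` of `TvH`, general form -/
theorem noPar' {M : Subgroup G}
    (H : ∀ a ∈ M, a ∈ normalizer (R o : Set G) → (∀ v ∈ V, a * v * a⁻¹ ∈ V ⊔ ZQ R o) →
      a ∈ normalizer (V : Set G)) {j : ι} (hj : j ≠ o) {t : G} (ht : t ∈ R j) (ht1 : t ≠ 1)
    {Q : G → Subgroup G} (hQ : Q r = QQ (R o)) :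
    ∀ a a', TvDef.Adj M r t r a → TvDef.Adj M r t r a' → a * a' ∈ TvDef.ZC Q r → a' = a ∨ a' = r * a := by
  rintro _ _ ⟨m, hm, hmr, rfl⟩ ⟨m', hm', hmr', rfl⟩ hZ
  have hNr := fun g => mem_N_iff b hr (g := g)
  have hnZ : normalizer (R o : Set G) ≤ normalizer (ZQ R o : Set G) := N_le_NZQ o
  have htV := b.R_le j ht
  have hmN : m ∈ normalizer (R o : Set G) := (hNr m).2 (mul_inv_eq_iff_eq_mul.1 hmr)
  have hmN' : m' ∈ normalizer (R o : Set G) := (hNr m').2 (mul_inv_eq_iff_eq_mul.1 hmr')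
  have hQN : normalizer (R o : Set G) ≤ normalizer (QQ (R o) : Set G) := le_normalizer_O2 _
  have htQ : t ∈ QQ (R o) := b.V_Q o htV
  have h1 : m * t * m⁻¹ * (m' * t * m'⁻¹) ∈ ZQ R o := by
    refine ⟨(QQ (R o)).mul_mem (conj_mem_of_normalizer (hQN hmN) htQ)
      (conj_mem_of_normalizer (hQN hmN') htQ), ?_⟩
    have h3 := hZ
    unfold TvDef.ZC at h3
    rwa [hQ] at h3
  obtain ⟨g, hg⟩ : ∃ g, g = m⁻¹ * m' := ⟨_, rfl⟩
  have hgN : g ∈ normalizer (R o : Set G) := by rw [hg]; exact mul_mem (inv_mem hmN) hmN'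
  have hgM : g ∈ M := by rw [hg]; exact mul_mem (inv_mem hm) hm'
  have h2 : t * (g * t * g⁻¹) ∈ ZQ R o := by
    have h3 := conj_inv_mem_of_normalizer (hnZ hmN) h1
    have e : m⁻¹ * (m * t * m⁻¹ * (m' * t * m'⁻¹)) * m = t * (g * t * g⁻¹) := by rw [hg]; group
    rwa [e] at h3
  have h3 : g * t * g⁻¹ ∈ V ⊔ ZQ R o := by
    have e : g * t * g⁻¹ = t⁻¹ * (t * (g * t * g⁻¹)) := by group
    rw [e]
    exact mul_mem (mem_sup_left (inv_mem htV)) (mem_sup_right h2)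
  have h4 : g ∈ normalizer (V : Set G) := by
    refine H g hgM hgN fun v hv => ?_
    rcases mem_V b hr hj ht ht1 hv with h9 | h9
    · exact mem_sup_left (b.R_le o (conj_mem_of_normalizer hgN h9))
    · have e : g * v * g⁻¹ = (g * t * g⁻¹) * (g * (t⁻¹ * v) * g⁻¹) := by group
      rw [e]
      exact mul_mem h3 (mem_sup_left (b.R_le o (conj_mem_of_normalizer hgN h9)))
  have h5 := comm_mem_R b h4 hgN htV
  have e : m' * t * m'⁻¹ = m * (g * t * g⁻¹ * t⁻¹) * m⁻¹ * (m * t * m⁻¹) := by rw [hg]; group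
  rcases (hr _).1 h5 with h6 | h6
  · left
    rw [e, h6, mul_one, mul_inv_cancel, one_mul]
  · right
    rw [e, h6, hmr]

/-- the field `noPar` of `TvH` -/
theorem noPar {z : G} {M : Subgroup G} (hMz : M ≤ centralizer ({z} : Set G))
    (H : ∀ a ∈ normalizer (R o : Set G), a * z = z * a → (∀ v ∈ V, a * v * a⁻¹ ∈ V ⊔ ZQ R o) →
      a ∈ normalizer (V : Set G)) {j : ι} (hj : j ≠ o) {t : G} (ht : t ∈ R j) (ht1 : t ≠ 1)
    {Q : G → Subgroup G} (hQ : Q r = QQ (R o)) :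
    ∀ a a', TvDef.Adj M r t r a → TvDef.Adj M r t r a' → a * a' ∈ TvDef.ZC Q r → a' = a ∨ a' = r * a :=
  noPar' b hr (fun a ha haN haV => H a haN (mem_C.1 (hMz ha)) haV) hj ht ht1 hQ

/-- **(3) of #15959** for `M ≥ S, X, Z(Q o)` centralising `Z₀` : no parallels -/
theorem norm_of_par (hLE : ∀ i, ThmA.LE V R i) {z₀ : G} (hz₀ : z₀ ∈ zc S ⊓ centralizer (P : Set G)) (hz₀1 : z₀ ≠ 1)
    {M : Subgroup G} (hSM : S ≤ M) (hXM : XX V R ≤ M) (hZM : ZQ R o ≤ M)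
    (hMz : ∀ y ∈ zc S ⊓ centralizer (P : Set G), M ≤ centralizer ({y} : Set G)) :
    ∀ g ∈ M, g ∈ normalizer (R o : Set G) → (∀ v ∈ V, g * v * g⁻¹ ∈ V ⊔ ZQ R o) →
      g ∈ normalizer (V : Set G) := by
  have bs := b.toBTS
  have hrR := r_mem b hr
  have hNr := fun g => mem_N_iff b hr (g := g)
  have hnZ : normalizer (R o : Set G) ≤ normalizer (ZQ R o : Set G) := N_le_NZQ o
  obtain ⟨j, k, hj, hk, hjk⟩ := b.one_lt
  obtain ⟨r₂, h21, h22, h2⟩ := b.exists_gen j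
  have h2j : r₂ ∈ R j := (h2 _).2 (Or.inr rfl)
  have h2V := b.R_le j h2j
  obtain ⟨x, hx, ex, ex'⟩ := b.trans_X (Ne.symm hj) hj
  have hxM := hXM hx
  -- `U`
  set U := UM V M with hU
  have hMU : M ≤ normalizer (U : Set G) := le_normalizer_cl _ _
  have hVU : V ≤ U := le_cl _ _
  have d := b.dt hz₀ hz₀1
  have hUle : U ≤ UM V (centralizer ({z₀} : Set G)) := iSup_le fun m => cj_le_cl (hMz z₀ hz₀ m.2)
  have hZjM : ZQ R j ≤ M := by
    rw [← cj_ZQ b.toBT ex, cj_le_iff]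
    exact fun y hy => mul_mem (mul_mem hxM (hZM hy)) (inv_mem hxM)
  have hDn : ∀ g ∈ M, g ∈ normalizer (R o : Set G) → ∀ y ∈ U ⊓ ZQ R o, g * y * g⁻¹ ∈ U ⊓ ZQ R o :=
    fun g hg hgN y hy => ⟨conj_mem_of_normalizer (hMU hg) hy.1, conj_mem_of_normalizer (hnZ hgN) hy.2⟩
  have hD : ∀ g ∈ M, g ∈ normalizer (R o : Set G) → g * r₂ * g⁻¹ ∈ V ⊔ ZQ R o →
      r₂⁻¹ * (g * r₂ * g⁻¹) ∈ U ⊓ ZQ R o := by
    intro g hg hgN h3
    refine ⟨U.mul_mem (U.inv_mem (hVU h2V)) (conj_mem_of_normalizer (hMU hg) (hVU h2V)), ?_⟩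
    refine (mem_VZ b hr hj h2j h21 h3).resolve_left fun h4 => ?_
    have h5 := conj_inv_mem_of_normalizer (hnZ hgN) h4
    have e : g⁻¹ * (g * r₂ * g⁻¹) * g = r₂ := by group
    rw [e] at h5
    exact not_mem_ZQ b hr hj h2j h21 h5
  obtain ⟨c, hc, H⟩ := avg b hr hj h2j h21 hLE
    (A := (M ⊓ normalizer (R o : Set G)) ⊓ normalizer ((V ⊔ ZQ R o : Subgroup G) : Set G))
    (D := U ⊓ ZQ R o) (by
      refine le_inf (le_inf hSM b.S_R) fun s hs => ?_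
      rw [← cj_eq_self_iff, cj_sup, cj_eq_self_iff.2 (b.S_V hs), cj_eq_self_iff.2 (hnZ (b.S_R hs))])
    (inf_le_left.trans inf_le_right) (le_inf ((b.R_le o).trans hVU) (R_le_ZQ b.toBT o)) inf_le_right
    (fun a ha d hd => hDn a ha.1.1 ha.1.2 d hd) (by
      intro a ha
      have h3 : a * r₂ * a⁻¹ ∈ V ⊔ ZQ R o :=
        conj_mem_of_normalizer ha.2 (mem_sup_left (b.R_le j h2j))
      have h4 := hD a ha.1.1 ha.1.2 h3
      have e : r₂⁻¹ * (a * r₂ * a⁻¹) = r₂⁻¹ * a * r₂ * a⁻¹ := by group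
      rwa [e] at h4)
  have hA : ∀ a ∈ M, a ∈ normalizer (R o : Set G) → (∀ v ∈ V, a * v * a⁻¹ ∈ V ⊔ ZQ R o) →
      a ∈ (M ⊓ normalizer (R o : Set G)) ⊓ normalizer ((V ⊔ ZQ R o : Subgroup G) : Set G) := by
    intro a haM haN haV
    refine ⟨⟨haM, haN⟩, mem_normalizer_of_conj fun y hy => ?_⟩
    have hle : ZQ R o ≤ normalizer (V : Set G) := (ZQ_le o).trans (b.Q_le_NV o)
    rw [← SetLike.mem_coe, coe_mul_of_right_le_normalizer_left _ _ hle] at hy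
    obtain ⟨v, hv, n, hn, rfl⟩ := hy
    change a * (v * n) * a⁻¹ ∈ V ⊔ ZQ R o
    have e : a * (v * n) * a⁻¹ = (a * v * a⁻¹) * (a * n * a⁻¹) := by group
    rw [e]
    exact mul_mem (haV v hv) (mem_sup_right (conj_mem_of_normalizer (hnZ haN) hn))
  have hVn : ∀ a ∈ normalizer (V : Set G), ∀ v ∈ V, a * v * a⁻¹ ∈ V ⊔ ZQ R o := fun a ha v hv =>
    mem_sup_left (conj_mem_of_normalizer ha hv)
  have hfix : ∀ a ∈ M, a ∈ normalizer (V : Set G) → a ∈ normalizer (R o : Set G) → a * c * a⁻¹ * c⁻¹ ∈ R o :=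
    fun a haM haV haR => fix_c b hr hj h2j h21 hc.2 haV haR (H a (hA a haM haR (hVn a haV)))
  -- `c` commutes with `Z(Q j)`
  have h1 : ∀ m ∈ ZQ R j, m * c = c * m := by
    intro m hm
    have hmV := ZQ_le_cen b.toBT j hm
    have h3 := hfix m (hZjM hm) (cen_le_NV V hmV) (b.cen_le_N o hmV)
    have h4 : m * c * m⁻¹ * c⁻¹ ∈ CenX V R := by
      rw [← ZQ_inf bs hLE (Ne.symm hj)]
      refine ⟨(ZQ R o).mul_mem (conj_mem_of_normalizer (hnZ (b.cen_le_N o hmV)) hc.2)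
        ((ZQ R o).inv_mem hc.2), ?_⟩
      exact comm_mem_of' hm (N_le_NZQ j (b.cen_le_N j (ZQ_le_cen b.toBT o hc.2)))
    have h5 := bs.cen_VX (b.R_le o h3) h4
    exact mul_inv_eq_iff_eq_mul.1 (mul_inv_eq_one.1 h5)
  have h3 : x * c * x⁻¹ ∈ QQ (R o) := by
    have h4 : x * c * x⁻¹ ∈ UM V (centralizer ({z₀} : Set G)) ⊓ QQ (R o) := by
      rw [← d.U_cen_N b.toBT o]
      refine ⟨hUle (conj_mem_of_normalizer (hMU hxM) hc.1), mem_centralizer_iff.2 fun m hm => ?_⟩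
      have h6 := d.N_le o hm
      have hm' : m ∈ ZQ R o :=
        ⟨MinSimple.VModule.zc_le _ h6, mem_centralizer_iff.2 fun q hq => (mem_zc.1 h6).2.1 q hq⟩
      rw [← cj_ZQ b.toBT ex', mem_cj] at hm'
      have h7 := h1 _ hm'
      calc m * (x * c * x⁻¹) = x * ((x⁻¹ * m * x) * c) * x⁻¹ := by group
        _ = x * (c * (x⁻¹ * m * x)) * x⁻¹ := by rw [h7]
        _ = x * c * x⁻¹ * m := by group
    exact h4.2
  obtain ⟨a, ha, hac⟩ := of_conj b hr hx ex hj hc.2 h3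
  have hZ := mem_zc_of b hr hLE hac (by
    intro s hs
    have h3 := hfix s (hSM hs) (b.S_V hs) (b.S_R hs)
    have e : s * (a * c) * s⁻¹ * (a * c)⁻¹ = (s * a * s⁻¹) * (s * c * s⁻¹ * c⁻¹) * a⁻¹ := by group
    rw [e]
    exact mul_mem (mul_mem (conj_mem_of_normalizer (b.S_R hs) ha) h3) (inv_mem ha))
  intro g hgM hg hgV
  refine mem_normalizer_of_conj fun v hv => ?_
  have hgc : g * (a * c) = a * c * g := mem_C.1 (hMz _ hZ hgM)
  have h4 : g * a = a * g := by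
    rcases (hr a).1 ha with rfl | rfl
    · rw [one_mul, mul_one]
    · exact (hNr g).1 hg
  have h5 : g * c = c * g := by
    apply mul_left_cancel (a := a)
    rw [← mul_assoc, ← h4, mul_assoc, hgc, mul_assoc]
  have h6 := H g (hA g hgM hg hgV)
  have e1 : (r₂ * c)⁻¹ * g * (r₂ * c) * g⁻¹ = c⁻¹ * (r₂⁻¹ * g * r₂ * g⁻¹) * c := by
    have e2 : c * g⁻¹ = g⁻¹ * c := by
      rw [eq_inv_mul_iff_mul_eq, ← mul_assoc, h5, mul_inv_cancel_right]
    calc (r₂ * c)⁻¹ * g * (r₂ * c) * g⁻¹ = c⁻¹ * r₂⁻¹ * g * r₂ * (c * g⁻¹) := by group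
      _ = _ := by rw [e2]; group
  rw [e1] at h6
  have hdN : c ∈ normalizer (R o : Set G) := b.Q_le o (ZQ_le o hc.2)
  have h7 := conj_mem_of_normalizer hdN h6
  have e2 : c * (c⁻¹ * (r₂⁻¹ * g * r₂ * g⁻¹) * c) * c⁻¹ = r₂⁻¹ * g * r₂ * g⁻¹ := by group
  rw [e2] at h7
  have h8 : g * r₂ * g⁻¹ ∈ V := by
    have e : g * r₂ * g⁻¹ = r₂ * (r₂⁻¹ * g * r₂ * g⁻¹) := by group
    rw [e]
    exact mul_mem h2V (b.R_le o h7)
  rcases mem_V b hr hj h2j h21 hv with h9 | h9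
  · exact b.R_le o (conj_mem_of_normalizer hg h9)
  · have e : g * v * g⁻¹ = (g * r₂ * g⁻¹) * (g * (r₂⁻¹ * v) * g⁻¹) := by group
    rw [e]
    exact mul_mem h8 (b.R_le o (conj_mem_of_normalizer hg h9))

/-- **(3) of #15959** for `M₀ = ⟨C(Z), X⟩` -/
theorem norm_of_par_MZ (hLE : ∀ i, ThmA.LE V R i) {z₀ : G} (hz₀ : z₀ ∈ zc S ⊓ centralizer (P : Set G)) (hz₀1 : z₀ ≠ 1) :
    ∀ g ∈ MZ S V R, g ∈ normalizer (R o : Set G) → (∀ v ∈ V, g * v * g⁻¹ ∈ V ⊔ ZQ R o) →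
      g ∈ normalizer (V : Set G) := by
  have hCM : centralizer (zc S : Set G) ≤ MZ S V R := le_sup_left
  refine norm_of_par b hr hLE hz₀ hz₀1 (fun s hs => hCM ?_) le_sup_right (fun y hy => hCM ?_)
    (fun y hy => MZ_le b hy)
  · exact mem_centralizer_iff.2 fun z hz => ((mem_zc.1 hz).2.1 s hs).symm
  · refine mem_centralizer_iff.2 fun z hz => ?_
    have h3 := zc_le_ZQ b hr hz
    exact ZQ_comm hy h3.1

end Cfsg.Agent.Omega.HT.JunAB

end

section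


/-!
# II.0h1, `q = 2`, case (α) over `T` for the small group `M' = ⟨C_{H₁}(z), X⟩`, if `V` commutes with `⟨r^{C(z r)}⟩`

The end of #15368 is trivial if `V` centralises `U_y = ⟨r^{C(y)}⟩`, `y = z r` (LeafF4 (O1), #18723, #18759, #18818):
`U_y` is normalised by `K = C(r) ∩ C(z)` and does not centralise the component `W` of `r` in `⟨r^{M'}⟩`, `K` is
irreducible on `W / ⟨r⟩`, but `V ≤ W`.

* `not_alpha` : `⟨V^{M'}⟩` is not contained in `Q o`.
-/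

set_option autoImplicit false
set_option linter.unusedSectionVars false

namespace Cfsg.Agent.Omega.HT.AlphaY

open Subgroup Cfsg Cfsg.Agent.MinSimple.VModule Cfsg.Agent.Omega.BTwo
open Cfsg.Agent.Omega.HOneTwo Cfsg.Agent.Omega.HTwo Cfsg.Agent.Omega.HTwo.ThmA Cfsg.Agent.Omega.HTwo.Par
open Cfsg.Agent.Omega.HTwo.Hat Cfsg.Agent.Omega.HTwo.TComp Cfsg.Agent.Omega.HT.TComp Cfsg.Agent.Omega.MinPar
open Cfsg.Agent.ZN (zc o2 le_normalizer_o2)
open Cfsg.Agent.Omega.HTwo.AlphaFive (mem_C natC_two natC_cj)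
open Cfsg.Agent.Omega.HTwo.AlphaOne (ZQ_swap ZQ_not_RC)
open Cfsg.Agent.Omega.HTwo.AlphaP (lemX_false four' MP)
open Cfsg.Agent.Omega.HT.AlphaP

universe u

section two

variable {G : Type u} [Group G] [Finite G] {ι : Type*} {S P V : Subgroup G} {R : ι → Subgroup G} {o : ι}

variable (b : HTT S P V R o) {r : G} (hr : ∀ x, x ∈ R o ↔ x = 1 ∨ x = r)
include b hr

/-- the end of the proof: `K = C(r) ∩ C(z)` is irreducible on `W / ⟨r⟩` and normalises `⟨r^{C(z r)}⟩` -/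
theorem end_y {z : G} {M W U : Subgroup G} (hW : NatC M U W r) (hVW : V ≤ W)
    (hMz : ∀ c ∈ M, c * z = z * c)
    (hy : ∀ g : G, g * (z * r) = z * r * g → ∀ v ∈ V, v * (g * r * g⁻¹) = g * r * g⁻¹ * v)
    {w₂ c₂ : G} (hw₂ : w₂ ∈ W) (hc₂ : c₂ * (z * r) = z * r * c₂)
    (hne : c₂ * r * c₂⁻¹ * w₂ ≠ w₂ * (c₂ * r * c₂⁻¹)) : False := by
  have hr1 := r_ne b hr
  have hrR := r_mem b hr
  set Z : Set G := {x | ∃ g : G, g * (z * r) = z * r * g ∧ g * r * g⁻¹ = x} with hZ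
  have hVZ : V ≤ centralizer Z := by
    intro v hv
    rw [mem_centralizer_iff]
    rintro _ ⟨g, hg, rfl⟩
    exact (hy g hg v hv).symm
  have hrZ : r ∈ centralizer Z := hVZ (b.R_le o hrR)
  rcases hW.irr r hW.mem hr1 (W ⊓ centralizer Z) inf_le_left ⟨hW.mem, hrZ⟩ (by
    rintro c hc hcr a ⟨ha, ha'⟩
    have hcz := hMz c hc
    refine ⟨hW.blk c hc r hW.mem hr1 (by rw [hcr, mul_inv_cancel_right]; exact hW.mem) a ha, ?_⟩
    refine mem_centralizer_iff.2 ?_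
    rintro _ ⟨g, hg, rfl⟩
    have hcy : c * (z * r) = z * r * c := by
      rw [← mul_assoc, hcz, mul_assoc, hcr, ← mul_assoc]
    have h1 := mem_centralizer_iff.1 ha' (c⁻¹ * g * r * (c⁻¹ * g)⁻¹) ⟨c⁻¹ * g, by
      calc c⁻¹ * g * (z * r) = c⁻¹ * (g * (z * r)) := by group
        _ = c⁻¹ * (z * r * c * (c⁻¹ * g)) := by rw [hg]; group
        _ = c⁻¹ * (c * (z * r) * (c⁻¹ * g)) := by rw [hcy]
        _ = z * r * (c⁻¹ * g) := by group, rfl⟩
    calc g * r * g⁻¹ * (c * a * c⁻¹) = c * (c⁻¹ * g * r * (c⁻¹ * g)⁻¹ * a) * c⁻¹ := by group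
      _ = c * (a * (c⁻¹ * g * r * (c⁻¹ * g)⁻¹)) * c⁻¹ := by rw [h1]
      _ = c * a * c⁻¹ * (g * r * g⁻¹) := by group) with h5 | h5
  · -- `V ≤ {1, r}`
    obtain ⟨j, -, hj, -, -⟩ := b.one_lt
    obtain ⟨e, he, he1⟩ := b.exists_ne j
    have heV := b.R_le j he
    rcases h5 e ⟨hVW heV, hVZ heV⟩ with h7 | h7
    · exact he1 h7
    · apply he1
      refine b.eq_one (Ne.symm hj) ?_ he
      rw [h7]; exact hrR
  · exact hne (mem_centralizer_iff.1 (h5 hw₂).2 _ ⟨c₂, hc₂, rfl⟩)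

/-- (α) is dead for `z` if `V` commutes with `⟨r^{C(z r)}⟩` -/
theorem not_alpha (hLE : ∀ i, LE V R i) {z : G} (hz : z ∈ zc S ⊓ centralizer (P : Set G)) (hz1 : z ≠ 1)
    (hsysM : GSysW (MP V R o z) (cl (R o) (MP V R o z)) r)
    (hyV : ∀ g : G, g * (z * r) = z * r * g → ∀ v ∈ V, v * (g * r * g⁻¹) = g * r * g⁻¹ * v) :
    ¬ UM V (MP V R o z) ≤ QQ (R o) := by
  intro hα
  have bs := b.toBTS
  have d := b.dt hz hz1
  have hr1 := r_ne b hr
  have hr2 := r_sq b hr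
  have hrR := r_mem b hr
  have hNr := fun g => mem_N_iff b hr (g := g)
  obtain ⟨M, hM⟩ : ∃ M, M = MP V R o z := ⟨_, rfl⟩
  have hMz : M ≤ centralizer ({z} : Set G) := by rw [hM]; exact MP_le b hr hz hz1
  have hKM : normalizer (R o : Set G) ⊓ centralizer ({z} : Set G) ≤ M := by rw [hM]; exact le_sup_left
  have hXM : XX V R ≤ M := by rw [hM]; exact le_sup_right
  have hz2 : z * z = 1 := by rw [← pow_two]; exact (mem_zc.1 hz.1).2.2
  have hSz : ∀ s ∈ S, s * z = z * s := (mem_zc.1 hz.1).2.1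
  have hSr : ∀ s ∈ S, s * r = r * s := fun s hs => (hNr s).1 (b.S_R hs)
  have hzX : z ∈ CenX V R := b.cz_le hz
  have hzQ : z ∈ ZQ R o := cenX_le_ZQ bs hLE o hzX
  have hrQ : r ∈ ZQ R o := R_le_ZQ b.toBT o hrR
  have hQz : ∀ q ∈ QQ (R o), q ∈ centralizer ({z} : Set G) := fun q hq => mem_C.2 (ZQ_comm hzQ hq)
  have hQM : ∀ q ∈ QQ (R o), q ∈ M := fun q hq => hKM ⟨b.Q_le o hq, hQz q hq⟩
  have hSM : S ≤ M := fun s hs => hKM ⟨b.S_R hs, mem_C.2 (hSz s hs)⟩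
  rw [← hM] at hα hsysM
  obtain ⟨a, ha, c, hc, hna, hnc, hnac⟩ := alpha_two b hLE hz hz1 hKM hα
  have hUeq : cl (R o) M = UM V M := b.cl_R_eq (b.trans_of_X hXM)
  rw [← hUeq] at hα hna hnc hnac
  have hUz := cl_le_zc b hr hz hz1
  have hUle : cl (R o) M ≤ cl (R o) (centralizer ({z} : Set G)) := iSup_le fun m => cj_le_cl (hMz m.2)
  set Uf := cl (R o) (centralizer ({z} : Set G)) with hUf
  have hUfcm : ∀ x ∈ Uf, ∀ y ∈ Uf, x * y = y * x := fun x hx y hy =>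
    (mem_zc.1 (hUz hy)).2.1 x (zc_le _ (hUz hx))
  set U := cl (R o) M with hU
  have hUsq : ∀ x ∈ U, x * x = 1 := fun x hx => by
    rw [← pow_two]; exact (mem_zc.1 (hUz (hUle hx))).2.2
  -- `Q o` acts on `U` as transvections
  have hQU : ∀ q ∈ QQ (R o), ∀ n ∈ U, q * n * q⁻¹ = n ∨ q * n * q⁻¹ = n * r := by
    intro q hq n hn
    have h5 := Q_comm bs (hLE o) hq (hα hn)
    rcases (hr _).1 h5 with h6 | h6
    · left; exact mul_inv_eq_one.1 h6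
    · right
      rw [mul_inv_eq_iff_eq_mul] at h6
      rw [h6]
      exact (b.QR o n (hα hn) r hrR).symm
  have hmv : ∀ q : G, q ∉ centralizer (U : Set G) → ∃ n ∈ U, q * n * q⁻¹ ≠ n := by
    intro q hq
    by_contra hcon
    push Not at hcon
    exact hq (mem_centralizer_iff.2 fun n hn => (mul_inv_eq_iff_eq_mul.1 (hcon n hn)).symm)
  obtain ⟨W, hW, -⟩ := natC_of' hsysM (hQM a ha)
    (hQM c hc) (hQU a ha) (hQU c hc) (hmv a hna) (hmv c hnc) (hmv _ hnac)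
  have hWU : W ≤ U := hW.W_le
  have hWQ : W ≤ QQ (R o) := hWU.trans hα
  -- `V ≤ W`
  have hVW : V ≤ W := by
    obtain ⟨t, ht, v, hv, hne⟩ := exists_mv b hr
    have hv1 : v ≠ 1 := by
      rintro rfl
      exact hne (by rw [mul_one, one_mul])
    obtain ⟨c, hc, e⟩ := exists_conj_X b hr hv hv1
    have h1 := hW.adj r hW.mem hr1 t (hQM t ht) (hQU t ht) c (hXM hc) (by
      rw [e]
      intro h
      exact hne (mul_inv_eq_iff_eq_mul.1 h))
    rw [e] at h1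
    have h2 := cj_V_le b hr (k := 1) (one_mem _) hW.mem (v := v) (by rw [cj_one]; exact hv) (by
      intro hvo
      apply hne
      have h3 := ((hr v).1 hvo).resolve_left hv1
      rw [h3]
      exact b.QR o t ht r hrR) h1
    rwa [cj_one] at h2
  have hKW : ∀ c : G, c * r = r * c → c * z = z * c → ∀ x ∈ W, c * x * c⁻¹ ∈ W := by
    intro c hcr hc
    refine hW.blk c (hKM ⟨(hNr c).2 hcr, mem_C.2 hc⟩) r hW.mem hr1 ?_
    rw [hcr, mul_inv_cancel_right]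
    exact hW.mem
  -- `V^h`
  obtain ⟨h, hh, a₀, ha₀, c₀, hc₀, hne₀⟩ := exists_h b hr
  have hhr : h * r = r * h := (hNr h).1 hh
  have hhr' : h⁻¹ * r = r * h⁻¹ := (hNr h⁻¹).1 (inv_mem hh)
  obtain ⟨y, hy⟩ : ∃ y, y = h * z * h⁻¹ := ⟨_, rfl⟩
  have hzy : z = h⁻¹ * y * h := by rw [hy]; group
  have hyQ : y ∈ ZQ R o := by rw [hy]; exact conj_mem_of_normalizer (N_le_NZQ o hh) hzQ
  have hyy : y * y = 1 := by
    rw [hy]
    calc h * z * h⁻¹ * (h * z * h⁻¹) = h * (z * z) * h⁻¹ := by group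
      _ = 1 := by rw [hz2, mul_one, mul_inv_cancel]
  have hcV : c₀ ∉ centralizer (V : Set G) := fun hc => hne₀ (mem_centralizer_iff.1 hc a₀ ha₀)
  have hW'n : ∀ c : G, c * y = y * c → c * r = r * c → ∀ x ∈ cj h W, c * x * c⁻¹ ∈ cj h W := by
    rintro c hcy hcr _ ⟨x, hx, rfl⟩
    change c * (h * x * h⁻¹) * c⁻¹ ∈ cj h W
    have h1 : (h⁻¹ * c * h) * z = z * (h⁻¹ * c * h) := by
      rw [hzy]
      calc h⁻¹ * c * h * (h⁻¹ * y * h) = h⁻¹ * (c * y) * h := by group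
        _ = h⁻¹ * (y * c) * h := by rw [hcy]
        _ = _ := by group
    have h2 : (h⁻¹ * c * h) * r = r * (h⁻¹ * c * h) := by
      calc h⁻¹ * c * h * r = h⁻¹ * c * (h * r) := by group
        _ = h⁻¹ * (c * r) * h := by rw [hhr]; group
        _ = (h⁻¹ * r) * c * h := by rw [hcr]; group
        _ = r * (h⁻¹ * c * h) := by rw [hhr']; group
    have h3 := hKW _ h2 h1 x hx
    have e : c * (h * x * h⁻¹) * c⁻¹ = h * (h⁻¹ * c * h * x * (h⁻¹ * c * h)⁻¹) * h⁻¹ := by group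
    rw [e]
    exact conj_mem_cj h3
  have hW'Q : cj h W ≤ QQ (R o) := by
    have h1 := cj_mono (g := h) hWQ
    rwa [cj_eq_self_iff.2 (le_normalizer_O2 _ hh)] at h1
  have hW'sq : ∀ x ∈ cj h W, x * x = 1 := by
    rintro _ ⟨x, hx, rfl⟩
    change h * x * h⁻¹ * (h * x * h⁻¹) = 1
    calc h * x * h⁻¹ * (h * x * h⁻¹) = h * (x * x) * h⁻¹ := by group
      _ = 1 := by rw [hW.sq x hx, mul_one, mul_inv_cancel]
  obtain ⟨j, -, hj, -, -⟩ := b.one_lt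
  rcases four' bs hj hr hyy hyQ hW'Q hW'sq hW'n (by
    rintro _ ⟨w, hw, rfl⟩ hw1
    change h * w * h⁻¹ ≠ 1 at hw1
    have hw1' : w ≠ 1 := fun e => hw1 (by rw [e, mul_one, mul_inv_cancel])
    obtain ⟨k, hk, e⟩ := hW.pt w hw hw1'
    have hkz := mem_C.1 (hMz hk)
    refine ⟨h * k * h⁻¹, ?_, ?_, ?_⟩
    · rw [hy]
      calc h * k * h⁻¹ * (h * z * h⁻¹) = h * (k * z) * h⁻¹ := by group
        _ = h * (z * k) * h⁻¹ := by rw [hkz]
        _ = _ := by group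
    · change _ = h * w * h⁻¹
      calc h * k * h⁻¹ * r * (h * k * h⁻¹)⁻¹ = h * k * (h⁻¹ * r) * h * k⁻¹ * h⁻¹ := by group
        _ = h * (k * r * k⁻¹) * h⁻¹ := by rw [hhr']; group
        _ = h * w * h⁻¹ := by rw [e]
    · rintro _ ⟨x, hx, rfl⟩
      change (h * k * h⁻¹)⁻¹ * (h * x * h⁻¹) * (h * k * h⁻¹) ∈ cj h W
      have h1 := hW.blk k⁻¹ (inv_mem hk) w hw hw1' (by
        rw [← e]
        have e2 : k⁻¹ * (k * r * k⁻¹) * k⁻¹⁻¹ = r := by group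
        rw [e2]; exact hW.mem) x hx
      have e2 : (h * k * h⁻¹)⁻¹ * (h * x * h⁻¹) * (h * k * h⁻¹) = h * (k⁻¹ * x * k⁻¹⁻¹) * h⁻¹ := by group
      rw [e2]
      exact conj_mem_cj h1) (cj_mono hVW hc₀) hcV with ⟨a, ha, hX⟩ | ⟨w₁, hw₁, c₁, hc₁, hne₁⟩
  · rcases (hr a).1 ha with rfl | rfl
    · -- `y ∈ C_X`
      rw [one_mul] at hX
      have e1 : cl (R o) (centralizer ({y} : Set G)) = cj h Uf := by
        rw [hUf, AlphaFive.cj_cl, AlphaFive.cj_C, ← hy, cj_eq_self_iff.2 hh]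
      have h1 : V ≤ cj h Uf := by
        rw [← e1]
        have := cj_le_cl_of b hr (k := 1) (y := y) (one_mem _) (by rw [cj_one]; exact hX)
        rwa [cj_one] at this
      have h2 : cj h V ≤ cj h Uf := by
        apply cj_mono
        have := cj_le_cl_of b hr (k := 1) (y := z) (one_mem _) (by rw [cj_one]; exact hzX)
        rwa [cj_one] at this
      apply hne₀
      obtain ⟨x, hx, e3⟩ := h1 ha₀
      obtain ⟨x', hx', e4⟩ := h2 hc₀
      rw [← e3, ← e4]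
      change h * x * h⁻¹ * (h * x' * h⁻¹) = h * x' * h⁻¹ * (h * x * h⁻¹)
      calc h * x * h⁻¹ * (h * x' * h⁻¹) = h * (x * x') * h⁻¹ := by group
        _ = h * (x' * x) * h⁻¹ := by rw [hUfcm x hx x' hx']
        _ = _ := by group
    · -- `r y ∈ C_X`
      refine lemX_false bs hLE (Ne.symm hj) (fun x hx => (hr x).1 hx) hW'Q
        (fun a ha c hc => Omega.TV.EA.comm_of hW'sq ha hc) (j := j) ?_ (cj_mono hVW hc₀) hcV ?_ hzX hz1
      · intro e he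
        have her : e * a = a * e := (mem_centralizer_iff.1 (EE_le_cen j he) a (b.R_le o hrR)).symm
        refine hW'n e ?_ her
        have h1 : a * y * e = e * (a * y) := cenX_Q bs (hLE j) hX (EE_le_Q j he)
        have h2 : a * (y * e) = a * (e * y) := by
          rw [← mul_assoc, h1, ← mul_assoc, her, mul_assoc]
        exact (mul_left_cancel h2).symm
      · have h0 : ∀ x ∈ W, x ∈ ZQ R o → x = 1 ∨ x = a := by
          rcases hW.irr a hW.mem hr1 (W ⊓ ZQ R o) inf_le_left ⟨hW.mem, hrQ⟩ (by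
            rintro c hc hcr x ⟨hx, hx'⟩
            exact ⟨hKW c hcr (mem_C.1 (hMz hc)) x hx,
              conj_mem_of_normalizer (N_le_NZQ o ((hNr c).2 hcr)) hx'⟩) with h5 | h5
          · exact fun x hx hx' => h5 x ⟨hx, hx'⟩
          · exfalso
            obtain ⟨t, ht, v, hv, hne⟩ := exists_mv b hr
            exact hne (ZQ_comm (h5 (hVW hv)).2 ht)
        rintro _ ⟨x, hx, rfl⟩ hxZ
        change h * x * h⁻¹ ∈ ZQ R o at hxZ
        change h * x * h⁻¹ ∈ R o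
        have h1 : x ∈ ZQ R o := by
          have h2 := conj_inv_mem_of_normalizer (N_le_NZQ o hh) hxZ
          have e : h⁻¹ * (h * x * h⁻¹) * h = x := by group
          rwa [e] at h2
        exact conj_mem_of_normalizer hh ((hr x).2 (h0 x hx h1))
  · -- conjugate back
    obtain ⟨w₂, hw₂, rfl⟩ := hw₁
    change c₁ * r * c₁⁻¹ * (h * w₂ * h⁻¹) ≠ h * w₂ * h⁻¹ * (c₁ * r * c₁⁻¹) at hne₁
    refine end_y b hr hW hVW (fun c hc => mem_C.1 (hMz hc)) hyV (w₂ := w₂) (c₂ := h⁻¹ * c₁ * h) hw₂ ?_ ?_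
    · have e : z * r = h⁻¹ * (y * r) * h := by
        rw [hzy]
        calc h⁻¹ * y * h * r = h⁻¹ * y * (h * r) := by group
          _ = h⁻¹ * (y * r) * h := by rw [hhr]; group
      rw [e]
      calc h⁻¹ * c₁ * h * (h⁻¹ * (y * r) * h) = h⁻¹ * (c₁ * (y * r)) * h := by group
        _ = h⁻¹ * (y * r * c₁) * h := by rw [hc₁]
        _ = _ := by group
    · intro e
      apply hne₁
      have e1 : h⁻¹ * c₁ * h * r * (h⁻¹ * c₁ * h)⁻¹ = h⁻¹ * (c₁ * r * c₁⁻¹) * h := by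
        calc h⁻¹ * c₁ * h * r * (h⁻¹ * c₁ * h)⁻¹ = h⁻¹ * c₁ * (h * r) * h⁻¹ * c₁⁻¹ * h := by group
          _ = _ := by rw [hhr]; group
      rw [e1] at e
      calc c₁ * r * c₁⁻¹ * (h * w₂ * h⁻¹) = h * (h⁻¹ * (c₁ * r * c₁⁻¹) * h * w₂) * h⁻¹ := by group
        _ = h * (w₂ * (h⁻¹ * (c₁ * r * c₁⁻¹) * h)) * h⁻¹ := by rw [e]
        _ = _ := by group

end two

end Cfsg.Agent.Omega.HT.AlphaY

end
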