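import Cfsg.Agent.Mrg.Omega.HTwo.EightSix
import Cfsg.Agent.Lib.ProductSet


/-!
# #15507 (helper779) (6)(iii): `ζ_r = N_r = 2^3`, `⋂ ζ_q = ⟨z⟩`, `O_M = U = C_M(U)`, `8 |Q_r| = |U|^2`

* `Res.out` : `Res`, `Three`, `Inp` imply `Out`.
-/

set_option autoImplicit false
set_option Elab.async false

namespace Cfsg.Agent.Omega.HTwo.Eight

open Subgroup Cfsg.Agent.Omega.BTwo
open scoped Pointwise

variable {G : Type*} [Group G]

namespace Res

variable {z : G} {M U : Subgroup G} {Δ : Set G} {f : G → G → ZMod 2} {t : G → G} (A : Res z M U Δ f t)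
include A

variable {r : G}

theorem N_in_four (hr : r ∈ Δ) {w : G} (hw : w = 1 ∨ w = r ∨ w = z ∨ w = r * z) : w ∈ Np z r := by
  rcases hw with h | h | h | h
  · rw [h]; exact one_mem _
  · rw [h]; exact A.p_N hr
  · rw [h]; exact z_N z r
  · rw [h]; exact mul_mem (A.p_N hr) (z_N z r)

/-- an element of `ζ_r` is `w b` or `w b t_r` with `w ∈ ⟨r, z⟩`, `b ∈ ⋂ ζ_q` -/
theorem Z_form [Finite U] (h3 : Three z Δ t) (hr : r ∈ Δ) {x : G} (hx : x ∈ Zp r) :
    ∃ w ∈ U, (w = 1 ∨ w = r ∨ w = z ∨ w = r * z) ∧ ∃ b ∈ Bz Δ, x = w * b ∨ x = w * b * t r := by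
  obtain ⟨w, hw, b, hb, e⟩ := A.Q_cen h3 hr hx.1 (fun u hu => Z_comm hx hu.2)
  have hbZ := mem_Bz.1 hb r hr
  have htZ := A.N_Z r hr (A.t_N hr)
  have hwZ : w ∈ Zp r := by
    rcases e with e | e
    · have e2 : w = x * b⁻¹ := by rw [e]; group
      rw [e2]
      exact mul_mem hx (inv_mem hbZ)
    · have e2 : w = x * (t r)⁻¹ * b⁻¹ := by rw [e]; group
      rw [e2]
      exact mul_mem (mul_mem hx (inv_mem htZ)) (inv_mem hbZ)
  exact ⟨w, hw.1, A.U_Z hr hw.1 hwZ, b, hb, e⟩

/-- `x` or `x t_r` centralises `U`, for `x ∈ ζ_r` -/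
theorem Z_cen [Finite U] (h3 : Three z Δ t) (hr : r ∈ Δ) {x : G} (hx : x ∈ Zp r) :
    (∀ u ∈ U, x * u = u * x) ∨ ∀ u ∈ U, (x * t r) * u = u * (x * t r) := by
  obtain ⟨w, hw, _, b, hb, e⟩ := A.Z_form h3 hr hx
  have hwb : ∀ u ∈ U, w * b * u = u * (w * b) := by
    intro u hu
    rw [mul_assoc, A.Bz_U hr hb hu, ← mul_assoc, A.U_comm w hw u hu, mul_assoc]
  rcases e with e | e
  · left; rw [e]; exact hwb
  · right
    have e2 : x * t r = w * b := by rw [e, mul_assoc, A.N_sq r hr _ (A.t_N hr), mul_one]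
    rw [e2]; exact hwb

/-- the same for `U^h` -/
theorem Z_cen' [Finite U] (h3 : Three z Δ t) (hr : r ∈ Δ) {h : G} (hh : h ∈ Cp r) {x : G} (hx : x ∈ Zp r) :
    (∀ u ∈ cj h U, x * u = u * x) ∨
      ∀ u ∈ cj h U, (x * (h * t r * h⁻¹)) * u = u * (x * (h * t r * h⁻¹)) := by
  have hx' : h⁻¹ * x * h ∈ Zp r := by
    have := Z_normal (inv_mem hh) hx
    rwa [inv_inv] at this
  have tr : ∀ y : G, (∀ u ∈ U, y * u = u * y) → ∀ u ∈ cj h U, (h * y * h⁻¹) * u = u * (h * y * h⁻¹) := by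
    intro y hy u hu
    rw [mem_cj] at hu
    have h1 := hy _ hu
    calc h * y * h⁻¹ * u = h * (y * (h⁻¹ * u * h)) * h⁻¹ := by group
      _ = h * (h⁻¹ * u * h * y) * h⁻¹ := by rw [h1]
      _ = u * (h * y * h⁻¹) := by group
  rcases A.Z_cen h3 hr hx' with h1 | h1
  · left
    have h2 := tr _ h1
    have e : h * (h⁻¹ * x * h) * h⁻¹ = x := by group
    rwa [e] at h2
  · right
    have h2 := tr _ h1
    have e : h * (h⁻¹ * x * h * t r) * h⁻¹ = x * (h * t r * h⁻¹) := by group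
    rwa [e] at h2

/-- `ζ_r = N_r` -/
theorem Z_eq_N [Finite U] (h3 : Three z Δ t) (I : Inp z M U Δ r) : Zp r = Np z r := by
  have hr := I.r_Δ
  have hrU := A.Δ_U r hr
  apply le_antisymm _ (A.N_Z r hr)
  -- the elements of `ζ_r` centralising all `U^h`
  let D : Subgroup G :=
    { carrier := {x | x ∈ Zp r ∧ ∀ h ∈ Cp r, ∀ v ∈ cj h U, x * v = v * x}
      one_mem' := ⟨one_mem _, fun h _ v _ => by rw [one_mul, mul_one]⟩
      mul_mem' := by
        rintro a b ⟨ha, ha'⟩ ⟨hb, hb'⟩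
        refine ⟨mul_mem ha hb, fun h hh v hv => ?_⟩
        rw [mul_assoc, hb' h hh v hv, ← mul_assoc, ha' h hh v hv, mul_assoc]
      inv_mem' := by
        rintro a ⟨ha, ha'⟩
        refine ⟨inv_mem ha, fun h hh v hv => ?_⟩
        have h1 := ha' h hh v hv
        rw [inv_mul_eq_iff_eq_mul, ← mul_assoc, h1, mul_inv_cancel_right] }
  have hD : ∀ x, x ∈ D ↔ x ∈ Zp r ∧ ∀ h ∈ Cp r, ∀ v ∈ cj h U, x * v = v * x := fun x => Iff.rfl
  have hDr : ∀ x ∈ D, x = 1 ∨ x = r := by
    refine I.cc D ?_ ?_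
    · intro x hx
      obtain ⟨hxZ, hxc⟩ := (hD x).1 hx
      obtain ⟨w, hw, hw4, b, hb, e⟩ := A.Z_form h3 hr hxZ
      have hb' : b ∈ (⨅ q ∈ Δ, Zp q) ⊔ zpowers r := mem_sup_left hb
      have hz' : z ∈ (⨅ q ∈ Δ, Zp q) ⊔ zpowers r := mem_sup_left A.z_Bz
      have hr' : r ∈ (⨅ q ∈ Δ, Zp q) ⊔ zpowers r := mem_sup_right (mem_zpowers r)
      have hw' : w ∈ (⨅ q ∈ Δ, Zp q) ⊔ zpowers r := by
        rcases hw4 with h | h | h | h
        · rw [h]; exact one_mem _
        · rw [h]; exact hr'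
        · rw [h]; exact hz'
        · rw [h]; exact mul_mem hr' hz'
      rcases e with e | e
      · rw [e]; exact mul_mem hw' hb'
      · exfalso
        apply A.t_mv hr
        intro u hu
        have h1 : x * u = u * x := hxc 1 (one_mem _) u (by rw [cj_one]; exact hu)
        have hwb : w * b * u = u * (w * b) := by
          rw [mul_assoc, A.Bz_U hr hb hu, ← mul_assoc, A.U_comm w hw u hu, mul_assoc]
        have e2 : t r = (w * b)⁻¹ * x := by rw [e]; group
        rw [e2, mul_assoc, h1]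
        calc (w * b)⁻¹ * (u * x) = (w * b)⁻¹ * (u * (w * b)) * (w * b)⁻¹ * x := by group
          _ = (w * b)⁻¹ * (w * b * u) * (w * b)⁻¹ * x := by rw [hwb]
          _ = u * ((w * b)⁻¹ * x) := by group
    · intro g hg x hx
      obtain ⟨hxZ, hxc⟩ := (hD x).1 hx
      refine (hD _).2 ⟨Z_normal hg hxZ, fun h hh v hv => ?_⟩
      have h1 := hxc (g⁻¹ * h) (mul_mem (inv_mem hg) hh) (g⁻¹ * v * g) (by
        rw [cj_mul]
        have := conj_mem_cj (g := g⁻¹) hv
        rwa [inv_inv] at this)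
      calc g * x * g⁻¹ * v = g * (x * (g⁻¹ * v * g)) * g⁻¹ := by group
        _ = g * (g⁻¹ * v * g * x) * g⁻¹ := by rw [h1]
        _ = v * (g * x * g⁻¹) := by group
  intro x hx
  obtain ⟨u, h0, a, c⟩ := A.exists_UA h3 hr
  -- the element `k` with `z ↦ t_r ↦ z`
  set k := wrd u a 5 with hk
  have hkC : k ∈ Cp r := A.L_le hr (A.wrd_L hr c 5)
  have hkz : k * z * k⁻¹ = t r := A.wrd_z c 5
  have hkt : k * t r * k⁻¹ = z := A.wrd_t c 5
  have hzU : ∀ v ∈ U, z * v = v * z := fun v hv => A.U_comm z A.z_U v hv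
  -- `x₁`
  have h1 : ∃ n ∈ Np z r, x * n ∈ Zp r ∧ ∀ v ∈ U, (x * n) * v = v * (x * n) := by
    rcases A.Z_cen h3 hr hx with h1 | h1
    · exact ⟨1, one_mem _, by rw [mul_one]; exact hx, by rw [mul_one]; exact h1⟩
    · exact ⟨t r, A.t_N hr, mul_mem hx (A.N_Z r hr (A.t_N hr)), h1⟩
  obtain ⟨n, hn, hxn, h1⟩ := h1
  have h2 : ∃ n' ∈ Np z r, x * n * n' ∈ Zp r ∧ (∀ v ∈ U, (x * n * n') * v = v * (x * n * n')) ∧
      ∀ v ∈ cj k U, (x * n * n') * v = v * (x * n * n') := by
    rcases A.Z_cen' h3 hr hkC hxn with h4 | h4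
    · exact ⟨1, one_mem _, by rw [mul_one]; exact hxn, by rw [mul_one]; exact h1, by rw [mul_one]; exact h4⟩
    · rw [hkt] at h4
      refine ⟨z, z_N z r, mul_mem hxn (A.N_Z r hr (z_N z r)), fun v hv => ?_, h4⟩
      rw [mul_assoc, hzU v hv, ← mul_assoc, h1 v hv, mul_assoc]
  obtain ⟨n', hn', hxZ, h4, h5⟩ := h2
  have h6 : x * n * n' ∈ D := by
    refine (hD _).2 ⟨hxZ, fun h hh v hv => ?_⟩
    rcases h3 r hr h hh with e | e | e
    · rw [A.cj_U_M (A.stab hr hh e)] at hv
      exact h4 v hv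
    · rw [A.cj_U_eq hr hh hkC (e.trans hkz.symm)] at hv
      exact h5 v hv
    · have e2 : u * k * z * (u * k)⁻¹ = r * z * t r := by
        calc u * k * z * (u * k)⁻¹ = u * (k * z * k⁻¹) * u⁻¹ := by group
          _ = r * z * t r := by rw [hkz, c.ut]
      rw [A.cj_U_eq hr hh (mul_mem (A.U_cen hr c.uU) hkC) (e.trans e2.symm), cj_mul, mem_cj] at hv
      have h7 := h5 _ hv
      have h8 := h4 u c.uU
      have h9 : Commute (x * n * n') u := h8
      have h10 : Commute (x * n * n') (u⁻¹ * v * u) := h7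
      have h11 : Commute (x * n * n') (u * (u⁻¹ * v * u) * u⁻¹) := (h9.mul_right h10).mul_right h9.inv_right
      have e3 : u * (u⁻¹ * v * u) * u⁻¹ = v := by group
      rw [e3] at h11
      exact h11.eq
  have h7 : x * n * n' ∈ Np z r := by
    rcases hDr _ h6 with h | h
    · rw [h]; exact one_mem _
    · rw [h]; exact A.p_N hr
  have e : x = x * n * n' * n'⁻¹ * n⁻¹ := by group
  rw [e]
  exact mul_mem (mul_mem h7 (inv_mem hn')) (inv_mem hn)

theorem Bz_eq [Finite U] (h3 : Three z Δ t) (I : Inp z M U Δ r) {x : G} (hx : x ∈ Bz Δ) : x = 1 ∨ x = z := by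
  have hr := I.r_Δ
  have h1 : x ∈ Np z r := by rw [← A.Z_eq_N h3 I]; exact mem_Bz.1 hx r hr
  have key : ∀ y, y ∈ Bz Δ → y ≠ r := by
    intro y hy e
    subst e
    obtain ⟨q, hq, hf⟩ := A.exists_q1 hr
    have h2 := Z_comm (mem_Bz.1 hy q hq) (A.N_le_Q hq (A.t_N hq))
    have h4 := A.u_act hq (A.Δ_U y hr)
    rw [A.f_symm q (A.Δ_U q hq) y (A.Δ_U y hr), hf, pw_one, h2, mul_inv_cancel_right] at h4
    exact A.pz_ne_one hq (left_eq_mul.1 h4)
  rcases A.N_cenU h3 hr h1 (fun u hu => A.Bz_U hr hx hu) with h | h | h | h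
  · exact Or.inl h
  · exact absurd h (key x hx)
  · exact Or.inr h
  · exfalso
    refine key (x * z) (mul_mem hx A.z_Bz) ?_
    rw [h, mul_assoc, A.zz, mul_one]

theorem O_eq_U [Finite U] (h3 : Three z Δ t) (I : Inp z M U Δ r) : O2 M = U := by
  apply le_antisymm _ A.U_le
  intro x hx
  obtain ⟨w, hw, b, hb, e⟩ := A.O_eq h3 hx
  rcases A.Bz_eq h3 I hb with h | h
  · rw [e, h, mul_one]; exact hw
  · rw [e, h]; exact mul_mem hw A.z_U

/-- `|U| = 2 |U ∩ Q_r|` -/
theorem card_U_inf (h3 : Three z Δ t) (hr : r ∈ Δ) : Nat.card U = 2 * Nat.card (U ⊓ Qp r : Subgroup G) := by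
  obtain ⟨u, h0, a, c⟩ := A.exists_UA h3 hr
  refine card_of_cosets ![1, u] ?_ ?_ ?_
  · intro i x hx
    fin_cases i
    · exact mul_mem (one_mem U) hx.1
    · exact mul_mem c.uU hx.1
  · have key : ∀ x ∈ (U ⊓ Qp r : Subgroup G), ∀ y ∈ Qp r, u * x ≠ y := by
      intro x hx y hy e
      apply A.u_notin hr c
      have e2 : u = y * x⁻¹ := by rw [← e]; group
      rw [e2]
      exact mul_mem hy (inv_mem hx.2)
    intro i j x hx e
    fin_cases i <;> fin_cases j
    · rfl
    · exfalso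
      change 1 * x = u at e
      rw [one_mul] at e
      exact A.u_notin hr c (e ▸ hx.2)
    · exfalso
      change u * x = 1 at e
      exact key x hx 1 (one_mem _) e
    · rfl
  · intro b hb
    rcases A.U_coset hr c hb with h | h
    · refine ⟨0, ?_⟩
      change (1 : G)⁻¹ * b ∈ _
      rw [inv_one, one_mul]
      exact ⟨hb, h⟩
    · refine ⟨1, ?_⟩
      change u⁻¹ * b ∈ _
      refine ⟨U.mul_mem (U.inv_mem c.uU) hb, ?_⟩
      rw [A.U_comm _ (inv_mem c.uU) b hb]
      exact h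

theorem card_cj_AA (hr : r ∈ Δ) {h : G} (hh : h ∈ Cp r) : Nat.card (AA U r h) = Nat.card (AA U r 1) := by
  have _ := A
  have _ := hr
  have e : cj h (AA U r 1) = AA U r h := by
    apply le_antisymm
    · rw [cj_le_iff]
      intro x hx
      have := conj_AA hh hx
      rwa [mul_one] at this
    · intro x hx
      rw [mem_cj]
      have := conj_AA (inv_mem hh) hx
      rwa [inv_mul_cancel, inv_inv] at this
  rw [← e, card_cj]

/-- `8 |Q_r| = |U|^2` -/
theorem Q_card' [Finite G] (h3 : Three z Δ t) (I : Inp z M U Δ r) : Nat.card (Qp r) * 8 = Nat.card U ^ 2 := by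
  have hr := I.r_Δ
  have hZN := A.Z_eq_N h3 I
  obtain ⟨u, h0, a, c⟩ := A.exists_UA h3 hr
  have hz : h0 * z * h0⁻¹ ≠ z := by rw [c.h0z]; exact (A.z_ne_t hr).symm
  -- `|AA 1| = |U|`
  have h1 : Nat.card (AA U r 1) * 4 = Nat.card (U ⊓ Qp r : Subgroup G) * 8 := by
    have h2 := Lib.ProductSet.card_mul_card_inf (U ⊓ Qp r) (Zp r)
    have h4 : ((U ⊓ Qp r : Subgroup G) : Set G) * (Zp r : Set G) = (AA U r 1 : Set G) := by
      ext x
      rw [Set.mem_mul]
      constructor
      · rintro ⟨y, hy, n, hn, e⟩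
        exact ⟨y, by rw [cj_one]; exact hy, n, hn, e.symm⟩
      · rintro ⟨y, hy, n, hn, e⟩
        rw [cj_one] at hy
        exact ⟨y, hy, n, hn, e.symm⟩
    have h5 : U ⊓ Qp r ⊓ Zp r = four r z (A.U_sq r (A.Δ_U r hr)) A.zz (A.pz_comm hr) := by
      ext x
      constructor
      · rintro ⟨hx1, hx2⟩
        exact A.U_Z hr hx1.1 hx2
      · intro hx
        have hx' : x = 1 ∨ x = r ∨ x = z ∨ x = r * z := hx
        have hxN := A.N_in_four hr hx'
        refine ⟨⟨?_, A.N_le_Q hr hxN⟩, A.N_Z r hr hxN⟩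
        rcases hx' with h | h | h | h
        · rw [h]; exact one_mem _
        · rw [h]; exact A.Δ_U r hr
        · rw [h]; exact A.z_U
        · rw [h]; exact A.pz_U hr
    have h6 : Nat.card (four r z (A.U_sq r (A.Δ_U r hr)) A.zz (A.pz_comm hr)) = 4 := by
      let F : ZMod 2 × ZMod 2 → four r z (A.U_sq r (A.Δ_U r hr)) A.zz (A.pz_comm hr) := fun c =>
        ⟨pw r c.1 * pw z c.2, mul_mem (pw_mem (Or.inr (Or.inl rfl)) _) (pw_mem (Or.inr (Or.inr (Or.inl rfl))) _)⟩
      have hinj : Function.Injective F := by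
        rintro ⟨a, b⟩ ⟨a', b'⟩ h
        have h1 : pw r a * pw z b = pw r a' * pw z b' := congrArg Subtype.val h
        have key : ∀ b b' : ZMod 2, r * pw z b = pw z b' → False := by
          intro b b' h
          have e : r = pw z (b' + b) := by
            rw [pw_add A.zz, ← h, mul_assoc, pw_sq A.zz, mul_one]
          rcases z2 (b' + b) with h0 | h0
          · rw [h0, pw_zero] at e; exact A.p_ne_one hr e
          · rw [h0, pw_one] at e; exact A.p_ne_z hr e
        have ha : a = a' := by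
          by_contra hne
          rcases z2 a with ha | ha <;> rcases z2 a' with ha' | ha'
          · exact absurd (ha.trans ha'.symm) hne
          · rw [ha, ha', pw_zero, pw_one, one_mul] at h1
            exact key _ _ h1.symm
          · rw [ha, ha', pw_zero, pw_one, one_mul] at h1
            exact key _ _ h1
          · exact absurd (ha.trans ha'.symm) hne
        subst ha
        rw [pw_inj A.z1 (mul_left_cancel h1)]
      have hsurj : Function.Surjective F := by
        rintro ⟨n, hn⟩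
        have key : ∀ a b : ZMod 2, n = pw r a * pw z b → ∃ x, F x = ⟨n, hn⟩ := fun a b h =>
          ⟨(a, b), Subtype.ext h.symm⟩
        have hn' : n = 1 ∨ n = r ∨ n = z ∨ n = r * z := hn
        rcases hn' with h | h | h | h
        · exact key 0 0 (by rw [h, pw_zero, pw_zero, mul_one])
        · exact key 1 0 (by rw [h, pw_one, pw_zero, mul_one])
        · exact key 0 1 (by rw [h, pw_one, pw_zero, one_mul])
        · exact key 1 1 (by rw [h, pw_one, pw_one])
      rw [← Nat.card_congr (Equiv.ofBijective F ⟨hinj, hsurj⟩), Nat.card_prod, Nat.card_zmod]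
    rw [h4, h5, h6, hZN, A.N_card h3 hr] at h2
    exact h2
  have hU := A.card_U_inf h3 hr
  have h2 : Nat.card (AA U r 1) = Nat.card U := by omega
  -- `Q = (AA h0)(AA 1)`
  have h4 := Lib.ProductSet.card_mul_card_inf (AA U r h0) (AA U r 1)
  have h5 : (AA U r h0 : Set G) * (AA U r 1 : Set G) = (Qp r : Set G) := by
    ext x
    rw [Set.mem_mul]
    constructor
    · rintro ⟨y, hy, w, hw, rfl⟩
      exact mul_mem (AA_le_Q hy) (AA_le_Q hw)
    · intro hx
      obtain ⟨v, hv, y, hy, e⟩ := A.Q_gen' h3 hr I.nab c.h0C hz hx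
      exact ⟨v, le_AA hv, y, hy, e.symm⟩
  have h6 : AA U r h0 ⊓ AA U r 1 = Zp r := by
    apply le_antisymm
    · rintro x ⟨hx1, v, hv, n, hn, e⟩
      rw [cj_one] at hv
      have h7 : v ∈ AA U r h0 := by
        have e2 : v = x * n⁻¹ := by rw [e]; group
        rw [e2]
        exact mul_mem hx1 (inv_mem (Zp_le_AA hn))
      have h8 := A.int h3 hr I.nab c.h0C hz hv h7
      rw [e]
      exact mul_mem h8 hn
    · exact le_inf Zp_le_AA Zp_le_AA
  rw [h5, h6, A.card_cj_AA hr c.h0C, h2, hZN, A.N_card h3 hr] at h4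
  rw [sq]
  exact h4

/-- **The output of (6).** -/
theorem out [Finite G] (h3 : Three z Δ t) (I : Inp z M U Δ r) : Out z M U Δ f t r := by
  have hr := I.r_Δ
  have hZN := A.Z_eq_N h3 I
  exact
    { O_M := A.O_eq_U h3 I
      C_U := fun g hg hc => by
        rw [← A.O_eq_U h3 I]
        exact I.char2 g hg (fun o ho => hc o (by rw [← A.O_eq_U h3 I]; exact ho))
      B_z := fun x hx => A.Bz_eq h3 I (mem_Bz.2 hx)
      Z_N := hZN
      N_card := A.N_card h3 hr
      N_mem := fun n hn => A.N_mem h3 hr hn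
      N_U := fun n hn hU => A.N_U h3 hr hn hU
      Q_card := A.Q_card' h3 I
      L_norm := A.L_norm r
      L_K := A.L_inf_K h3 hr
      L_sup := A.L_sup_K h3 hr
      L_card := A.L_card h3 hr
      K_L := fun k hk l hl => A.KL hr hk hl
      C_rz := A.C_rz h3 hr
      Q_self := fun h hh x hx hc => by
        obtain ⟨a, ha, n, hn, e⟩ := A.Q_self' h3 hr hh hx hc
        exact ⟨a, ha, n, by rw [← hZN]; exact hn, e⟩
      Q_gen := fun h hh hz x hx => by
        obtain ⟨v, hv, y, ⟨a, ha, n, hn, e⟩, e2⟩ := A.Q_gen' h3 hr I.nab hh hz hx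
        rw [cj_one] at ha
        -- reorder: `x = v a n = a (v n [..])`
        have h1 := A.cm_eq hr hv.2 ha.2
        refine ⟨a, ha, v, hv, pw r (cm v a) * n, mul_mem (pw_mem (A.p_N hr) _) (by rw [← hZN]; exact hn), ?_⟩
        rw [e2, e]
        calc v * (a * n) = (v * a) * n := by group
          _ = pw r (cm v a) * (a * v) * n := by rw [h1]
          _ = a * v * pw r (cm v a) * n := by rw [A.pw_r_comm hr (mul_mem ha.2 hv.2)]
          _ = a * v * (pw r (cm v a) * n) := by group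
      Q_inf := fun h hh hz u hu v hv huv => by
        rw [← hZN] at huv ⊢
        have h1 : u ∈ AA U r h := by
          have e3 : u = v⁻¹ * (v * (u * v) * v⁻¹) := by group
          have h4 : v * (u * v) * v⁻¹ ∈ Zp r := by
            rw [← Z_comm huv hv.2, mul_inv_cancel_right]; exact huv
          rw [e3]
          exact mul_mem (inv_mem (le_AA hv)) (Zp_le_AA h4)
        have h2 := A.int h3 hr I.nab hh hz hu h1
        refine ⟨h2, ?_⟩
        have e : v = u⁻¹ * (u * v) := by group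
        rw [e]
        exact mul_mem (inv_mem h2) huv
      K_tr := fun p hp q hq hpr hqr h1 h2 => A.K_tr h3 hr hp hq hpr hqr h1 h2 }

end Res

end Cfsg.Agent.Omega.HTwo.Eight
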