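import Cfsg.Agent.Mrg.Omega.HTwo.SevenMod
import Cfsg.Agent.Mrg.Omega.Assembly
import Cfsg.Agent.Mrg.ParSys.Main
import Mathlib
import Cfsg.Agent.Mrg.ParSys.Polar.Symp

section


/-!
# II.0h1, `q = 2`, (7) of #15507: the parabolic system of type `C_{m+1}`

`P_0 = L S`, `P_j` (`j = 1, …, m`) the stabiliser in `M` of the members `≠ j` of the `S`-invariant flag.

* `Fg.exists_es` : the situation `ES` of `SevenR` with `P_1 = ⟨Q_s, S⟩`;
* `ES.relIndex_zero` : `|P_0 : S| = 3`; `ES.digon` : the residues `(0, j)`, `j ≥ 2`;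
* `exists_sys` : the system.
-/

set_option autoImplicit false
set_option linter.unusedSectionVars false

namespace Cfsg.Agent.Omega.HTwo.Seven

open Subgroup Module Cfsg.Agent.Omega.BTwo Cfsg.Agent.Omega.HTwo.Eight Cfsg.Agent.Omega.MinPar
open Cfsg.Agent.ParSys.Polar.Sympl Cfsg.Agent.ParSys.Polar.Flags Cfsg.Agent.ParSys.Polar.Incid
open Cfsg.Agent.ParSys Cfsg.Agent.ParSys.RankTwo

variable {G : Type*} [Group G] {z : G} {M U : Subgroup G} {Δ : Set G} {f : G → G → ZMod 2} {t : G → G}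

namespace Fg

variable [Finite G] {A : Res z M U Δ f t} {S : Subgroup G} {r : G}
  {sigma : ↥M →* Equiv.Perm (Submodule (ZMod 2) ↥(Wm A))} {m : ℕ}
  {fl : ℕ → Submodule (ZMod 2) ↥(Wm A)} (F : Fg A S r sigma m fl)

include F

theorem polSp : PolSp (TI (gf A) (F := ZMod 2)) m := F.pol.polSp

/-- a subspace is fixed -/
theorem fix_of {c : ↥M} {X : Submodule (ZMod 2) ↥(Wm A)}
    (h : ∀ u ∈ U, cl A u ∈ X → cl A ((c : G) * u * (c : G)⁻¹) ∈ X) : sigma c X = X := by
  apply eq_of_rk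
  · intro w hw
    obtain ⟨v, hv, rfl⟩ := (F.pol.A.sig _ _ _).1 hw
    obtain ⟨u, hu, rfl⟩ := exists_cl A v
    rw [rho_cl A le_rfl c hu]
    exact h u hu hv
  · exact F.pol.A.card_eq _ _

theorem of_fix {c : ↥M} {X : Submodule (ZMod 2) ↥(Wm A)} (h : sigma c X = X) {u : G} (hu : u ∈ U)
    (hX : cl A u ∈ X) : cl A ((c : G) * u * (c : G)⁻¹) ∈ X := by
  have h1 := F.pol.A.mem (c := c) hX
  rwa [h, rho_cl A le_rfl c hu] at h1

/-- `M ∩ C(r)` is the stabiliser of `fl 1` -/
theorem fix_one (hr : r ∈ Δ) {c : ↥M} : sigma c (fl 1) = fl 1 ↔ (c : G) * r = r * (c : G) := by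
  have hrU := A.Δ_U r hr
  constructor
  · intro h
    have h1 : cl A r ∈ fl 1 := by rw [F.one]; exact Submodule.mem_span_singleton_self _
    have h2 := F.of_fix h hrU h1
    rw [F.one] at h2
    obtain ⟨a, ha⟩ := Submodule.mem_span_singleton.1 h2
    have h3 := A.Δ_M c c.2 r hr
    rcases zm2 a with rfl | rfl
    · rw [zero_smul] at ha
      exact absurd ha.symm (cl_pt_ne A h3)
    · rw [one_smul] at ha
      exact mul_inv_eq_iff_eq_mul.1 (pt_inj A hr h3 ha).symm
  · intro h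
    refine F.pol.A.eq_of_fix fun v hv => ?_
    rw [F.one] at hv
    obtain ⟨a, rfl⟩ := Submodule.mem_span_singleton.1 hv
    rw [F.pol.A.lin, rho_cl A le_rfl c hrU, h, mul_inv_cancel_right]

/-- `P_j ≤ C(r)` for `j ≠ 1` -/
theorem fst_cen (hr : r ∈ Δ) {J : Set ℕ} (hJ : 1 ∉ J) {x : G} (hx : x ∈ fst M sigma m fl J) : x * r = r * x := by
  have h2 := F.two
  exact (F.fix_one hr (c := ⟨x, hx.1⟩)).1 (hx.2 1 (by omega) hJ)

/-- the second point of the line `fl 2` -/
theorem exists_s (hr : r ∈ Δ) : ∃ s ∈ Δ, s ≠ r ∧ f r s = 0 ∧ (∀ d, 2 ≤ d → d ≤ m → cl A s ∈ fl d) ∧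
    ∀ q ∈ Δ, cl A q ∈ fl 2 → q = r ∨ q = s ∨ q = r * s := by
  have h2 := F.two
  have hS := F.polSp
  have hrU := A.Δ_U r hr
  obtain ⟨y, -, hy1, hy2⟩ := SAct.exists_gen (symp A) (F.pol.hf.si hS (d := 2) h2) (F.pol.hf.mono 1 (by omega))
    (by rw [F.pol.hf.rk _ h2, F.pol.hf.rk _ (by omega)])
  have hr1 : cl A r ∈ fl 1 := by rw [F.one]; exact Submodule.mem_span_singleton_self _
  have hy0 : y ≠ 0 := by
    rintro rfl
    exact hy1 (Submodule.zero_mem _)
  obtain ⟨s, hs, rfl⟩ := exists_pt A hy0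
  have hsU := A.Δ_U s hs
  have hs2 : cl A s ∈ fl 2 := by rw [hy2]; exact Submodule.mem_sup_right (Submodule.mem_span_singleton_self _)
  have hr2 : cl A r ∈ fl 2 := F.pol.hf.mono 1 (by omega) hr1
  have hsr : s ≠ r := by
    rintro rfl
    exact hy1 hr1
  have hrs : f r s = 0 := by
    rw [← gf_cl A hrU hsU]
    exact F.pol.hf.si hS h2 _ hr2 _ hs2
  refine ⟨s, hs, hsr, hrs, fun d hd hdm => F.pol.hf.le hd hdm hs2, fun q hq hq2 => ?_⟩
  rw [hy2, F.one] at hq2
  obtain ⟨a, ha, b, hb, hab⟩ := Submodule.mem_sup.1 hq2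
  obtain ⟨a', rfl⟩ := Submodule.mem_span_singleton.1 ha
  obtain ⟨b', rfl⟩ := Submodule.mem_span_singleton.1 hb
  rcases zm2 a' with rfl | rfl <;> rcases zm2 b' with rfl | rfl
  · rw [zero_smul, zero_smul, add_zero] at hab
    exact absurd hab.symm (cl_pt_ne A hq)
  · rw [zero_smul, one_smul, zero_add] at hab
    exact Or.inr (Or.inl (pt_inj A hs hq hab).symm)
  · rw [zero_smul, one_smul, add_zero] at hab
    exact Or.inl (pt_inj A hr hq hab).symm
  · rw [one_smul, one_smul, ← cl_mul A hrU hsU] at hab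
    exact Or.inr (Or.inr (pt_inj A (A.mul0 r hr s hs (Ne.symm hsr) hrs) hq hab).symm)

/-- `Q_s` fixes the members `fl d`, `d ≥ 2` -/
theorem Qs_fix {s : G} (hs : s ∈ Δ) (hsd : ∀ d, 2 ≤ d → d ≤ m → cl A s ∈ fl d) {q : G} (hq : q ∈ Qp s) {d : ℕ}
    (hd : 2 ≤ d) (hdm : d ≤ m) : sigma ⟨q, A.Q_M hs hq⟩ (fl d) = fl d := by
  refine F.fix_of fun u hu hud => ?_
  have hsU := A.Δ_U s hs
  have h1 : f s u = 0 := by
    rw [← gf_cl A hsU hu]
    exact F.pol.hf.si F.polSp hdm _ (hsd d hd hdm) _ hud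
  have h2 : u ∈ Qp s := (A.Q_f s hs u hu).2 h1
  rcases A.Q_comm s hs q hq u h2 with h | h
  · show cl A (q * u * q⁻¹) ∈ fl d
    rw [h, mul_inv_cancel_right]
    exact hud
  · show cl A (q * u * q⁻¹) ∈ fl d
    have e : q * u * q⁻¹ = s * u := by rw [h]; group
    rw [e, cl_mul A hsU hu]
    exact Submodule.add_mem _ (hsd d hd hdm) hud

theorem fix_zero (c : ↥M) : sigma c (fl 0) = fl 0 := by
  rw [F.pol.hf.zero]
  apply Submodule.finrank_eq_zero.1
  rw [F.pol.A.card_eq]
  exact finrank_bot _ _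

/-- **the situation of `SevenR`** -/
theorem exists_es (h3 : Three z Δ t) (O : Out z M U Δ f t r) (hr : r ∈ Δ) (T : Sylow 2 G)
    (hT : (T : Subgroup G) = S) :
    ∃ s l, ES z M U Δ f t r s l S ∧ fst M sigma m fl {1} = Qp s ⊔ S := by
  have h2m := F.two
  obtain ⟨s, hs, hsr, hrs, hsd, hpt⟩ := F.exists_s hr
  have hrU := A.Δ_U r hr
  have hsU := A.Δ_U s hs
  have hfsr : f s r = 0 := by rw [A.f_symm s hsU r hrU, hrs]
  obtain ⟨u, h0, a, c⟩ := A.exists_UA h3 hr
  have hl := A.wrd_L hr c 5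
  have hlz := A.wrd_z c 5
  have E0 : ED z M U Δ f t r s (wrd u a 5) := ⟨A, h3, O, hr, hs, hsr, hrs, hl, hlz⟩
  have hSM := F.S_le
  have hSr : ∀ x ∈ S, x * r = r * x := fun x hx => F.fst_cen hr (J := ∅) (by simp) (by rw [F.bor]; exact hx)
  have hS2 : ∀ x (hx : x ∈ S), ∀ d ≤ m, sigma ⟨x, hSM hx⟩ (fl d) = fl d := by
    intro x hx d hd
    have h1 : x ∈ fst M sigma m fl ∅ := by rw [F.bor]; exact hx
    exact h1.2 d hd (by simp)
  have E : ES z M U Δ f t r s (wrd u a 5) S := by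
    refine { E0 with S_r := hSr, S_s := ?_, Q_S := ?_, U_S := ?_, Qs_S := ?_, self := ?_ }
    · intro x hx
      have h1 := F.of_fix (hS2 x hx 2 h2m) hsU (hsd 2 le_rfl h2m)
      have h2 := A.Δ_M x (hSM hx) s hs
      rcases hpt _ h2 h1 with h | h | h
      · exfalso
        apply hsr
        have h4 : x * s * x⁻¹ = x * r * x⁻¹ := by
          rw [hSr x hx, mul_inv_cancel_right]; exact h
        exact mul_left_cancel (mul_right_cancel h4)
      · exact Or.inl h
      · right; rw [← A.U_comm r hrU s hsU]; exact h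
    · rw [← hT]
      refine le_of_le_normalizer (S := T) (O2_isPGroup _) ?_
      refine le_trans ?_ (le_normalizer_O2 _)
      rw [hT]
      exact fun x hx => mem_Cp.2 (hSr x hx)
    · rw [← hT, ← O.O_M]
      refine le_of_le_normalizer (S := T) (O2_isPGroup _) ?_
      rw [hT]
      exact hSM.trans (le_normalizer_O2 _)
    · intro q hq hqr
      rw [← F.bor]
      refine ⟨A.Q_M hs hq, fun d hd _ => ?_⟩
      rcases Nat.lt_or_ge d 2 with h | h
      · interval_cases d
        · exact F.fix_zero _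
        · exact (F.fix_one hr).2 hqr
      · exact F.Qs_fix hs hsd hq h hd
    · intro x hx h
      have := F.pol.self_norm hx
      rw [F.bor] at this
      exact this h
  refine ⟨s, _, E, ?_⟩
  apply le_antisymm
  · intro x hx
    have hxM := hx.1
    have h1 := F.of_fix (hx.2 2 h2m (by simp)) hrU (u := r) (by
      have : cl A r ∈ fl 1 := by rw [F.one]; exact Submodule.mem_span_singleton_self _
      exact F.pol.hf.mono 1 (by omega) this)
    obtain ⟨g, hg, hgr, -⟩ := E.Q_trans (hpt _ (A.Δ_M x hxM r hr) h1)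
    have hgP : Qp s ⊔ S ≤ fst M sigma m fl {1} := by
      refine sup_le (fun q hq => ⟨A.Q_M hs hq, fun d hd h1 => ?_⟩) (fun y hy => ⟨hSM hy, fun d hd _ => hS2 y hy d hd⟩)
      rcases Nat.lt_or_ge d 2 with h | h
      · interval_cases d
        · exact F.fix_zero _
        · exact absurd rfl h1
      · exact F.Qs_fix hs hsd hq h hd
    have h2 : g⁻¹ * x ∈ S := by
      rw [← F.bor]
      have h4 : g⁻¹ * x ∈ fst M sigma m fl {1} := mul_mem (inv_mem (hgP hg)) hx
      refine ⟨h4.1, fun d hd _ => ?_⟩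
      by_cases hd1 : d = 1
      · subst hd1
        refine (F.fix_one hr).2 ?_
        show g⁻¹ * x * r = r * (g⁻¹ * x)
        calc g⁻¹ * x * r = g⁻¹ * (x * r * x⁻¹) * x := by group
          _ = g⁻¹ * (g * r * g⁻¹) * x := by rw [hgr]
          _ = r * (g⁻¹ * x) := by group
      · exact h4.2 d hd (by simpa using hd1)
    have e : x = g * (g⁻¹ * x) := by group
    rw [e]
    exact mul_mem hg (mem_sup_right h2)
  · refine sup_le (fun q hq => ⟨A.Q_M hs hq, fun d hd h1 => ?_⟩) (fun y hy => ⟨hSM hy, fun d hd _ => hS2 y hy d hd⟩)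
    rcases Nat.lt_or_ge d 2 with h | h
    · interval_cases d
      · exact F.fix_zero _
      · exact absurd rfl h1
    · exact F.Qs_fix hs hsd hq h hd

end Fg

/-! ### The node `0` -/

namespace ES

variable {r s l : G} {S : Subgroup G} (E : ES z M U Δ f t r s l S)

include E

/-- `P_0 = L S` -/
theorem mem_P0 {x : G} : x ∈ Lp U r ⊔ S ↔ ∃ g ∈ Lp U r, ∃ b ∈ S, x = g * b := by
  have h : S ≤ normalizer (Lp U r : Set G) := fun x hx => E.O.L_norm (mem_Cp.2 (E.S_r x hx))
  rw [← SetLike.mem_coe, coe_mul_of_right_le_normalizer_left _ _ h]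
  constructor
  · rintro ⟨g, hg, b, hb, rfl⟩
    exact ⟨g, hg, b, hb, rfl⟩
  · rintro ⟨g, hg, b, hb, rfl⟩
    exact ⟨g, hg, b, hb, rfl⟩

/-- `L ∩ C(z) ≤ S` -/
theorem L_Cz {g : G} (hg : g ∈ Lp U r) (hgz : g * z = z * g) : g ∈ S := by
  obtain ⟨q, hq, u, hu, rfl⟩ := E.mem_QU hg hgz
  exact mul_mem (E.Q_S hq) (E.U_S hu)

/-- `P_0 ∩ C(z) = S` -/
theorem P0_Cz (hSz : ∀ x ∈ S, x * z = z * x) {x : G} (hx : x ∈ Lp U r ⊔ S) (hxz : x * z = z * x) : x ∈ S := by
  obtain ⟨g, hg, b, hb, rfl⟩ := E.mem_P0.1 hx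
  refine mul_mem (E.L_Cz hg ?_) hb
  have h1 : b⁻¹ * z = z * b⁻¹ := by
    have := hSz b⁻¹ (inv_mem hb)
    exact this
  calc g * z = g * b * (b⁻¹ * z) := by group
    _ = g * b * (z * b⁻¹) := by rw [h1]
    _ = (g * b * z) * b⁻¹ := by group
    _ = (z * (g * b)) * b⁻¹ := by rw [hxz]
    _ = z * g := by group

/-- **`|P_0 : S| = 3`** -/
theorem relIndex_zero [Finite G] (hSz : ∀ x ∈ S, x * z = z * x) : S.relIndex (Lp U r ⊔ S) = 3 := by
  have A := E.A
  obtain ⟨a, haL, ha1, -, -⟩ := E.exists_zy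
  let w : Fin 3 → G := ![1, l, a]
  have hwz : ∀ i, w i * z * (w i)⁻¹ = ![z, t r, r * z * t r] i := by
    intro i
    fin_cases i
    · show (1 : G) * z * 1⁻¹ = z
      group
    · exact E.lz
    · exact ha1
  have hwL : ∀ i, w i ∈ Lp U r := by
    intro i
    fin_cases i
    · exact one_mem _
    · exact E.l_L
    · exact haL
  have hinj : ∀ i j : Fin 3, (![z, t r, r * z * t r] : Fin 3 → G) i = (![z, t r, r * z * t r] : Fin 3 → G) j →
      i = j := by
    have n1 := A.z_ne_t E.r_Δ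
    have n2 := A.z_ne_y E.r_Δ
    have n3 := A.t_ne_y E.r_Δ
    intro i j
    fin_cases i <;> fin_cases j <;> intro h <;> first
      | rfl
      | exact absurd h n1
      | exact absurd h n2
      | exact absurd h n3
      | exact absurd h n1.symm
      | exact absurd h n2.symm
      | exact absurd h n3.symm
  have hcard := card_of_cosets (A := S) (B := Lp U r ⊔ S) w
    (fun i b hb => mul_mem (mem_sup_left (hwL i)) (mem_sup_right hb)) ?_ ?_
  · have h1 := relIndex_mul_card S (Lp U r ⊔ S) le_sup_right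
    rw [hcard] at h1
    exact Nat.eq_of_mul_eq_mul_right Nat.card_pos h1
  · intro i j b hb e
    apply hinj
    rw [← hwz i, ← hwz j, ← e]
    have h1 := hSz b hb
    calc w i * z * (w i)⁻¹ = w i * (z * b) * b⁻¹ * (w i)⁻¹ := by group
      _ = w i * (b * z) * b⁻¹ * (w i)⁻¹ := by rw [h1]
      _ = w i * b * z * (w i * b)⁻¹ := by group
  · intro x hx
    obtain ⟨g, hg, b, hb, e⟩ := E.mem_P0.1 hx
    have hgC := A.L_le E.r_Δ hg
    have h1 : ∃ i, g * z * g⁻¹ = w i * z * (w i)⁻¹ := by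
      rcases E.h3 r E.r_Δ g hgC with h | h | h
      · exact ⟨0, by rw [h, hwz]; rfl⟩
      · exact ⟨1, by rw [h, hwz]; rfl⟩
      · exact ⟨2, by rw [h, hwz]; rfl⟩
    obtain ⟨i, hi⟩ := h1
    refine ⟨i, ?_⟩
    have h2 : (w i)⁻¹ * g * z = z * ((w i)⁻¹ * g) := by
      calc (w i)⁻¹ * g * z = (w i)⁻¹ * (g * z * g⁻¹) * g := by group
        _ = (w i)⁻¹ * (w i * z * (w i)⁻¹) * g := by rw [hi]
        _ = z * ((w i)⁻¹ * g) := by group
    have h4 := E.L_Cz (mul_mem (inv_mem (hwL i)) hg) h2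
    rw [e, ← mul_assoc]
    exact mul_mem h4 hb
where
  relIndex_mul_card {G : Type _} [Group G] (A B : Subgroup G) (h : A ≤ B) :
      A.relIndex B * Nat.card A = Nat.card B := by
    have h1 := (A.subgroupOf B).index_mul_card
    rw [Nat.card_congr (subgroupOfEquivOfLe h).toEquiv] at h1
    exact h1

/-- **the digons `(0, j)`** -/
theorem digon (hSz : ∀ x ∈ S, x * z = z * x) {I : Type*} {P : I → Subgroup G} {i j : I} (hB : ∀ k, S ≤ P k)
    (hi : P i = Lp U r ⊔ S) (hjr : ∀ x ∈ P j, x * r = r * x) (hjz : ∀ x ∈ P j, x * z = z * x) :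
    GPp S P i j 2 ∧ GPp S P j i 2 := by
  have hLn : ∀ q ∈ P j, ∀ g ∈ Lp U r, q * g * q⁻¹ ∈ Lp U r := fun q hq g hg =>
    conj_norm (E.O.L_norm (mem_Cp.2 (hjr q hq))) hg
  constructor
  · refine gpp_two hB ?_ ?_
    · intro x hx hxj
      rw [hi] at hx
      exact E.P0_Cz hSz hx (hjz x hxj)
    · intro p hp q hq
      rw [hi] at hp
      obtain ⟨g, hg, b, hb, rfl⟩ := E.mem_P0.1 hp
      have hbq : b * q ∈ P j := mul_mem (hB j hb) hq
      refine ⟨b * q, hbq, (b * q)⁻¹ * g * (b * q)⁻¹⁻¹, ?_, by group⟩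
      rw [hi]
      exact mem_sup_left (hLn _ (inv_mem hbq) g hg)
  · refine gpp_two hB ?_ ?_
    · intro x hxj hx
      rw [hi] at hx
      exact E.P0_Cz hSz hx (hjz x hxj)
    · intro q hq p hp
      rw [hi] at hp
      obtain ⟨g, hg, b, hb, rfl⟩ := E.mem_P0.1 hp
      refine ⟨q * g * q⁻¹, ?_, q * b, mul_mem hq (hB j hb), by group⟩
      rw [hi]
      exact mem_sup_left (hLn q hq g hg)

end ES

/-! ### The system -/

/-- the entries of the Coxeter matrix of type `C_{m+1}` -/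
def ent (m i j : ℕ) : ℕ :=
  if (i + 1 = j ∧ j = m) ∨ (j + 1 = i ∧ i = m) then 4 else if i + 1 = j ∨ j + 1 = i then 3 else 2

/-- **(7) of #15507: the parabolic system** -/
theorem exists_sys [Finite G] (A : Res z M U Δ f t) (h3 : Three z Δ t) {r : G} (O : Out z M U Δ f t r) (hr : r ∈ Δ)
    {p : G} (hp : p ∈ Δ) (hpr : p ≠ r) (hf : f r p = 0) (S : Sylow 2 G) (hSM : (S : Subgroup G) ≤ M)
    (hSr : ∀ s ∈ (S : Subgroup G), s * r = r * s) :
    ∃ m, 2 ≤ m ∧ ∃ PP : Fin (m + 1) → Subgroup G, (∀ i, (S : Subgroup G) ≤ PP i) ∧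
      (∀ i, (S : Subgroup G).relIndex (PP i) = 3) ∧
      (∀ i j, i ≠ j → GPp (S : Subgroup G) PP i j (ent m i j)) ∧
      (∀ i : Fin (m + 1), (i : ℕ) ≠ 1 → PP i ≤ centralizer ({r} : Set G)) ∧
      M ≤ ⨆ i, PP i ∧ centralizer ({r} : Set G) ≤ ⨆ i, PP i ∧
      2 ^ ((m + 1) ^ 2) ≤ Nat.card (S : Subgroup G) ∧
      ∃ Y ≤ (S : Subgroup G), Y ≤ U ⊔ closure (t '' Δ) ∧ 2 ^ ((m + 1) ^ 2) ≤ Nat.card Y := by
  obtain ⟨sigma, m, fl, F⟩ := exists_fg A O hr hp hpr hf S hSM hSr
  obtain ⟨s, l, E, hP1⟩ := F.exists_es h3 O hr S rfl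
  have h2 := F.two
  have hSz : ∀ x ∈ (S : Subgroup G), x * z = z * x := fun x hx => A.mz (hSM hx)
  let PP : Fin (m + 1) → Subgroup G := fun i =>
    if (i : ℕ) = 0 then Lp U r ⊔ (S : Subgroup G) else fst M sigma m fl {(i : ℕ)}
  have hPP0 : ∀ i : Fin (m + 1), (i : ℕ) = 0 → PP i = Lp U r ⊔ (S : Subgroup G) := fun i hi => if_pos hi
  have hPPj : ∀ i : Fin (m + 1), (i : ℕ) ≠ 0 → PP i = fst M sigma m fl {(i : ℕ)} := fun i hi => if_neg hi
  have hle : ∀ i, (S : Subgroup G) ≤ PP i := by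
    intro i
    by_cases h : (i : ℕ) = 0
    · rw [hPP0 i h]; exact le_sup_right
    · rw [hPPj i h, ← F.bor]; exact fst_mono (Set.empty_subset _)
  have hle' : ∀ i, fst M sigma m fl ∅ ≤ PP i := by rw [F.bor]; exact hle
  have hjr : ∀ j : Fin (m + 1), 2 ≤ (j : ℕ) → ∀ x ∈ PP j, x * r = r * x := by
    intro j hj x hx
    rw [hPPj j (by omega)] at hx
    exact F.fst_cen hr (by simp only [Set.mem_singleton_iff]; omega) hx
  have hjz : ∀ j : Fin (m + 1), (j : ℕ) ≠ 0 → ∀ x ∈ PP j, x * z = z * x := by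
    intro j hj x hx
    rw [hPPj j hj] at hx
    exact A.mz (fst_le hx)
  -- the sup
  have hsup : M ≤ ⨆ i, PP i := by
    refine F.pol.gen (by omega) fun j hj hjm => ?_
    have h := le_iSup PP ⟨j, by omega⟩
    rwa [hPPj ⟨j, by omega⟩ (show (j : ℕ) ≠ 0 by omega)] at h
  refine ⟨m, h2, PP, hle, ?_, ?_, ?_, hsup, ?_, F.card_S, F.exists_Y⟩
  · intro i
    by_cases h : (i : ℕ) = 0
    · rw [hPP0 i h]; exact E.relIndex_zero hSz
    · rw [hPPj i h]
      have := F.pol.relIndex (j := (i : ℕ)) (by omega) (by omega)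
      rwa [F.bor, Nat.card_zmod] at this
  · -- the residues
    have key : ∀ i j : Fin (m + 1), (i : ℕ) < (j : ℕ) → GPp (S : Subgroup G) PP i j (ent m i j) ∧
        GPp (S : Subgroup G) PP j i (ent m i j) := by
      intro i j hij
      by_cases h0 : (i : ℕ) = 0
      · by_cases h1 : (j : ℕ) = 1
        · have e : ent m i j = 3 := by
            unfold ent
            rw [if_neg (by omega), if_pos (by omega)]
          rw [e]
          have hj : PP j = Qp s ⊔ (S : Subgroup G) := by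
            rw [hPPj j (by omega), h1, hP1]
          have := E.rk hle hj (hPP0 i h0)
          exact ⟨this.2, this.1⟩
        · have e : ent m i j = 2 := by
            unfold ent
            rw [if_neg (by omega), if_neg (by omega)]
          rw [e]
          exact E.digon hSz hle (hPP0 i h0) (hjr j (by omega)) (hjz j (by omega))
      · have hi := hPPj i h0
        have hj := hPPj j (by omega)
        by_cases h1 : (i : ℕ) + 1 = j
        · by_cases h4 : (j : ℕ) = m
          · have e : ent m i j = 4 := by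
              unfold ent
              rw [if_pos (by omega)]
            rw [e]
            have := F.pol.rk_four hle' hi hj (by omega) h1 h4
            rw [F.bor] at this
            exact this
          · have e : ent m i j = 3 := by
              unfold ent
              rw [if_neg (by omega), if_pos (by omega)]
            rw [e]
            have := F.pol.rk_three hle' hi hj (by omega) h1 (by omega)
            rw [F.bor] at this
            exact this
        · have e : ent m i j = 2 := by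
            unfold ent
            rw [if_neg (by omega), if_neg (by omega)]
          rw [e]
          have := F.pol.rk_two hle' hi hj (by omega) (by omega)
          rw [F.bor] at this
          exact this
    have hsymm : ∀ i j : ℕ, ent m i j = ent m j i := by
      intro i j
      unfold ent
      split_ifs <;> omega
    intro i j hij
    have hij' : (i : ℕ) ≠ j := fun h => hij (Fin.ext h)
    rcases Nat.lt_or_gt_of_ne hij' with h | h
    · exact (key i j h).1
    · rw [hsymm]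
      exact (key j i h).2
  · intro i hi
    by_cases h : (i : ℕ) = 0
    · rw [hPP0 i h]
      exact sup_le (A.L_le hr) fun x hx => mem_Cp.2 (E.S_r x hx)
    · exact fun x hx => mem_Cp.2 (hjr i (by omega) x hx)
  · -- `C(r) = L K_r`
    have h1 : Lp U r ≤ ⨆ i, PP i := by
      have h := le_iSup PP ⟨0, by omega⟩
      rw [hPP0 ⟨0, by omega⟩ rfl] at h
      exact le_sup_left.trans h
    have h4 : Kp z r ≤ ⨆ i, PP i := (A.CN_le_M hr).trans hsup
    have h5 := O.L_sup
    show Cp r ≤ _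
    rw [← h5]
    exact sup_le h1 h4

end Cfsg.Agent.Omega.HTwo.Seven

end

section


/-!
# A group acting on an elementary abelian 2-group with a symplectic form: the flag stabilisers

`SData C U z f` : `C` acts on the elementary abelian 2-group `U` by conjugation, centralises `z ∈ U`; `f` is a `C`-invariant
alternating form on `U` with radical `⟨z⟩`, and `C` induces all the transvections of `U / ⟨z⟩`.

`Md U z w` : `w : G → W` is a model of `U / ⟨z⟩` over `ZMod 2`; `exists_md`.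
`gf`, `rho`, `sigma` : the form, the action on `W` and on the subspaces; `symp : Symp gf`, `sact : SAct gf rho sigma`.

`exists_pol` : a Sylow 2-subgroup `S ≤ C` which fixes the members of a flag `f₀` is the full stabiliser
`fst C sigma m fl ∅` of a maximal flag `fl` through `f₀` (if `C_C(U)` is a 2-group).
-/

set_option autoImplicit false

namespace Cfsg.Agent.Omega.HTwo.SysSymp

open Subgroup Module Cfsg.Agent.ParSys.Polar.Flags Cfsg.Agent.ParSys.Polar.Sympl

universe u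

variable {G : Type u} [Group G]

/-- `C` induces on `U / ⟨z⟩` a group of isometries of the symplectic form `f` which contains all the transvections -/
structure SData (C U : Subgroup G) (z : G) (f : G → G → ZMod 2) : Prop where
  zz : z * z = 1
  C_z : ∀ c ∈ C, c * z = z * c
  z_U : z ∈ U
  U_comm : ∀ u ∈ U, ∀ v ∈ U, u * v = v * u
  U_sq : ∀ u ∈ U, u * u = 1
  U_C : ∀ c ∈ C, ∀ u ∈ U, c * u * c⁻¹ ∈ U
  f_add : ∀ u ∈ U, ∀ v ∈ U, ∀ w ∈ U, f (u * v) w = f u w + f v w
  f_symm : ∀ u ∈ U, ∀ v ∈ U, f u v = f v u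
  f_self : ∀ u ∈ U, f u u = 0
  f_C : ∀ c ∈ C, ∀ u ∈ U, ∀ v ∈ U, f (c * u * c⁻¹) (c * v * c⁻¹) = f u v
  f_rad : ∀ u ∈ U, (∀ v ∈ U, f u v = 0) → u = 1 ∨ u = z
  f_z : ∀ u ∈ U, f z u = 0
  tv : ∀ p ∈ U, ∃ c ∈ C, ∀ u ∈ U, (f u p = 0 → c * u * c⁻¹ = u ∨ c * u * c⁻¹ = u * z) ∧
    (f u p = 1 → c * u * c⁻¹ = u * p ∨ c * u * c⁻¹ = u * p * z)

/-- a model of `U / ⟨z⟩` -/
structure Md (U : Subgroup G) (z : G) {W : Type*} [AddCommGroup W] (w : G → W) : Prop where
  mul : ∀ u ∈ U, ∀ v ∈ U, w (u * v) = w u + w v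
  ker : ∀ u ∈ U, w u = 0 → u = 1 ∨ u = z
  sur : ∀ x, ∃ u ∈ U, w u = x
  wz : w z = 0

/-! ### Existence of a model -/

section model

variable {C U : Subgroup G} {z : G} {f : G → G → ZMod 2} (D : SData C U z f)
include D

theorem SData.f_add' {u v w : G} (hu : u ∈ U) (hv : v ∈ U) (hw : w ∈ U) : f u (v * w) = f u v + f u w := by
  rw [D.f_symm u hu _ (mul_mem hv hw), D.f_add v hv w hw u hu, D.f_symm v hv u hu, D.f_symm w hw u hu]

theorem SData.f_one {u : G} (hu : u ∈ U) : f 1 u = 0 := by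
  have h := D.f_add 1 U.one_mem 1 U.one_mem u hu
  rw [one_mul] at h
  exact left_eq_add.1 h

theorem SData.f_one' {u : G} (hu : u ∈ U) : f u 1 = 0 := by rw [D.f_symm u hu 1 U.one_mem, D.f_one hu]

theorem SData.f_z' {u : G} (hu : u ∈ U) : f u z = 0 := by rw [D.f_symm u hu z D.z_U, D.f_z u hu]

theorem exists_md : ∃ (W : Type u) (_ : AddCommGroup W) (_ : Module (ZMod 2) W) (w : G → W), Md U z w ∧
    (Finite G → Finite W) := by
  classical
  let φ : G → (G → ZMod 2) := fun u v => if v ∈ U then f u v else 0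
  let W : Submodule (ZMod 2) (G → ZMod 2) :=
    { carrier := {x | ∃ u ∈ U, x = φ u}
      zero_mem' := ⟨1, U.one_mem, by
        funext v
        by_cases hv : v ∈ U
        · simp only [φ, if_pos hv, Pi.zero_apply, D.f_one hv]
        · simp only [φ, if_neg hv, Pi.zero_apply]⟩
      add_mem' := by
        rintro _ _ ⟨u, hu, rfl⟩ ⟨u', hu', rfl⟩
        refine ⟨u * u', mul_mem hu hu', ?_⟩
        funext v
        by_cases hv : v ∈ U
        · simp only [φ, if_pos hv, Pi.add_apply, D.f_add u hu u' hu' v hv]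
        · simp only [φ, if_neg hv, Pi.add_apply, add_zero]
      smul_mem' := by
        rintro a _ ⟨u, hu, rfl⟩
        have ha : a = 0 ∨ a = 1 := by
          revert a; decide
        rcases ha with rfl | rfl
        · refine ⟨1, U.one_mem, ?_⟩
          funext v
          by_cases hv : v ∈ U
          · simp only [φ, if_pos hv, zero_smul, Pi.zero_apply, D.f_one hv]
          · simp only [φ, if_neg hv, zero_smul, Pi.zero_apply]
        · exact ⟨u, hu, one_smul _ _⟩ }
  let w : G → W := fun u => if h : u ∈ U then ⟨φ u, u, h, rfl⟩ else 0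
  have hw : ∀ u ∈ U, ((w u : W) : G → ZMod 2) = φ u := fun u hu => by
    simp only [w, dif_pos hu]
  refine ⟨W, inferInstance, inferInstance, w, ⟨?_, ?_, ?_, ?_⟩, fun _ => inferInstance⟩
  · intro u hu v hv
    apply Subtype.ext
    rw [Submodule.coe_add, hw _ (mul_mem hu hv), hw _ hu, hw _ hv]
    funext x
    by_cases hx : x ∈ U
    · simp only [φ, if_pos hx, Pi.add_apply, D.f_add u hu v hv x hx]
    · simp only [φ, if_neg hx, Pi.add_apply, add_zero]
  · intro u hu h
    apply D.f_rad u hu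
    intro v hv
    have h1 : φ u = 0 := by rw [← hw u hu, h]; rfl
    have h2 := congrFun h1 v
    simp only [φ, if_pos hv, Pi.zero_apply] at h2
    exact h2
  · rintro ⟨_, u, hu, rfl⟩
    exact ⟨u, hu, Subtype.ext (hw u hu)⟩
  · apply Subtype.ext
    rw [hw z D.z_U]
    funext v
    by_cases hv : v ∈ U
    · simp only [φ, if_pos hv, D.f_z v hv]; rfl
    · simp only [φ, if_neg hv]; rfl

end model

/-! ### The form and the action -/

section action

variable {C U : Subgroup G} {z : G} {f : G → G → ZMod 2} (D : SData C U z f)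
  {W : Type*} [AddCommGroup W] {w : G → W} (K : Md U z w)

include K in
theorem Md.w_one : w 1 = 0 := by
  have h := K.mul 1 U.one_mem 1 U.one_mem
  rw [one_mul] at h
  exact left_eq_add.1 h

include D K in
theorem w_eq_iff {u v : G} (hu : u ∈ U) (hv : v ∈ U) : w u = w v ↔ u = v ∨ u = v * z := by
  constructor
  · intro h
    have h1 : w (v * u) = 0 := by
      rw [K.mul v hv u hu, h, ← K.mul v hv v hv, D.U_sq v hv, K.w_one]
    rcases K.ker _ (mul_mem hv hu) h1 with h2 | h2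
    · left
      have h3 : v * (v * u) = v := by rw [h2, mul_one]
      rw [← mul_assoc, D.U_sq v hv, one_mul] at h3
      exact h3
    · right
      have h3 : v * (v * u) = v * z := by rw [h2]
      rw [← mul_assoc, D.U_sq v hv, one_mul] at h3
      exact h3
  · rintro (rfl | rfl)
    · rfl
    · rw [K.mul v hv z D.z_U, K.wz, add_zero]

/-- a representative -/
noncomputable def lf (x : W) : G := (K.sur x).choose

theorem lf_mem (x : W) : lf K x ∈ U := (K.sur x).choose_spec.1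

include K in
theorem w_lf (x : W) : w (lf K x) = x := (K.sur x).choose_spec.2

/-- the form on `W` -/
noncomputable def gf (f : G → G → ZMod 2) (x y : W) : ZMod 2 := f (lf K x) (lf K y)

include D in
theorem gf_w {u v : G} (hu : u ∈ U) (hv : v ∈ U) : gf K f (w u) (w v) = f u v := by
  have h1 := (w_eq_iff D K (lf_mem K (w u)) hu).1 (w_lf K (w u))
  have h2 := (w_eq_iff D K (lf_mem K (w v)) hv).1 (w_lf K (w v))
  have e1 : ∀ y ∈ U, f (lf K (w u)) y = f u y := by
    intro y hy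
    rcases h1 with h1 | h1
    · rw [h1]
    · rw [h1, D.f_add u hu z D.z_U y hy, D.f_z y hy, add_zero]
  have e2 : f u (lf K (w v)) = f u v := by
    rcases h2 with h2 | h2
    · rw [h2]
    · rw [h2, D.f_add' hu hv D.z_U, D.f_z' hu, add_zero]
  rw [gf, e1 _ (lf_mem K _), e2]

/-- the action on `W` -/
noncomputable def rho (c : ↥C) : W ≃+ W where
  toFun x := w ((c : G) * lf K x * (c : G)⁻¹)
  invFun x := w ((c : G)⁻¹ * lf K x * (c : G)⁻¹⁻¹)
  left_inv x := by
    have h1 := D.U_C c c.2 _ (lf_mem K x)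
    have h2 := (w_eq_iff D K (lf_mem K _) h1).1 (w_lf K (w ((c : G) * lf K x * (c : G)⁻¹)))
    have e1 : (c : G)⁻¹ * ((c : G) * lf K x * (c : G)⁻¹) * (c : G)⁻¹⁻¹ = lf K x := by group
    rcases h2 with h2 | h2
    · show w ((c : G)⁻¹ * lf K (w ((c : G) * lf K x * (c : G)⁻¹)) * (c : G)⁻¹⁻¹) = x
      rw [h2, e1, w_lf K]
    · show w ((c : G)⁻¹ * lf K (w ((c : G) * lf K x * (c : G)⁻¹)) * (c : G)⁻¹⁻¹) = x
      have e2 : (c : G)⁻¹ * ((c : G) * lf K x * (c : G)⁻¹ * z) * (c : G)⁻¹⁻¹ = lf K x * z := by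
        have := D.C_z _ c.2
        calc (c : G)⁻¹ * ((c : G) * lf K x * (c : G)⁻¹ * z) * (c : G)⁻¹⁻¹
            = lf K x * (c : G)⁻¹ * (z * (c : G)) := by group
          _ = lf K x * (c : G)⁻¹ * ((c : G) * z) := by rw [this]
          _ = lf K x * z := by group
      rw [h2, e2, K.mul _ (lf_mem K x) z D.z_U, K.wz, add_zero, w_lf K]
  right_inv x := by
    have h0 : (c : G)⁻¹ ∈ C := inv_mem c.2
    have h1 := D.U_C _ h0 _ (lf_mem K x)
    have h2 := (w_eq_iff D K (lf_mem K _) h1).1 (w_lf K (w ((c : G)⁻¹ * lf K x * (c : G)⁻¹⁻¹)))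
    have e1 : (c : G) * ((c : G)⁻¹ * lf K x * (c : G)⁻¹⁻¹) * (c : G)⁻¹ = lf K x := by group
    rcases h2 with h2 | h2
    · show w ((c : G) * lf K (w ((c : G)⁻¹ * lf K x * (c : G)⁻¹⁻¹)) * (c : G)⁻¹) = x
      rw [h2, e1, w_lf K]
    · show w ((c : G) * lf K (w ((c : G)⁻¹ * lf K x * (c : G)⁻¹⁻¹)) * (c : G)⁻¹) = x
      have e2 : (c : G) * ((c : G)⁻¹ * lf K x * (c : G)⁻¹⁻¹ * z) * (c : G)⁻¹ = lf K x * z := by
        have := D.C_z _ c.2
        calc (c : G) * ((c : G)⁻¹ * lf K x * (c : G)⁻¹⁻¹ * z) * (c : G)⁻¹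
            = lf K x * ((c : G) * z) * (c : G)⁻¹ := by group
          _ = lf K x * (z * (c : G)) * (c : G)⁻¹ := by rw [this]
          _ = lf K x * z := by group
      rw [h2, e2, K.mul _ (lf_mem K x) z D.z_U, K.wz, add_zero, w_lf K]
  map_add' x y := by
    have h1 := (w_eq_iff D K (lf_mem K (x + y)) (mul_mem (lf_mem K x) (lf_mem K y))).1 (by
      rw [w_lf K, K.mul _ (lf_mem K x) _ (lf_mem K y), w_lf K, w_lf K])
    have hx := D.U_C c c.2 _ (lf_mem K x)
    have hy := D.U_C c c.2 _ (lf_mem K y)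
    rw [← K.mul _ hx _ hy]
    have e1 : (c : G) * (lf K x * lf K y) * (c : G)⁻¹ = (c : G) * lf K x * (c : G)⁻¹ * ((c : G) * lf K y * (c : G)⁻¹) := by
      group
    rcases h1 with h1 | h1
    · rw [h1, e1]
    · have e2 : (c : G) * (lf K x * lf K y * z) * (c : G)⁻¹ =
          (c : G) * lf K x * (c : G)⁻¹ * ((c : G) * lf K y * (c : G)⁻¹) * z := by
        have := D.C_z _ c.2
        calc (c : G) * (lf K x * lf K y * z) * (c : G)⁻¹
            = (c : G) * (lf K x * lf K y) * (c : G)⁻¹ * ((c : G) * z) * (c : G)⁻¹ := by group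
          _ = (c : G) * (lf K x * lf K y) * (c : G)⁻¹ * (z * (c : G)) * (c : G)⁻¹ := by rw [this]
          _ = _ := by group
      rw [h1, e2, K.mul _ (mul_mem hx hy) z D.z_U, K.wz, add_zero]

theorem rho_w (c : ↥C) {u : G} (hu : u ∈ U) : rho D K c (w u) = w ((c : G) * u * (c : G)⁻¹) := by
  have h1 := (w_eq_iff D K (lf_mem K (w u)) hu).1 (w_lf K (w u))
  show w ((c : G) * lf K (w u) * (c : G)⁻¹) = _
  rcases h1 with h1 | h1
  · rw [h1]
  · have e2 : (c : G) * (u * z) * (c : G)⁻¹ = (c : G) * u * (c : G)⁻¹ * z := by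
      have := D.C_z _ c.2
      calc (c : G) * (u * z) * (c : G)⁻¹ = (c : G) * u * (c : G)⁻¹ * ((c : G) * z) * (c : G)⁻¹ := by group
        _ = (c : G) * u * (c : G)⁻¹ * (z * (c : G)) * (c : G)⁻¹ := by rw [this]
        _ = _ := by group
    rw [h1, e2, K.mul _ (D.U_C c c.2 u hu) z D.z_U, K.wz, add_zero]

theorem rho_mul (a b : ↥C) (x : W) : rho D K (a * b) x = rho D K a (rho D K b x) := by
  obtain ⟨u, hu, rfl⟩ := K.sur x
  rw [rho_w D K _ hu, rho_w D K _ hu, rho_w D K _ (D.U_C b b.2 u hu)]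
  congr 1
  rw [Subgroup.coe_mul]; group

theorem rho_one (x : W) : rho D K 1 x = x := by
  obtain ⟨u, hu, rfl⟩ := K.sur x
  rw [rho_w D K _ hu, Subgroup.coe_one, one_mul, inv_one, mul_one]

variable [Module (ZMod 2) W]

/-- `rho c` as a linear map -/
noncomputable def rl (c : ↥C) : W →ₗ[ZMod 2] W := (rho D K c).toAddMonoidHom.toZModLinearMap 2

@[simp] theorem rl_apply (c : ↥C) (x : W) : rl D K c x = rho D K c x := rfl

theorem rl_mul (a b : ↥C) : rl D K (a * b) = (rl D K a).comp (rl D K b) := by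
  ext x
  exact rho_mul D K a b x

theorem rl_one : rl D K 1 = LinearMap.id := by
  ext x
  exact rho_one D K x

/-- the action on the subspaces -/
noncomputable def sigma : ↥C →* Equiv.Perm (Submodule (ZMod 2) W) where
  toFun c :=
    { toFun := fun X => X.map (rl D K c)
      invFun := fun X => X.map (rl D K c⁻¹)
      left_inv := fun X => by
        show (X.map (rl D K c)).map (rl D K c⁻¹) = X
        rw [← Submodule.map_comp, ← rl_mul, inv_mul_cancel, rl_one, Submodule.map_id]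
      right_inv := fun X => by
        show (X.map (rl D K c⁻¹)).map (rl D K c) = X
        rw [← Submodule.map_comp, ← rl_mul, mul_inv_cancel, rl_one, Submodule.map_id] }
  map_one' := by
    ext1 X
    show X.map (rl D K 1) = X
    rw [rl_one, Submodule.map_id]
  map_mul' a b := by
    ext1 X
    show X.map (rl D K (a * b)) = (X.map (rl D K b)).map (rl D K a)
    rw [rl_mul, Submodule.map_comp]

theorem sigma_apply (c : ↥C) (X : Submodule (ZMod 2) W) : sigma D K c X = X.map (rl D K c) := rfl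

theorem mem_sigma {c : ↥C} {X : Submodule (ZMod 2) W} {y : W} :
    y ∈ sigma D K c X ↔ ∃ x ∈ X, rho D K c x = y := by
  rw [sigma_apply, Submodule.mem_map]
  rfl

include D in
/-- the form is symplectic -/
theorem symp : Symp (F := ZMod 2) (gf K f) where
  two := by decide
  self x := by rw [gf]; exact D.f_self _ (lf_mem K x)
  add x y t := by
    obtain ⟨u, hu, rfl⟩ := K.sur x
    obtain ⟨v, hv, rfl⟩ := K.sur y
    obtain ⟨s, hs, rfl⟩ := K.sur t
    rw [← K.mul u hu v hv, gf_w D K (mul_mem hu hv) hs, gf_w D K hu hs, gf_w D K hv hs, D.f_add u hu v hv s hs]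
  smul a x y := by
    have ha : a = 0 ∨ a = 1 := by
      revert a; decide
    obtain ⟨v, hv, rfl⟩ := K.sur y
    rcases ha with rfl | rfl
    · rw [zero_smul, zero_mul, ← K.w_one, gf_w D K U.one_mem hv, D.f_one hv]
    · rw [one_smul, one_mul]
  sym x y := by
    rw [gf, gf]; exact D.f_symm _ (lf_mem K y) _ (lf_mem K x)
  nd x h := by
    obtain ⟨u, hu, rfl⟩ := K.sur x
    have h1 : ∀ v ∈ U, f u v = 0 := fun v hv => by rw [← gf_w D K hu hv]; exact h _
    rcases D.f_rad u hu h1 with rfl | rfl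
    · exact K.w_one
    · exact K.wz

/-- `C` acts by isometries and induces all the transvections -/
theorem sact : SAct (gf K f) (rho D K) (sigma D K) where
  mul := rho_mul D K
  sig c X y := mem_sigma D K
  lin c s v := (rl D K c).map_smul s v
  iso c x y := by
    obtain ⟨u, hu, rfl⟩ := K.sur x
    obtain ⟨v, hv, rfl⟩ := K.sur y
    rw [rho_w D K c hu, rho_w D K c hv, gf_w D K (D.U_C c c.2 u hu) (D.U_C c c.2 v hv), gf_w D K hu hv,
      D.f_C c c.2 u hu v hv]
  tv y a := by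
    have ha : a = 0 ∨ a = 1 := by
      revert a; decide
    rcases ha with rfl | rfl
    · exact ⟨1, fun v => by rw [rho_one, zero_mul, zero_smul, add_zero]⟩
    · obtain ⟨p, hp, rfl⟩ := K.sur y
      obtain ⟨c, hc, h⟩ := D.tv p hp
      refine ⟨⟨c, hc⟩, fun v => ?_⟩
      obtain ⟨u, hu, rfl⟩ := K.sur v
      rw [rho_w D K _ hu, gf_w D K hu hp, one_mul]
      have hf : f u p = 0 ∨ f u p = 1 := by
        generalize f u p = a
        revert a; decide
      obtain ⟨h1, h2⟩ := h u hu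
      have hU := D.U_C c hc u hu
      rcases hf with hf | hf
      · rw [hf, zero_smul, add_zero]
        exact (w_eq_iff D K hU hu).2 (h1 hf)
      · rw [hf, one_smul, ← K.mul u hu p hp]
        exact (w_eq_iff D K hU (mul_mem hu hp)).2 (h2 hf)

/-! ### Subspaces and subgroups -/

/-- the subspace of a subgroup -/
def sm (_ : SData C U z f) (K : Md U z w) (A : Subgroup G) : Submodule (ZMod 2) W where
  carrier := {x | ∃ u ∈ A ⊓ U, w u = x}
  zero_mem' := ⟨1, one_mem _, K.w_one⟩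
  add_mem' := by
    rintro _ _ ⟨u, hu, rfl⟩ ⟨v, hv, rfl⟩
    exact ⟨u * v, mul_mem hu hv, K.mul u hu.2 v hv.2⟩
  smul_mem' := by
    rintro a _ ⟨u, hu, rfl⟩
    have ha : a = 0 ∨ a = 1 := by
      revert a; decide
    rcases ha with rfl | rfl
    · exact ⟨1, one_mem _, by rw [zero_smul, K.w_one]⟩
    · exact ⟨u, hu, by rw [one_smul]⟩

theorem mem_sm {A : Subgroup G} {x : W} : x ∈ sm D K A ↔ ∃ u ∈ A ⊓ U, w u = x := Iff.rfl

theorem w_mem_sm {A : Subgroup G} (hz : z ∈ A) {u : G} (hu : u ∈ U) : w u ∈ sm D K A ↔ u ∈ A := by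
  constructor
  · rintro ⟨v, hv, h⟩
    rcases (w_eq_iff D K hu hv.2).1 h.symm with rfl | rfl
    · exact hv.1
    · exact mul_mem hv.1 hz
  · intro h
    exact ⟨u, ⟨h, hu⟩, rfl⟩

/-- the subspace `X` is fixed by `c` -/
theorem sigma_eq_iff [Finite W] {c : ↥C} {X : Submodule (ZMod 2) W} :
    sigma D K c X = X ↔ ∀ u ∈ U, w u ∈ X → w ((c : G) * u * (c : G)⁻¹) ∈ X := by
  constructor
  · intro h u hu hX
    rw [← h, mem_sigma]
    exact ⟨w u, hX, rho_w D K c hu⟩
  · intro h
    have hle : sigma D K c X ≤ X := by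
      intro y hy
      obtain ⟨x, hx, rfl⟩ := (mem_sigma D K).1 hy
      obtain ⟨u, hu, rfl⟩ := K.sur x
      rw [rho_w D K c hu]
      exact h u hu hx
    have : FiniteDimensional (ZMod 2) W := Module.Finite.of_finite
    exact eq_of_rk hle ((sact D K).card_eq c X)

include D K in
/-- the span of `w p` -/
theorem mem_span_w {p : G} (hp : p ∈ U) {u : G} (hu : u ∈ U) :
    w u ∈ Submodule.span (ZMod 2) {w p} ↔ u = 1 ∨ u = z ∨ u = p ∨ u = p * z := by
  rw [Submodule.mem_span_singleton]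
  constructor
  · rintro ⟨a, ha⟩
    have ha' : a = 0 ∨ a = 1 := by
      clear ha
      revert a; decide
    rcases ha' with rfl | rfl
    · rw [zero_smul] at ha
      rcases K.ker u hu ha.symm with h | h
      · exact Or.inl h
      · exact Or.inr (Or.inl h)
    · rw [one_smul] at ha
      rcases (w_eq_iff D K hu hp).1 ha.symm with h | h
      · exact Or.inr (Or.inr (Or.inl h))
      · exact Or.inr (Or.inr (Or.inr h))
  · rintro (rfl | rfl | rfl | rfl)
    · exact ⟨0, by rw [zero_smul, K.w_one]⟩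
    · exact ⟨0, by rw [zero_smul, K.wz]⟩
    · exact ⟨1, one_smul _ _⟩
    · exact ⟨1, by rw [one_smul, K.mul p hp z D.z_U, K.wz, add_zero]⟩

/-! ### The Sylow group as a flag stabiliser -/

/-- **a Sylow 2-subgroup `S ≤ C` is the full stabiliser of a maximal flag** through a given `S`-invariant flag -/
theorem exists_pol [Finite G] [Finite W] (S : Sylow 2 G) (hS : (S : Subgroup G) ≤ C)
    (hker : ∀ c ∈ C, (∀ u ∈ U, c * u = u * c) → ∃ n, c ^ 2 ^ n = 1) {k : ℕ} {f₀ : ℕ → Submodule (ZMod 2) W}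
    (h : Fl (TI (gf K f)) k f₀)
    (hinv : ∀ s ∈ (S : Subgroup G), ∀ d ≤ k, ∀ u ∈ U, w u ∈ f₀ d → w (s * u * s⁻¹) ∈ f₀ d) :
    ∃ (m : ℕ) (fl : ℕ → Submodule (ZMod 2) W), k ≤ m ∧ Pol C (gf K f) (rho D K) (sigma D K) m fl ∧
      (∀ d ≤ k, fl d = f₀ d) ∧ fst C (sigma D K) m fl ∅ = (S : Subgroup G) := by
  have hfd : FiniteDimensional (ZMod 2) W := Module.Finite.of_finite
  obtain ⟨m, hm⟩ := (symp D K).exists_witt
  have hF : Nat.card (ZMod 2) = 2 := by rw [Nat.card_eq_fintype_card, ZMod.card]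
  have A := sact D K
  have hA : Act (sigma D K) (TI (gf K f) (F := ZMod 2)) := SAct.act (symp D K) A
  let tau : ↥(S : Subgroup G) →* Equiv.Perm (Submodule (ZMod 2) W) := (sigma D K).comp (Subgroup.inclusion hS)
  have htau : ∀ (s : ↥(S : Subgroup G)) (X : Submodule (ZMod 2) W), tau s X = sigma D K ⟨(s : G), hS s.2⟩ X :=
    fun _ _ => rfl
  obtain ⟨hkm, fl, h1, h2, h3⟩ := exists_fl_inv (symp D K) (tau := tau) hF hm S.isPGroup'
    (fun s X Y hXY => by rw [htau, htau]; exact hA.le _ hXY)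
    (fun s X => by rw [htau]; exact hA.rk _ X)
    (fun s X hX => by rw [htau]; exact hA.sing _ hX) h
    (fun s d hd => by
      rw [htau, sigma_eq_iff]
      exact hinv s s.2 d hd)
  have P : Pol C (gf K f) (rho D K) (sigma D K) m fl := ⟨symp D K, A, hm, h1⟩
  refine ⟨m, fl, hkm, P, h2, ?_⟩
  have hle : (S : Subgroup G) ≤ fst C (sigma D K) m fl ∅ := by
    intro s hs
    refine ⟨hS hs, fun d hd _ => ?_⟩
    have := h3 ⟨s, hs⟩ d hd
    rwa [htau] at this
  have hp : IsPGroup 2 ↥(fst C (sigma D K) m fl ∅) := by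
    rintro ⟨c, hc⟩
    obtain ⟨hcC, hc'⟩ := hc
    have h4 : ∀ v, rho D K (⟨c, hcC⟩ ^ 2 ^ (m + 1)) v = v := fun v => P.pow_triv hF (c := ⟨c, hcC⟩) ⟨hcC, hc'⟩ v
    have h5 : ∀ u ∈ U, c ^ 2 ^ (m + 1) * u * (c ^ 2 ^ (m + 1))⁻¹ = u ∨
        c ^ 2 ^ (m + 1) * u * (c ^ 2 ^ (m + 1))⁻¹ = u * z := by
      intro u hu
      have h6 := h4 (w u)
      rw [rho_w D K _ hu] at h6
      have h7 := D.U_C (c ^ 2 ^ (m + 1)) (pow_mem hcC _) u hu
      exact (w_eq_iff D K h7 hu).1 h6
    have hzc : c ^ 2 ^ (m + 1) * z = z * c ^ 2 ^ (m + 1) := D.C_z _ (pow_mem hcC _)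
    have h6 : ∀ u ∈ U, c ^ 2 ^ (m + 2) * u = u * c ^ 2 ^ (m + 2) := by
      intro u hu
      have e : c ^ 2 ^ (m + 2) = c ^ 2 ^ (m + 1) * c ^ 2 ^ (m + 1) := by
        rw [← pow_add]; congr 1; ring
      rw [e]
      set d := c ^ 2 ^ (m + 1) with hd
      rcases h5 u hu with h7 | h7
      · have h8 : d * u = u * d := mul_inv_eq_iff_eq_mul.1 h7
        rw [mul_assoc, h8, ← mul_assoc, h8, mul_assoc]
      · have h8 : d * u = u * z * d := mul_inv_eq_iff_eq_mul.1 h7
        calc d * d * u = d * (d * u) := mul_assoc _ _ _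
          _ = d * (u * z * d) := by rw [h8]
          _ = (d * u) * z * d := by group
          _ = u * z * d * z * d := by rw [h8]
          _ = u * z * (d * z) * d := by group
          _ = u * z * (z * d) * d := by rw [hzc]
          _ = u * (z * z) * (d * d) := by group
          _ = u * (d * d) := by rw [D.zz, mul_one]
    obtain ⟨n, hn⟩ := hker _ (pow_mem hcC _) h6
    refine ⟨m + 2 + n, Subtype.ext ?_⟩
    show c ^ 2 ^ (m + 2 + n) = 1
    rw [pow_add, pow_mul]
    exact hn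
  exact S.is_maximal' hp hle

end action

end Cfsg.Agent.Omega.HTwo.SysSymp

end

section


/-!
# Flags of subgroups in an elementary abelian 2-group with a symplectic form

`SData C U z f` (SysSymp.lean); `Flg C U z f m X` : `X 0 = ⟨z⟩ < X 1 < ... < X m` is a maximal flag of isotropic subgroups
of `U`, `|X d| = 2 ^ (d + 1)`, `|U| = 2 ^ (2 m + 1)`.

`PPs C m X J` : the elements of `C` which normalise `X d` for all `d ≤ m`, `d ∉ J`.

* `exists_flg` : an `S`-invariant maximal flag through an `S`-invariant partial one, `S = PPs C m X ∅` (`S ≤ C` Sylow);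
* `Flg.relIndex` : `|PPs {j} : PPs ∅| = 3`; `Flg.gpp_two`, `Flg.gpp_three`, `Flg.gpp_four` : the rank two residues;
* `Flg.gen` : `C` is generated by the `PPs {j}`, `1 ≤ j ≤ m`; `Flg.card_le` : `|Q| 2 ^ (m²) ≤ |PPs ∅|`.
-/

set_option autoImplicit false

namespace Cfsg.Agent.Omega.HTwo.SysSymp

open Subgroup Module Cfsg.Agent.ParSys Cfsg.Agent.ParSys.Polar.Flags Cfsg.Agent.ParSys.Polar.Sympl
open Cfsg.Agent.ParSys.Free Cfsg.Agent.ParSys.RankTwo

universe u

variable {G : Type u} [Group G]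

/-- the elements of `C` which normalise `X d` for all `d ≤ m`, `d ∉ J` -/
def PPs (C : Subgroup G) (m : ℕ) (X : ℕ → Subgroup G) (J : Set ℕ) : Subgroup G where
  carrier := {c | c ∈ C ∧ ∀ d ≤ m, d ∉ J → c ∈ normalizer (X d : Set G)}
  one_mem' := ⟨C.one_mem, fun _ _ _ => one_mem _⟩
  mul_mem' := fun ha hb => ⟨mul_mem ha.1 hb.1, fun d hd hJ => mul_mem (ha.2 d hd hJ) (hb.2 d hd hJ)⟩
  inv_mem' := fun ha => ⟨inv_mem ha.1, fun d hd hJ => inv_mem (ha.2 d hd hJ)⟩

theorem mem_PPs {C : Subgroup G} {m : ℕ} {X : ℕ → Subgroup G} {J : Set ℕ} {c : G} :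
    c ∈ PPs C m X J ↔ c ∈ C ∧ ∀ d ≤ m, d ∉ J → c ∈ normalizer (X d : Set G) := Iff.rfl

theorem PPs_le {C : Subgroup G} {m : ℕ} {X : ℕ → Subgroup G} {J : Set ℕ} : PPs C m X J ≤ C := fun _ h => h.1

theorem PPs_mono {C : Subgroup G} {m : ℕ} {X : ℕ → Subgroup G} {J J' : Set ℕ} (h : J ⊆ J') :
    PPs C m X J ≤ PPs C m X J' := fun _ hc => ⟨hc.1, fun d hd hJ => hc.2 d hd fun h' => hJ (h h')⟩

theorem PPs_congr {C : Subgroup G} {m : ℕ} {X X' : ℕ → Subgroup G} (h : ∀ d ≤ m, X d = X' d) (J : Set ℕ) :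
    PPs C m X J = PPs C m X' J := by
  ext c
  rw [mem_PPs, mem_PPs]
  exact and_congr_right fun _ => forall_congr' fun d => forall_congr' fun hd => by rw [h d hd]

/-- a maximal flag of isotropic subgroups -/
structure Flg (U : Subgroup G) (z : G) (f : G → G → ZMod 2) (m : ℕ) (X : ℕ → Subgroup G) : Prop where
  zero : ∀ x, x ∈ X 0 ↔ x = 1 ∨ x = z
  mono : ∀ d < m, X d ≤ X (d + 1)
  le : X m ≤ U
  card : ∀ d ≤ m, Nat.card (X d) = 2 ^ (d + 1)
  iso : ∀ x ∈ X m, ∀ y ∈ X m, f x y = 0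
  card_U : Nat.card U = 2 ^ (2 * m + 1)

namespace Flg

variable {U : Subgroup G} {z : G} {f : G → G → ZMod 2} {m : ℕ} {X : ℕ → Subgroup G} (F : Flg U z f m X)
include F

theorem mono' {a b : ℕ} (hab : a ≤ b) (hb : b ≤ m) : X a ≤ X b := by
  induction b, hab using Nat.le_induction with
  | base => exact le_rfl
  | succ b hab ih => exact (ih (by omega)).trans (F.mono b (by omega))

theorem le_U {d : ℕ} (hd : d ≤ m) : X d ≤ U := (F.mono' hd le_rfl).trans F.le

theorem z_mem {d : ℕ} (hd : d ≤ m) : z ∈ X d := F.mono' (Nat.zero_le d) hd ((F.zero z).2 (Or.inr rfl))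

end Flg

section translate

variable {C U : Subgroup G} {z : G} {f : G → G → ZMod 2} (D : SData C U z f)
  {W : Type*} [AddCommGroup W] [Module (ZMod 2) W] {w : G → W} (K : Md U z w)

/-- the subgroup of a subspace -/
def sg (D : SData C U z f) (K : Md U z w) (X : Submodule (ZMod 2) W) : Subgroup G where
  carrier := {u | u ∈ U ∧ w u ∈ X}
  one_mem' := ⟨U.one_mem, by rw [K.w_one]; exact X.zero_mem⟩
  mul_mem' := fun {a b} ha hb => ⟨mul_mem ha.1 hb.1, by rw [K.mul a ha.1 b hb.1]; exact X.add_mem ha.2 hb.2⟩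
  inv_mem' := fun {a} ha => by
    have : a⁻¹ = a := by
      rw [inv_eq_iff_mul_eq_one]; exact D.U_sq a ha.1
    rw [this]; exact ha

theorem mem_sg {X : Submodule (ZMod 2) W} {u : G} : u ∈ sg D K X ↔ u ∈ U ∧ w u ∈ X := Iff.rfl

theorem sg_le {X : Submodule (ZMod 2) W} : sg D K X ≤ U := fun _ h => h.1

theorem z_mem_sg {X : Submodule (ZMod 2) W} : z ∈ sg D K X := ⟨D.z_U, by rw [K.wz]; exact X.zero_mem⟩

theorem sg_mono {X Y : Submodule (ZMod 2) W} : sg D K X ≤ sg D K Y ↔ X ≤ Y := by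
  constructor
  · intro h x hx
    obtain ⟨u, hu, rfl⟩ := K.sur x
    exact (h (⟨hu, hx⟩ : u ∈ sg D K X)).2
  · exact fun h u hu => ⟨hu.1, h hu.2⟩

theorem sm_sg {X : Submodule (ZMod 2) W} : sm D K (sg D K X) = X := by
  ext x
  constructor
  · rintro ⟨u, hu, rfl⟩
    exact hu.1.2
  · intro hx
    obtain ⟨u, hu, rfl⟩ := K.sur x
    exact ⟨u, ⟨⟨hu, hx⟩, hu⟩, rfl⟩

theorem sg_sm {A : Subgroup G} (hz : z ∈ A) (hA : A ≤ U) : sg D K (sm D K A) = A := by
  ext u
  rw [mem_sg]
  exact ⟨fun h => (w_mem_sm D K hz h.1).1 h.2, fun h => ⟨hA h, (w_mem_sm D K hz (hA h)).2 h⟩⟩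

/-- `|sg X| = 2 |X|` -/
theorem card_sg [Finite G] [Finite W] (hz1 : z ≠ 1) (X : Submodule (ZMod 2) W) :
    Nat.card (sg D K X) = 2 ^ (finrank (ZMod 2) X + 1) := by
  have hfd : FiniteDimensional (ZMod 2) W := Module.Finite.of_finite
  let φ : ↥(sg D K X) →* Multiplicative ↥X :=
    { toFun := fun u => Multiplicative.ofAdd ⟨w u, u.2.2⟩
      map_one' := by
        have : (⟨w ((1 : ↥(sg D K X)) : G), (1 : ↥(sg D K X)).2.2⟩ : ↥X) = 0 := Subtype.ext K.w_one
        rw [this]; rfl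
      map_mul' := fun a b => by
        have : (⟨w ((a * b : ↥(sg D K X)) : G), (a * b : ↥(sg D K X)).2.2⟩ : ↥X) =
            ⟨w (a : G), a.2.2⟩ + ⟨w (b : G), b.2.2⟩ := Subtype.ext (K.mul a a.2.1 b b.2.1)
        rw [this]; rfl }
  have hs : Function.Surjective φ := by
    intro y
    obtain ⟨u, hu, h⟩ := K.sur ((Multiplicative.toAdd y : ↥X) : W)
    refine ⟨⟨u, hu, by rw [h]; exact (Multiplicative.toAdd y).2⟩, ?_⟩
    show Multiplicative.ofAdd _ = y
    have : (⟨w u, by rw [h]; exact (Multiplicative.toAdd y).2⟩ : ↥X) = Multiplicative.toAdd y := Subtype.ext h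
    rw [this]; rfl
  have hk : Nat.card φ.ker = 2 := by
    rw [Nat.card_eq_two_iff]
    have h1 : ∀ x : ↥(sg D K X), x ∈ φ.ker ↔ (x : G) = 1 ∨ (x : G) = z := by
      intro x
      rw [MonoidHom.mem_ker]
      constructor
      · intro h
        have h2 : (⟨w (x : G), x.2.2⟩ : ↥X) = 0 := h
        exact K.ker x x.2.1 (congrArg Subtype.val h2)
      · intro h
        have h2 : (⟨w (x : G), x.2.2⟩ : ↥X) = 0 := by
          apply Subtype.ext
          show w (x : G) = 0
          rcases h with h | h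
          · rw [h, K.w_one]
          · rw [h, K.wz]
        show Multiplicative.ofAdd _ = _
        rw [h2]; rfl
    refine ⟨1, ⟨⟨z, z_mem_sg D K⟩, (h1 _).2 (Or.inr rfl)⟩, ?_, ?_⟩
    · intro h
      have h2 := congrArg (fun x : φ.ker => ((x : ↥(sg D K X)) : G)) h
      exact hz1 h2.symm
    · ext x
      simp only [Set.mem_insert_iff, Set.mem_singleton_iff, Set.mem_univ, iff_true]
      rcases (h1 x).1 x.2 with h | h
      · left; exact Subtype.ext (Subtype.ext h)
      · right; exact Subtype.ext (Subtype.ext h)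
  have h1 := Subgroup.card_eq_card_quotient_mul_card_subgroup φ.ker
  rw [Nat.card_congr (QuotientGroup.quotientKerEquivOfSurjective φ hs).toEquiv, hk] at h1
  rw [h1, pow_succ]
  congr 1
  have h2 : Nat.card (Multiplicative ↥X) = Nat.card ↥X := rfl
  rw [h2, Module.natCard_eq_pow_finrank (K := ZMod 2), Nat.card_eq_fintype_card, ZMod.card]

/-- `c` fixes the subspace iff it normalises the subgroup -/
theorem sigma_sm [Finite W] {A : Subgroup G} (hz : z ∈ A) (hA : A ≤ U) (c : ↥C) :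
    sigma D K c (sm D K A) = sm D K A ↔ (c : G) ∈ normalizer (A : Set G) := by
  have key : ∀ c : ↥C, sigma D K c (sm D K A) = sm D K A ↔ ∀ u ∈ A, (c : G) * u * (c : G)⁻¹ ∈ A := by
    intro c
    rw [sigma_eq_iff]
    constructor
    · intro h u hu
      exact (w_mem_sm D K hz (D.U_C c c.2 u (hA hu))).1 (h u (hA hu) ((w_mem_sm D K hz (hA hu)).2 hu))
    · intro h u hu hA'
      exact (w_mem_sm D K hz (D.U_C c c.2 u hu)).2 (h u ((w_mem_sm D K hz hu).1 hA'))
  constructor
  · intro h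
    have h1 := (key c).1 h
    have h2 : sigma D K c⁻¹ (sm D K A) = sm D K A := by
      rw [map_inv, Equiv.Perm.inv_eq_iff_eq]; exact h.symm
    have h3 := (key c⁻¹).1 h2
    rw [Subgroup.mem_normalizer_iff]
    intro u
    constructor
    · exact h1 u
    · intro hu
      have h4 := h3 _ hu
      have e : ((c⁻¹ : ↥C) : G) * ((c : G) * u * (c : G)⁻¹) * ((c⁻¹ : ↥C) : G)⁻¹ = u := by
        rw [Subgroup.coe_inv]; group
      rwa [e] at h4
  · intro h
    rw [key]
    exact fun u hu => (Subgroup.mem_normalizer_iff.1 h u).1 hu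

/-- the polar space structure of a flag -/
theorem pol [Finite G] [Finite W] (hz1 : z ≠ 1) {m : ℕ} {X : ℕ → Subgroup G} (F : Flg U z f m X) :
    Pol C (gf K f) (rho D K) (sigma D K) m (fun d => sm D K (X d)) := by
  have hfd : FiniteDimensional (ZMod 2) W := Module.Finite.of_finite
  have hcard : ∀ A : Subgroup G, z ∈ A → A ≤ U → ∀ n, Nat.card A = 2 ^ (n + 1) → finrank (ZMod 2) (sm D K A) = n := by
    intro A hz hA n hn
    have h1 := card_sg D K hz1 (sm D K A)
    rw [sg_sm D K hz hA, hn] at h1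
    have := Nat.pow_right_injective (le_refl 2) h1
    omega
  have hTI : ∀ A : Subgroup G, A ≤ U → (∀ x ∈ A, ∀ y ∈ A, f x y = 0) → TI (gf K f) (sm D K A) := by
    rintro A hA h _ ⟨u, hu, rfl⟩ _ ⟨v, hv, rfl⟩
    rw [gf_w D K hu.2 hv.2]
    exact h u hu.1 v hv.1
  have hfl : Fl (TI (gf K f)) m (fun d => sm D K (X d)) := by
    refine ⟨fun d hd => ?_, fun d hd => hcard _ (F.z_mem hd) (F.le_U hd) _ (F.card d hd), hTI _ F.le F.iso⟩
    rintro _ ⟨u, hu, rfl⟩
    exact ⟨u, ⟨F.mono d hd hu.1, hu.2⟩, rfl⟩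
  obtain ⟨m', hm'⟩ := (symp D K).exists_witt
  have h1 := (symp D K).finrank_eq hm'
  have h2 : Nat.card U = 2 ^ (finrank (ZMod 2) W + 1) := by
    have h3 := card_sg D K hz1 (⊤ : Submodule (ZMod 2) W)
    have h4 : sg D K (⊤ : Submodule (ZMod 2) W) = U := by
      ext u; rw [mem_sg]; simp
    rw [h4, finrank_top] at h3
    exact h3
  rw [F.card_U] at h2
  have h3 := Nat.pow_right_injective (le_refl 2) h2
  obtain rfl : m' = m := by omega
  exact ⟨symp D K, sact D K, hm', hfl⟩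

theorem fst_eq [Finite W] {m : ℕ} {X : ℕ → Subgroup G} (F : Flg U z f m X) (J : Set ℕ) :
    fst C (sigma D K) m (fun d => sm D K (X d)) J = PPs C m X J := by
  ext c
  rw [mem_PPs, mem_fst]
  constructor
  · rintro ⟨hc, h⟩
    exact ⟨hc, fun d hd hJ => (sigma_sm D K (F.z_mem hd) (F.le_U hd) ⟨c, hc⟩).1 (h d hd hJ)⟩
  · rintro ⟨hc, h⟩
    exact ⟨hc, fun d hd hJ => (sigma_sm D K (F.z_mem hd) (F.le_U hd) ⟨c, hc⟩).2 (h d hd hJ)⟩

end translate

/-! ### The flag stabilisers -/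

section flag

variable [Finite G] {C U : Subgroup G} {z : G} {f : G → G → ZMod 2} (D : SData C U z f) (hz1 : z ≠ 1)
  {m : ℕ} {X : ℕ → Subgroup G}

theorem card_zmod_two : Nat.card (ZMod 2) = 2 := by rw [Nat.card_eq_fintype_card, ZMod.card]

include D hz1

namespace Flg

variable (F : Flg U z f m X)
include F

/-- **every panel has three chambers** -/
theorem relIndex {j : ℕ} (hj1 : 1 ≤ j) (hj : j ≤ m) : (PPs C m X ∅).relIndex (PPs C m X {j}) = 3 := by
  obtain ⟨W, _, _, w, K, hW⟩ := exists_md D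
  have := hW inferInstance
  have hfd : FiniteDimensional (ZMod 2) W := Module.Finite.of_finite
  rw [← fst_eq D K F, ← fst_eq D K F, (pol D K hz1 F).relIndex hj1 hj, card_zmod_two]

/-- **`C` is generated by the panel stabilisers** -/
theorem gen (hm1 : 1 ≤ m) {N : Subgroup G} (hN : ∀ j, 1 ≤ j → j ≤ m → PPs C m X {j} ≤ N) : C ≤ N := by
  obtain ⟨W, _, _, w, K, hW⟩ := exists_md D
  have := hW inferInstance
  have hfd : FiniteDimensional (ZMod 2) W := Module.Finite.of_finite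
  exact (pol D K hz1 F).gen hm1 fun j h1 h2 => by rw [fst_eq D K F]; exact hN j h1 h2

/-- **the order of the chamber stabiliser** -/
theorem card_le {Q : Subgroup G} (hQC : Q ≤ C)
    (hQ : ∀ x ∈ Q, ∀ u ∈ U, x * u * x⁻¹ = u ∨ x * u * x⁻¹ = u * z) :
    Nat.card Q * 2 ^ (m ^ 2) ≤ Nat.card (PPs C m X ∅) := by
  obtain ⟨W, _, _, w, K, hW⟩ := exists_md D
  have := hW inferInstance
  have hfd : FiniteDimensional (ZMod 2) W := Module.Finite.of_finite
  have h1 := (pol D K hz1 F).card_le hQC (fun x hx v => by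
    obtain ⟨u, hu, rfl⟩ := K.sur v
    rw [rho_w D K _ hu]
    exact (w_eq_iff D K (D.U_C x (hQC hx) u hu) hu).2 (hQ x hx u hu))
  rwa [fst_eq D K F, card_zmod_two] at h1

/-- **the chamber stabiliser is self-normalising** -/
theorem self_norm {x : G} (hx : x ∈ C) (h : ∀ b ∈ PPs C m X ∅, x⁻¹ * b * x ∈ PPs C m X ∅) :
    x ∈ PPs C m X ∅ := by
  obtain ⟨W, _, _, w, K, hW⟩ := exists_md D
  have := hW inferInstance
  have hfd : FiniteDimensional (ZMod 2) W := Module.Finite.of_finite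
  rw [← fst_eq D K F] at h ⊢
  exact (pol D K hz1 F).self_norm hx h

section res

variable {I : Type*} {P : I → Subgroup G} {a b : I} {i j : ℕ} (hB : ∀ k, PPs C m X ∅ ≤ P k)
  (ha : P a = PPs C m X {i}) (hb : P b = PPs C m X {j})
include hB ha hb

theorem gpp_two (hij : i + 1 < j) (hj : j ≤ m) :
    GPp (PPs C m X ∅) P a b 2 ∧ GPp (PPs C m X ∅) P b a 2 := by
  obtain ⟨W, _, _, w, K, hW⟩ := exists_md D
  have := hW inferInstance
  have hfd : FiniteDimensional (ZMod 2) W := Module.Finite.of_finite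
  rw [← fst_eq D K F] at hB ha hb ⊢
  exact (pol D K hz1 F).rk_two hB ha hb hij hj

theorem gpp_three (hi : 1 ≤ i) (hij : i + 1 = j) (hj : j < m) :
    GPp (PPs C m X ∅) P a b 3 ∧ GPp (PPs C m X ∅) P b a 3 := by
  obtain ⟨W, _, _, w, K, hW⟩ := exists_md D
  have := hW inferInstance
  have hfd : FiniteDimensional (ZMod 2) W := Module.Finite.of_finite
  rw [← fst_eq D K F] at hB ha hb ⊢
  exact (pol D K hz1 F).rk_three hB ha hb hi hij hj

theorem gpp_four (hi : 1 ≤ i) (hij : i + 1 = j) (hj : j = m) :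
    GPp (PPs C m X ∅) P a b 4 ∧ GPp (PPs C m X ∅) P b a 4 := by
  obtain ⟨W, _, _, w, K, hW⟩ := exists_md D
  have := hW inferInstance
  have hfd : FiniteDimensional (ZMod 2) W := Module.Finite.of_finite
  rw [← fst_eq D K F] at hB ha hb ⊢
  exact (pol D K hz1 F).rk_four hB ha hb hi hij hj

end res

end Flg

/-- **a Sylow 2-subgroup of `C` is the stabiliser of a maximal flag** through a given `S`-invariant partial flag
`X 0 = ⟨z⟩ < X 1 < ... < X k` -/
theorem exists_flg (S : Sylow 2 G) (hS : (S : Subgroup G) ≤ C)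
    (hker : ∀ c ∈ C, (∀ u ∈ U, c * u = u * c) → ∃ n, c ^ 2 ^ n = 1) {k : ℕ} {Y : ℕ → Subgroup G}
    (h0 : ∀ x, x ∈ Y 0 ↔ x = 1 ∨ x = z) (hmono : ∀ d < k, Y d ≤ Y (d + 1)) (hU : Y k ≤ U)
    (hcard : ∀ d ≤ k, Nat.card (Y d) = 2 ^ (d + 1)) (hiso : ∀ x ∈ Y k, ∀ y ∈ Y k, f x y = 0)
    (hinv : ∀ d ≤ k, (S : Subgroup G) ≤ normalizer (Y d : Set G)) :
    ∃ (m : ℕ) (X : ℕ → Subgroup G), k ≤ m ∧ Flg U z f m X ∧ (∀ d ≤ k, X d = Y d) ∧
      PPs C m X ∅ = (S : Subgroup G) := by
  obtain ⟨W, _, _, w, K, hW⟩ := exists_md D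
  have := hW inferInstance
  have hfd : FiniteDimensional (ZMod 2) W := Module.Finite.of_finite
  have hY : ∀ d ≤ k, Y d ≤ Y k := by
    intro d hd
    have key : ∀ b, d ≤ b → b ≤ k → Y d ≤ Y b := by
      intro b hb
      induction b, hb using Nat.le_induction with
      | base => exact fun _ => le_rfl
      | succ b hab ih => exact fun h => (ih (by omega)).trans (hmono b (by omega))
    exact key k hd le_rfl
  have hz : ∀ d ≤ k, z ∈ Y d := by
    intro d hd
    have key : ∀ b, b ≤ k → Y 0 ≤ Y b := by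
      intro b
      induction b with
      | zero => exact fun _ => le_rfl
      | succ b ih => exact fun h => (ih (by omega)).trans (hmono b (by omega))
    exact key d hd ((h0 z).2 (Or.inr rfl))
  have hfl : Fl (TI (gf K f)) k (fun d => sm D K (Y d)) := by
    refine ⟨fun d hd => ?_, fun d hd => ?_, ?_⟩
    · rintro _ ⟨u, hu, rfl⟩
      exact ⟨u, ⟨hmono d hd hu.1, hu.2⟩, rfl⟩
    · have h1 := card_sg D K hz1 (sm D K (Y d))
      rw [sg_sm D K (hz d hd) ((hY d hd).trans hU), hcard d hd] at h1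
      have := Nat.pow_right_injective (le_refl 2) h1
      omega
    · rintro _ ⟨u, hu, rfl⟩ _ ⟨v, hv, rfl⟩
      rw [gf_w D K hu.2 hv.2]
      exact hiso u hu.1 v hv.1
  obtain ⟨m, fl, hkm, P, h1, h2⟩ := exists_pol D K S hS hker hfl (fun s hs d hd u hu hw => by
    have h3 : u ∈ Y d := (w_mem_sm D K (hz d hd) hu).1 hw
    exact (w_mem_sm D K (hz d hd) (D.U_C s (hS hs) u hu)).2 ((Subgroup.mem_normalizer_iff.1 (hinv d hd hs) u).1 h3))
  have hF : Flg U z f m (fun d => sg D K (fl d)) := by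
    refine ⟨fun x => ?_, fun d hd => (sg_mono D K).2 (P.hf.mono d hd), sg_le D K, fun d hd => ?_, ?_, ?_⟩
    · rw [mem_sg, P.hf.zero, Submodule.mem_bot]
      constructor
      · rintro ⟨hx, h3⟩
        exact K.ker x hx h3
      · rintro (rfl | rfl)
        · exact ⟨U.one_mem, K.w_one⟩
        · exact ⟨D.z_U, K.wz⟩
    · rw [card_sg D K hz1, P.hf.rk d hd]
    · intro x hx y hy
      rw [← gf_w D K hx.1 hy.1]
      exact P.hf.sing _ hx.2 _ hy.2
    · have h3 := card_sg D K hz1 (⊤ : Submodule (ZMod 2) W)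
      have h4 : sg D K (⊤ : Submodule (ZMod 2) W) = U := by
        ext u; rw [mem_sg]; simp
      rw [h4, finrank_top, P.H.finrank_eq P.hm] at h3
      exact h3
  refine ⟨m, fun d => sg D K (fl d), hkm, hF, fun d hd => ?_, ?_⟩
  · show sg D K (fl d) = Y d
    rw [h1 d hd, sg_sm D K (hz d hd) ((hY d hd).trans hU)]
  · rw [← h2, ← fst_eq D K hF]
    congr 1
    funext d
    exact sm_sg D K

end flag

end Cfsg.Agent.Omega.HTwo.SysSymp

end
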