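import Cfsg.Agent.Mrg.Omega.HOne.Cut
import Cfsg.Agent.Mrg.Omega.HOne.TvE2
import Cfsg.Agent.Mrg.Omega.HOne.Tv
import Cfsg.Agent.Mrg.Omega.HOne.JunE
import Cfsg.Agent.Mrg.Omega.HTwo.EntryTv
import Cfsg.Agent.Mrg.Omega.BTwo.RadQ
import Cfsg.Agent.Mrg.Omega.BTwo.Split

section


/-!
# II.0h1, `q = 2`: the transvection statement in the position `Pos` (`HOne.Cut.TS0`)

* `g1` : `C_S(Q₁/Z₁) = Q₁`, the input (G1) of `TvE2.eleven` (THEOREM D (iii));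
* `jend` : `Tv.main` for `M = ME V R o E`;
* `hA`, `c_eq` : the BS-trick: the constant `c` is the only involution of `E`;
* `jend_z` : case (alpha)₀; `jend_Z` : case not (alpha)₀;
* `ts0 : TS0`, `stTS : StTS K`.
-/

set_option autoImplicit false
set_option linter.unusedSectionVars false

namespace Cfsg.Agent.Omega.HTwo.TSMain

open Subgroup Cfsg Cfsg.Agent.ZN Cfsg.Agent.Omega.BTwo Cfsg.Agent.Omega.HOneTwo
open Cfsg.Agent.Omega.HTwo.Hat Cfsg.Agent.Omega.HTwo.ThmA Cfsg.Agent.Omega.MinPar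
open Cfsg.Agent.Omega.HOne.TvDef Cfsg.Agent.Omega.HTwo.EntryTv
open Cfsg.Agent.Omega.HTwo.AlphaP (MP)
open Cfsg.Agent.Omega.HTwo.Entry (Pos)
open Cfsg.Agent.Omega.HOne.Cut (TSz TS0)
open Cfsg.Agent.Omega.HOneTwo.Trans (gn gen gn_eq_UU)

universe u v

section main

variable {G : Type u} [Group G] [Finite G] {ι : Type*} {S : Sylow 2 G} {P V : Subgroup G}
  {R : ι → Subgroup G} {o : ι} (b : HT S P V R o) {r : G} (hr : ∀ x, x ∈ R o ↔ x = 1 ∨ x = r) (hr1 : r ≠ 1)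
  {E : Subgroup G} (hE : E ≤ zc (S : Subgroup G) ⊓ centralizer (P : Set G)) (hE1 : E ≠ ⊥)
  {j : ι} (hj : j ≠ o) {t : G} (ht : ∀ x, x ∈ R j ↔ x = 1 ∨ x = t) (ht1 : t ≠ 1)

include b

/-- `C(Q i) ≤ Q i` -/
theorem cen_Q_le (i : ι) : centralizer (QQ (R i) : Set G) ≤ QQ (R i) := by
  intro x hx
  refine b.cenQ i (mem_inf.2 ⟨?_, hx⟩)
  exact centralizer_le_normalizer _ (centralizer_le ((b.R_le i).trans (b.V_Q i)) hx)

include hr hj ht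

/-- **(G1)** -/
theorem g1 : HOne.TvE2.G1 (ME V R o E) r t QF := by
  intro n _ hnt hq
  have hnt' : n ∈ centralizer (QQ (R j) : Set G) := by
    have h1 : n ∈ centralizer (QF t : Set G) := hnt
    rwa [QF_eq b ht] at h1
  have hn : n ∈ ZQ R j := ⟨cen_Q_le b j hnt', hnt'⟩
  have hc : ∀ x ∈ QQ (R o), n * x * n⁻¹ * x⁻¹ ∈ ZQ R o := by
    intro x hx
    have h1 : x * n * x⁻¹ * n⁻¹ ∈ centralizer (QF r : Set G) := hq x (by rw [QF_eq b hr]; exact hx)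
    rw [QF_eq b hr] at h1
    have h2 : n * x * n⁻¹ * x⁻¹ ∈ centralizer (QQ (R o) : Set G) := by
      have := inv_mem h1
      have e : (x * n * x⁻¹ * n⁻¹)⁻¹ = n * x * n⁻¹ * x⁻¹ := by group
      rwa [e] at this
    exact ⟨cen_Q_le b o h2, h2⟩
  obtain ⟨a, ha, h3⟩ := ThmD.D1 b.toBTS (Alpha.HT.le_all b) (fun x hx => (hr x).1 hx) S b.S_V b.S_R hj hn hc
  have h4 : a * n ∈ QQ (R o) := ZQ_le o (cenX_le_ZQ b.toBTS (Alpha.HT.le_all b) o h3)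
  rw [QF_eq b hr]
  have h5 := mul_mem (inv_mem (b.V_Q o (b.R_le j ha))) h4
  rwa [inv_mul_cancel_left] at h5

include hr1 hE hE1 ht1

/-- `Tv.main` for `M = ME V R o E` -/
theorem jend (hbeta : ∃ u ∈ UU (ME V R o E) r, u ∉ QF r)
    (hpar : ∀ x y, Adj (ME V R o E) r t r x → Adj (ME V R o E) r t r y → x * y ∈ ZC QF r → y = x ∨ y = r * x) :
    ∃ c, JConst (ME V R o E) r t QF (NF r E) c ∧ JEnd (ME V R o E) r QF (NF r E) c := by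
  have h := tvH b hr hr1 hE hE1 hj ht ht1 hbeta hpar
  exact HOne.Tv.main h (tvS b hr hr1 hE hE1 hj ht ht1) (HOne.TvE2.eleven h (g1 b hr hj ht))

omit ht1 hj ht in
/-- the 2-local subgroups over `M` -/
theorem hA (f : G) (hf1 : f ≠ 1) (hff : f * f = 1) (hfM : ∀ m ∈ ME V R o E, m * f = f * m) :
    ∃ A : Subgroup G, IsPGroup 2 A ∧ UU (ME V R o E) r ≤ A ∧ centralizer ({f} : Set G) ≤ normalizer (A : Set G) := by
  have hff' : f ^ 2 = 1 := by rw [pow_two, hff]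
  have hfS : ∀ s ∈ (S : Subgroup G), s * f = f * s := fun s hs => hfM s (S_le_ME b hE hs)
  have hfmem : f ∈ (S : Subgroup G) := by
    have h1 : zpowers f ≤ (S : Subgroup G) := by
      refine le_of_le_normalizer S (MinSimple.Basic.isPGroup_zpowers hff') ?_
      rw [MinSimple.Basic.normalizer_zpowers_eq hff']
      intro s hs
      rw [mem_centralizer_singleton_iff]
      exact hfS s hs
    exact h1 (mem_zpowers f)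
  have hfz : f ∈ zc (S : Subgroup G) ⊓ centralizer (P : Set G) := by
    rw [b.cz_eq]
    refine mem_inf.2 ⟨mem_zc.2 ⟨hfmem, hfS, hff'⟩, ?_⟩
    rw [mem_centralizer_iff]
    exact fun x hx => hfM x (X_le_ME b hx)
  have d := b.dt hfz hf1
  refine ⟨UM V (centralizer ({f} : Set G)), ?_, ?_, le_normalizer_cl V _⟩
  · rintro ⟨x, hx⟩
    refine ⟨1, Subtype.ext ?_⟩
    show x ^ 2 ^ 1 = 1
    rw [pow_one, pow_two]
    exact d.U_sq hx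
  · rw [UU_eq b hr hr1 hE (X_le_ME b)]
    refine cl_le (le_cl _ _) ?_
    refine le_trans ?_ (le_normalizer_cl V _)
    intro m hm
    rw [mem_centralizer_singleton_iff]
    exact hfM m hm

/-- **the BS-trick** : `c` is the only involution of `E` -/
theorem c_eq (hbeta : ∃ u ∈ UU (ME V R o E) r, u ∉ QF r)
    (hpar : ∀ x y, Adj (ME V R o E) r t r x → Adj (ME V R o E) r t r y → x * y ∈ ZC QF r → y = x ∨ y = r * x) {c : G}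
    (hC : JConst (ME V R o E) r t QF (NF r E) c) (hJ : JEnd (ME V R o E) r QF (NF r E) c) {z : G} (hz : z ∈ E)
    (hz1 : z ≠ 1) : c = z := by
  have h := tvH b hr hr1 hE hE1 hj ht ht1 hbeta hpar
  refine HOne.JunE.c_eq_z h rfl (NF_base hz) ?_ hz1 ?_ (hA b hr hr1 hE hE1) hC hJ
  · rw [← pow_two]; exact (mem_zc.1 (hE hz).1).2.2
  · exact fun m hm => (mem_centralizer_iff.1 (ME_le_cen b hE hm) z hz).symm

omit hE hE1

/-- case (alpha)₀ -/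
theorem jend_z {z₀ : G} (hz₀ : z₀ ∈ zc (S : Subgroup G) ⊓ centralizer (P : Set G)) (hz₀1 : z₀ ≠ 1)
    (hα : UM V (HOne.JunAB.MZ S V R) ≤ QQ (R o)) :
    ∃ z ∈ zc (S : Subgroup G) ⊓ centralizer (P : Set G), z ≠ 1 ∧
      JEnd (ME V R o (zpowers z)) r QF (NF r (zpowers z)) z := by
  obtain ⟨z, hz, hz1, H⟩ := HOne.JunAB.exists_z b hz₀ hz₀1 hα
  have hEz := zpowers_le_cz hz
  have hE1 : zpowers z ≠ ⊥ := fun h => hz1 (zpowers_eq_bot.1 h)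
  have hMz : ME V R o (zpowers z) ≤ centralizer ({z} : Set G) := by
    intro m hm
    rw [mem_centralizer_singleton_iff]
    exact M_z b hz hm
  have hbeta := beta_z b hr hr1 hz hz1
  have hpar := HOne.JunAB.noPar b hr (M := ME V R o (zpowers z)) hMz H hj ((ht t).2 (Or.inr rfl)) ht1
    (Q := QF) (QF_eq b hr)
  obtain ⟨c, hC, hJ⟩ := jend b hr hr1 hEz hE1 hj ht ht1 hbeta hpar
  have hc := c_eq b hr hr1 hEz hE1 hj ht ht1 hbeta hpar hC hJ (mem_zpowers z) hz1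
  rw [hc] at hJ
  exact ⟨z, hz, hz1, hJ⟩

/-- case not (alpha)₀ -/
theorem jend_Z {z : G} (hz : z ∈ zc (S : Subgroup G) ⊓ centralizer (P : Set G)) (hz1 : z ≠ 1)
    (hα : ¬ UM V (HOne.JunAB.MZ S V R) ≤ QQ (R o)) :
    JEnd (ME V R o (zpowers z)) r QF (NF r (zpowers z)) z := by
  set E := zc (S : Subgroup G) ⊓ centralizer (P : Set G) with hEdef
  have hE1 : E ≠ ⊥ := fun h => hz1 (by rw [h] at hz; exact mem_bot.1 hz)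
  have hMZ : ME V R o E = HOne.JunAB.MZ S V R := ME_MZ b
  have hbeta : ∃ u ∈ UU (ME V R o E) r, u ∉ QF r := beta_of b hr hr1 le_rfl (by rw [hMZ]; exact hα)
  have hpar := HOne.JunAB.noPar' b hr (M := ME V R o E)
    (by rw [hMZ]; exact HOne.JunAB.norm_of_par_MZ b hr hz hz1) hj ((ht t).2 (Or.inr rfl)) ht1
    (Q := QF) (QF_eq b hr)
  obtain ⟨c, hC, hJ⟩ := jend b hr hr1 le_rfl hE1 hj ht ht1 hbeta hpar
  have hc : ∀ y ∈ E, y ≠ 1 → c = y := fun y hy hy1 =>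
    c_eq b hr hr1 le_rfl hE1 hj ht ht1 hbeta hpar hC hJ hy hy1
  have hEz : E = zpowers z := by
    apply le_antisymm
    · intro y hy
      by_cases hy1 : y = 1
      · rw [hy1]; exact one_mem _
      · rw [← hc y hy hy1, hc z hz hz1]; exact mem_zpowers z
    · rwa [zpowers_le]
  rw [hc z hz hz1, ← hEdef, hEz] at hJ
  exact hJ

omit hr1 hj ht ht1 in
/-- `TSz` from `JEnd` with the constant `z` -/
theorem tsz {z : G} (hz : z ∈ zc (S : Subgroup G) ⊓ centralizer (P : Set G)) (hz1 : z ≠ 1) (hrr : r * r = 1)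
    (hr1 : r ≠ 1) (hJ : JEnd (ME V R o (zpowers z)) r QF (NF r (zpowers z)) z) : TSz V R o r z := by
  obtain ⟨h1, h2, -⟩ := hJ
  have hzz : z * z = 1 := by rw [← pow_two]; exact (mem_zc.1 hz.1).2.2
  have hzr : z * r = r * z := by
    have h3 : r ∈ (S : Subgroup G) := b.V_le_S (b.R_le o ((hr r).2 (Or.inr rfl)))
    exact ((mem_zc.1 hz.1).2.1 r h3).symm
  rw [NF_gen] at h1
  rw [QF_eq b hr] at h2
  have hU : gn (MP V R o z) r = UU (ME V R o (zpowers z)) r := by rw [gn_eq_UU, ME_z]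
  refine ⟨?_, ?_, ?_⟩
  · intro u hu u' hu' h3 h4
    rw [hU] at hu hu'
    exact h2 u hu u' hu' h3 h4
  · intro u hu n hn
    rw [hU] at hu
    rcases h1 u hu n hn with h3 | h3
    · left
      calc n * u = (u * n * u⁻¹ * n⁻¹)⁻¹ * (u * n) := by group
        _ = u * n := by rw [h3]; group
    · right
      calc n * u = (u * n * u⁻¹ * n⁻¹)⁻¹ * (u * n) := by group
        _ = (r * z)⁻¹ * (u * n) := by rw [h3]
        _ = z * r * (u * n) := by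
            rw [mul_inv_rev, inv_eq_of_mul_eq_one_left hzz, inv_eq_of_mul_eq_one_left hrr]
  · obtain ⟨u, hu, huQ⟩ := beta_z b hr hr1 hz hz1
    obtain ⟨n, hn, hne⟩ : ∃ n ∈ NF r (zpowers z) r, u * n ≠ n * u := by
      by_contra hcon
      push Not at hcon
      apply huQ
      rw [QF_eq b hr]
      exact UN b hr hr1 (zpowers_le_cz hz) (fun h => hz1 (zpowers_eq_bot.1 h)) hu hcon
    refine ⟨u, ?_, n, ?_, fun h3 => hne h3.symm⟩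
    · rw [hU]; exact hu
    · rw [← NF_gen]; exact hn

end main

/-- **THE TRANSVECTION STATEMENT in the position `Pos`** -/
theorem ts0 : TS0.{u, v} := by
  intro G _ _ S P V ι R o r z p
  have b := p.toHT
  obtain ⟨j, -, hj, -, -⟩ := b.one_lt
  obtain ⟨t, ht1, -, ht⟩ := b.exists_gen j
  have key : ∃ z' ∈ zc (S : Subgroup G) ⊓ centralizer (P : Set G), z' ≠ 1 ∧
      JEnd (ME V R o (zpowers z')) r QF (NF r (zpowers z')) z' := by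
    by_cases hα : UM V (HOne.JunAB.MZ S V R) ≤ QQ (R o)
    · exact jend_z b p.r_iff p.r_ne hj ht ht1 p.z_mem p.z_ne hα
    · exact ⟨z, p.z_mem, p.z_ne, jend_Z b p.r_iff p.r_ne hj ht ht1 p.z_mem p.z_ne hα⟩
  obtain ⟨z', hz', hz1', hJ⟩ := key
  exact ⟨z', { p with z_mem := hz', z_ne := hz1' }, tsz b p.r_iff hz' hz1' p.r_sq p.r_ne hJ⟩

/-- the statement `StTS` of the cut -/
theorem stTS (K : Frame.Cls.{u}) : HOne.Cut.StTS K :=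
  fun G _ _ _ _ S _ _ _ _ P V ι R o r z p _ _ => ts0 G S P V ι R o r z p

end Cfsg.Agent.Omega.HTwo.TSMain

end

section


/-!
# II.0h1, `q = 2`: HATS (#13303 (2)), part 2: `d_n`, `c_n`, Siegel elements

`ζ i = Z(Q i)`, `J = Q i ∩ Q j = CC R`, `E i = C_{Q i}(V)`, `C_X = C(X)`.  A triple `Tri R i j k n₁ n₂ n₃`
is `n₁ ∈ ζ i`, `n₂ ∈ ζ j`, `n₃ ∈ ζ k` with `d := n₁ n₂ n₃ ∈ J` (the `X`-conjugates of `n₁`, well defined
modulo `R × C_X`).  Results: `exists_tri`, uniqueness, symmetry (`rot`, `swap`, `conj`), the members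
commute, `d ↦` functional (`pair`), `n₂` acts on `Q i / ζ i` as the Siegel element with line
`⟨V, d⟩` (`siegel`, `siegel_E`, `siegel_quad`), `d` is multiplicative (`mul`, `d_mul`).
-/

set_option autoImplicit false

namespace Cfsg.Agent.Omega.HTwo.HatD

open Subgroup Cfsg.Agent.Omega.BTwo Cfsg.Agent.Omega.HTwo.Par Cfsg.Agent.Omega.HTwo.ThmA
open Cfsg.Agent.Omega.HTwo.Hat

variable {G : Type*} [Group G] {ι : Type*} {V : Subgroup G} {R : ι → Subgroup G}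

/-- `n₁ ∈ ζ i`, `n₂ ∈ ζ j`, `n₃ ∈ ζ k` correspond to each other under `X`: `d = n₁ n₂ n₃ ∈ J` -/
structure Tri (R : ι → Subgroup G) (i j k : ι) (n₁ n₂ n₃ : G) : Prop where
  one : n₁ ∈ ZQ R i
  two : n₂ ∈ ZQ R j
  three : n₃ ∈ ZQ R k
  mem : n₁ * n₂ * n₃ ∈ CC R

section

variable (b : BTS V R)
include b

theorem ZQ_cenV {i : ι} {n : G} (hn : n ∈ ZQ R i) : n ∈ centralizer (V : Set G) := (ZQ_le_EE b.toBT i hn).2

theorem ZQ_N {i : ι} (j : ι) {n : G} (hn : n ∈ ZQ R i) : n ∈ normalizer (R j : Set G) :=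
  b.cen_le_N j (ZQ_cenV b hn)

/-- `n ∈ ζ i` commutes with `V` -/
theorem ZQ_V {i : ι} {n v : G} (hn : n ∈ ZQ R i) (hv : v ∈ V) : n * v = v * n :=
  (mem_centralizer_iff.1 (ZQ_cenV b hn) v hv).symm

/-- `n ∈ ζ i` commutes with `C_X` -/
theorem ZQ_C [Finite G] (h : ∀ i, LE V R i) {i : ι} {n c : G} (hn : n ∈ ZQ R i) (hc : c ∈ CenX V R) :
    n * c = c * n := (cenX_Q b (h i) hc hn.1).symm

/-- `[ζ i, ζ j] ≤ C_X` -/
theorem ZQ_ZQ [Finite G] {i j : ι} {n m : G} (hn : n ∈ ZQ R i) (hm : m ∈ ZQ R j) :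
    n * m * n⁻¹ * m⁻¹ ∈ CenX V R := by
  by_cases hij : i = j
  · subst hij
    have e : n * m = m * n := mem_centralizer_iff.1 hm.2 n hn.1
    rw [e]
    have : m * n * n⁻¹ * m⁻¹ = 1 := by group
    rw [this]
    exact one_mem _
  · exact Comm.cen_cen b.toBT hij (ZQ_le_cenW b.toBT i hn) (ZQ_le_cenW b.toBT j hm)

theorem CenX_le_CC [Finite G] : CenX V R ≤ CC R := b.CenX_le_C

/-- `[q, n] ∈ Q j` for `q ∈ Q j`, `n ∈ ζ i` -/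
theorem conj_rel {i j : ι} {q n : G} (hq : q ∈ QQ (R j)) (hn : n ∈ ZQ R i) :
    q * n * q⁻¹ * n⁻¹ ∈ QQ (R j) := by
  have e : q * n * q⁻¹ * n⁻¹ = q * (n * q⁻¹ * n⁻¹) := by group
  rw [e]
  exact mul_mem hq (conj_mem_of_normalizer (le_normalizer_O2 _ (ZQ_N b j hn)) (inv_mem hq))

theorem conj_ZQ {i k : ι} {q n : G} (hn : n ∈ ZQ R i) (hk : cj q (R i) = R k) :
    q * n * q⁻¹ ∈ ZQ R k := by
  rw [← cj_ZQ b.toBT hk]
  exact conj_mem_cj hn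

/-- squares of elements of `ζ i` lie in every `Q j` -/
theorem sq_Q [Finite G] (h : ∀ i, LE V R i) {i : ι} (j : ι) {n : G} (hn : n ∈ ZQ R i) : n * n ∈ QQ (R j) :=
  b.V_Q j (b.R_le i (Q_sq b (h i) hn.1))

/-- from `n₃ n₁⁻¹ ∈ Q j`, `n₂ n₁⁻¹ ∈ Q k` -/
theorem tri_of_rel [Finite G] (h : ∀ i, LE V R i) {i j k : ι} (hjk : j ≠ k) {n₁ n₂ n₃ : G}
    (h1 : n₁ ∈ ZQ R i) (h2 : n₂ ∈ ZQ R j) (h3 : n₃ ∈ ZQ R k) (h13 : n₃ * n₁⁻¹ ∈ QQ (R j))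
    (h12 : n₂ * n₁⁻¹ ∈ QQ (R k)) : Tri R i j k n₁ n₂ n₃ := by
  refine ⟨h1, h2, h3, ?_⟩
  rw [b.C_eq hjk]
  refine mem_inf.2 ⟨?_, ?_⟩
  · have hN := le_normalizer_O2 _ (ZQ_N b j h1)
    have e : n₁ * n₂ * n₃ = (n₁ * n₂ * n₁⁻¹) * (n₁ * (n₃ * n₁⁻¹) * n₁⁻¹) * (n₁ * n₁) := by group
    rw [e]
    exact mul_mem (mul_mem (conj_mem_of_normalizer hN h2.1) (conj_mem_of_normalizer hN h13)) (sq_Q b h j h1)
  · have hN := le_normalizer_O2 _ (ZQ_N b k h1)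
    have e : n₁ * n₂ * n₃ = (n₁ * (n₂ * n₁⁻¹) * n₁⁻¹) * (n₁ * n₁) * n₃ := by group
    rw [e]
    exact mul_mem (mul_mem (conj_mem_of_normalizer hN h12) (sq_Q b h k h1)) h3.1

theorem tri_of [Finite G] (h : ∀ i, LE V R i) {i j k : ι} (hjk : j ≠ k) {n p q : G}
    (hn : n ∈ ZQ R i) (hp : p ∈ QQ (R k)) (hq : q ∈ QQ (R j)) (hpi : cj p (R i) = R j)
    (hqi : cj q (R i) = R k) : Tri R i j k n (p * n * p⁻¹) (q * n * q⁻¹) :=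
  tri_of_rel b h hjk hn (conj_ZQ b hn hpi) (conj_ZQ b hn hqi) (conj_rel b hq hn) (conj_rel b hp hn)

theorem exists_tri [Finite G] (h : ∀ i, LE V R i) {i j k : ι} (hij : i ≠ j) (hik : i ≠ k) (hjk : j ≠ k)
    {n : G} (hn : n ∈ ZQ R i) : ∃ n₂ n₃, Tri R i j k n n₂ n₃ := by
  obtain ⟨p, hp, e1⟩ := b.trans k hik hjk
  obtain ⟨q, hq, e2⟩ := b.trans j hij (Ne.symm hjk)
  exact ⟨_, _, tri_of b h hjk hn (b.W_le_Q k hp) (b.W_le_Q j hq) e1 e2⟩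

end

namespace Tri

variable {i j k : ι} {n₁ n₂ n₃ : G}

section

variable (b : BTS V R)
include b

theorem rot (t : Tri R i j k n₁ n₂ n₃) : Tri R j k i n₂ n₃ n₁ := by
  refine ⟨t.two, t.three, t.one, ?_⟩
  have e : n₂ * n₃ * n₁ = n₁⁻¹ * (n₁ * n₂ * n₃) * n₁ := by group
  rw [e]
  exact conj_inv_mem_of_normalizer (NV_le_NC b.toBT (cen_le_NV V (ZQ_cenV b t.one))) t.mem

theorem swap [Finite G] (t : Tri R i j k n₁ n₂ n₃) : Tri R j i k n₂ n₁ n₃ := by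
  refine ⟨t.two, t.one, t.three, ?_⟩
  have e : n₂ * n₁ * n₃ = (n₂ * n₁ * n₂⁻¹ * n₁⁻¹) * (n₁ * n₂ * n₃) := by group
  rw [e]
  exact mul_mem (b.CenX_le_C (ZQ_ZQ b t.two t.one)) t.mem

/-- `N(V)` acts on the triples -/
theorem conj (t : Tri R i j k n₁ n₂ n₃) {x : G} (hx : x ∈ normalizer (V : Set G)) {i' j' k' : ι}
    (hi : cj x (R i) = R i') (hj : cj x (R j) = R j') (hk : cj x (R k) = R k') :
    Tri R i' j' k' (x * n₁ * x⁻¹) (x * n₂ * x⁻¹) (x * n₃ * x⁻¹) := by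
  refine ⟨conj_ZQ b t.one hi, conj_ZQ b t.two hj, conj_ZQ b t.three hk, ?_⟩
  have e : x * n₁ * x⁻¹ * (x * n₂ * x⁻¹) * (x * n₃ * x⁻¹) = x * (n₁ * n₂ * n₃) * x⁻¹ := by group
  rw [e]
  exact conj_mem_of_normalizer (NV_le_NC b.toBT hx) t.mem

/-- `n₃ n₁⁻¹ ∈ Q j` -/
theorem rel₁₃ [Finite G] (h : ∀ i, LE V R i) (t : Tri R i j k n₁ n₂ n₃) : n₃ * n₁⁻¹ ∈ QQ (R j) := by
  have h1 := mem_iInf.1 (Tri.rot b t).mem j
  have e : n₃ * n₁⁻¹ = n₂⁻¹ * (n₂ * n₃ * n₁) * (n₁ * n₁)⁻¹ := by group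
  rw [e]
  exact mul_mem (mul_mem (inv_mem t.two.1) h1) (inv_mem (sq_Q b h j t.one))

/-- `n₂ n₁⁻¹ ∈ Q k` -/
theorem rel₁₂ [Finite G] (h : ∀ i, LE V R i) (t : Tri R i j k n₁ n₂ n₃) : n₂ * n₁⁻¹ ∈ QQ (R k) := by
  have h1 := mem_iInf.1 (Tri.rot b (Tri.swap b t)).mem k
  -- `n₁ n₃ n₂ ∈ J`
  have h2 : n₂ * n₁ * n₃ ∈ QQ (R k) := mem_iInf.1 (Tri.swap b t).mem k
  have e : n₂ * n₁⁻¹ = (n₂ * n₁ * n₃) * n₃⁻¹ * (n₁ * n₁)⁻¹ := by group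
  rw [e]
  exact mul_mem (mul_mem h2 (inv_mem t.three.1)) (inv_mem (sq_Q b h k t.one))

/-- uniqueness: `n₁` determines `n₂` modulo `R j × C_X` -/
theorem uniq₂ [Finite G] (h : ∀ i, LE V R i) (hjk : j ≠ k) {m₁ m₂ m₃ : G} (t : Tri R i j k n₁ n₂ n₃)
    (t' : Tri R i j k m₁ m₂ m₃) (hq : m₁⁻¹ * n₁ ∈ QQ (R k)) : ∃ a ∈ R j, a * (m₂⁻¹ * n₂) ∈ CenX V R := by
  refine ZQ_Q b hjk (mul_mem (inv_mem t'.two) t.two) ?_
  have h1 := mul_mem (inv_mem (t'.rel₁₂ b h)) (t.rel₁₂ b h)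
  have hN := le_normalizer_O2 _ (ZQ_N b k t'.one)
  have e : m₂⁻¹ * n₂ = m₁⁻¹ * ((m₂ * m₁⁻¹)⁻¹ * (n₂ * n₁⁻¹)) * m₁ * (m₁⁻¹ * n₁) := by group
  rw [e]
  exact mul_mem (conj_inv_mem_of_normalizer hN h1) hq

/-- uniqueness: `n₁` determines `n₃` modulo `R k × C_X` -/
theorem uniq₃ [Finite G] (h : ∀ i, LE V R i) (hjk : j ≠ k) {m₁ m₂ m₃ : G} (t : Tri R i j k n₁ n₂ n₃)
    (t' : Tri R i j k m₁ m₂ m₃) (hq : m₁⁻¹ * n₁ ∈ QQ (R j)) : ∃ a ∈ R k, a * (m₃⁻¹ * n₃) ∈ CenX V R := by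
  refine ZQ_Q b (Ne.symm hjk) (mul_mem (inv_mem t'.three) t.three) ?_
  have h1 := mul_mem (inv_mem (t'.rel₁₃ b h)) (t.rel₁₃ b h)
  have hN := le_normalizer_O2 _ (ZQ_N b j t'.one)
  have e : m₃⁻¹ * n₃ = m₁⁻¹ * ((m₃ * m₁⁻¹)⁻¹ * (n₃ * n₁⁻¹)) * m₁ * (m₁⁻¹ * n₁) := by group
  rw [e]
  exact mul_mem (conj_inv_mem_of_normalizer hN h1) hq

/-- `q ∈ Q j` moving `R i` to `R k` moves `n₁` to `n₃`, modulo `R k × C_X` -/
theorem move [Finite G] (h : ∀ i, LE V R i) (hjk : j ≠ k) (t : Tri R i j k n₁ n₂ n₃) {q : G}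
    (hq : q ∈ QQ (R j)) (hk : cj q (R i) = R k) : ∃ a ∈ R k, a * ((q * n₁ * q⁻¹)⁻¹ * n₃) ∈ CenX V R := by
  refine ZQ_Q b (Ne.symm hjk) (mul_mem (inv_mem (conj_ZQ b t.one hk)) t.three) ?_
  have h1 := mul_mem (inv_mem (conj_rel b hq t.one)) (t.rel₁₃ b h)
  have hN := le_normalizer_O2 _ (ZQ_N b j t.one)
  have e : (q * n₁ * q⁻¹)⁻¹ * n₃ = n₁⁻¹ * ((q * n₁ * q⁻¹ * n₁⁻¹)⁻¹ * (n₃ * n₁⁻¹)) * n₁ := by group
  rw [e]
  exact conj_inv_mem_of_normalizer hN h1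

/-- `n₃ = n₁^q a c` -/
theorem move' [Finite G] (h : ∀ i, LE V R i) (hjk : j ≠ k) (t : Tri R i j k n₁ n₂ n₃) {q : G}
    (hq : q ∈ QQ (R j)) (hk : cj q (R i) = R k) :
    ∃ a ∈ R k, ∃ c ∈ CenX V R, n₃ = (q * n₁ * q⁻¹) * (a * c) := by
  obtain ⟨a, ha, hc⟩ := t.move b h hjk hq hk
  refine ⟨a⁻¹, inv_mem ha, _, hc, ?_⟩
  group

/-- the members of a triple commute -/
theorem comm₁₃ [Finite G] (h : ∀ i, LE V R i) (hij : i ≠ j) (hjk : j ≠ k) (t : Tri R i j k n₁ n₂ n₃)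
    (hik : i ≠ k) : n₁ * n₃ = n₃ * n₁ := by
  obtain ⟨w, hw, e⟩ := b.trans j hij (Ne.symm hjk)
  have hw' : w ∉ UU V R j := by
    intro hu
    have h1 : cj w (R i) = R i := cj_eq_self_iff.2 (b.cen_le_N i (UU_le_cen j hu))
    exact hik (b.R_index (h1.symm.trans e))
  obtain ⟨a, ha, c, hc, e3⟩ := t.move' b h hjk (b.W_le_Q j hw) e
  have h1 := Comm.comm_conj b hij (ZQ_le_cenW b.toBT i t.one) hw hw'
  have h2 := ZQ_V b t.one (b.R_le k ha)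
  have h3 := ZQ_C b h t.one hc
  rw [e3]
  calc n₁ * (w * n₁ * w⁻¹ * (a * c)) = (n₁ * (w * n₁ * w⁻¹)) * (a * c) := by group
    _ = (w * n₁ * w⁻¹) * (n₁ * a) * c := by rw [h1]; group
    _ = (w * n₁ * w⁻¹) * a * (n₁ * c) := by rw [h2]; group
    _ = _ := by rw [h3]; group

end

end Tri

/-! ### the pairing -/

/-- `[u v, y] = [v, y] [u, y]` if `u` commutes with `[v, y]` -/
theorem comm_mul_left {u v y : G} (h : u * (v * y * v⁻¹ * y⁻¹) = (v * y * v⁻¹ * y⁻¹) * u) :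
    u * v * y * (u * v)⁻¹ * y⁻¹ = (v * y * v⁻¹ * y⁻¹) * (u * y * u⁻¹ * y⁻¹) := by
  calc u * v * y * (u * v)⁻¹ * y⁻¹ = (u * (v * y * v⁻¹ * y⁻¹)) * y * u⁻¹ * y⁻¹ := by group
    _ = _ := by rw [h]; group

theorem comm_of_mul {u v y : G} (hv : v * y = y * v) : (u * v) * y * (u * v)⁻¹ * y⁻¹ = u * y * u⁻¹ * y⁻¹ := by
  calc (u * v) * y * (u * v)⁻¹ * y⁻¹ = u * (v * y) * v⁻¹ * u⁻¹ * y⁻¹ := by group
    _ = _ := by rw [hv]; group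

section

variable (b : BTS V R)
include b

/-- `[n, y] = a c`, `a ∈ R i`, `c ∈ C_X` -/
theorem ZQ_E' [Finite G] {i j : ι} (hij : i ≠ j) {n y : G} (hn : n ∈ ZQ R i) (hy : y ∈ EE V R j) :
    ∃ a ∈ R i, ∃ c ∈ CenX V R, n * y * n⁻¹ * y⁻¹ = a * c := by
  obtain ⟨a, ha, hc⟩ := ZQ_E b hij hn hy
  exact ⟨a⁻¹, inv_mem ha, _, hc, by group⟩

/-- `[n^w, y] = [n, y]^w` for `w ∈ Q j`, `y ∈ E j`, `n ∈ ζ i` -/
theorem comm_conj_Q [Finite G] (h : ∀ i, LE V R i) {i j : ι} {n w y : G} (hn : n ∈ ZQ R i)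
    (hw : w ∈ QQ (R j)) (hy : y ∈ EE V R j) :
    (w * n * w⁻¹) * y * (w * n * w⁻¹)⁻¹ * y⁻¹ = w * (n * y * n⁻¹ * y⁻¹) * w⁻¹ := by
  -- `w⁻¹ y w = y s`, `s ∈ R j`
  have hs : y⁻¹ * w⁻¹ * y⁻¹⁻¹ * w⁻¹⁻¹ ∈ R j := Q_comm b (h j) (inv_mem hy.1) (inv_mem hw)
  set s := y⁻¹ * w⁻¹ * y⁻¹⁻¹ * w⁻¹⁻¹ with hsdef
  have e1 : w⁻¹ * y * w = y * s := by rw [hsdef]; group
  have e2 := ZQ_V b hn (b.R_le j hs)
  have e3 : n * s * n⁻¹ = s := by rw [e2, mul_inv_cancel_right]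
  have e4 : w * s * w⁻¹ = s := b.conj_R hw hs
  calc (w * n * w⁻¹) * y * (w * n * w⁻¹)⁻¹ * y⁻¹ = w * (n * (w⁻¹ * y * w) * n⁻¹ * (w⁻¹ * y * w)⁻¹) * w⁻¹ := by
        group
    _ = w * (n * y * n⁻¹ * (n * s * n⁻¹) * s⁻¹ * y⁻¹) * w⁻¹ := by rw [e1]; group
    _ = w * (n * y * n⁻¹ * y⁻¹) * w⁻¹ := by rw [e3]; group

/-- **the pairing**: `[n₁, y] = a c`, `[n₂, y] = 1`, `[n₃, y] = a^w c`, `[d, y] = a a^w` for `y ∈ E j` -/
theorem Tri.pair [Finite G] (h : ∀ i, LE V R i) {i j k : ι} (hij : i ≠ j) (hjk : j ≠ k) {n₁ n₂ n₃ y : G}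
    (t : Tri R i j k n₁ n₂ n₃) (hy : y ∈ EE V R j) :
    ∃ a ∈ R i, ∃ c ∈ CenX V R, n₁ * y * n₁⁻¹ * y⁻¹ = a * c ∧
      ∀ w ∈ QQ (R j), cj w (R i) = R k → n₃ * y * n₃⁻¹ * y⁻¹ = (w * a * w⁻¹) * c ∧
        (n₁ * n₂ * n₃) * y * (n₁ * n₂ * n₃)⁻¹ * y⁻¹ = a * (w * a * w⁻¹) := by
  obtain ⟨a, ha, c, hc, e1⟩ := ZQ_E' b hij t.one hy
  refine ⟨a, ha, c, hc, e1, fun w hw hk => ?_⟩
  obtain ⟨a', ha', c', hc', e3⟩ := t.move' b h hjk hw hk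
  have hcw : w * c * w⁻¹ = c := by rw [← cenX_Q b (h j) hc hw, mul_inv_cancel_right]
  have hyV := hy.2
  have k1 : a' * c' * y = y * (a' * c') := by
    have h1 := cenX_Q b (h j) hc' hy.1
    have h2 := mem_centralizer_iff.1 hyV a' (b.R_le k ha')
    calc a' * c' * y = a' * (c' * y) := by group
      _ = (a' * y) * c' := by rw [h1]; group
      _ = _ := by rw [h2]; group
  have h3 : n₃ * y * n₃⁻¹ * y⁻¹ = (w * a * w⁻¹) * c := by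
    rw [e3, comm_of_mul k1, comm_conj_Q b h t.one hw hy, e1]
    calc w * (a * c) * w⁻¹ = (w * a * w⁻¹) * (w * c * w⁻¹) := by group
      _ = _ := by rw [hcw]
  refine ⟨h3, ?_⟩
  have hwa : w * a * w⁻¹ ∈ V := conj_mem_of_normalizer (b.Q_le_NV j hw) (b.R_le i ha)
  -- `n` commutes with `V C_X`
  have hcom : ∀ {l : ι} {n v x : G}, n ∈ ZQ R l → v ∈ V → x ∈ CenX V R → n * (v * x) = (v * x) * n := by
    intro l n v x hn hv hx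
    calc n * (v * x) = (n * v) * x := by group
      _ = v * (n * x) := by rw [ZQ_V b hn hv]; group
      _ = _ := by rw [ZQ_C b h hn hx]; group
  have h2 : n₂ * y * n₂⁻¹ * y⁻¹ = 1 := by
    rw [← mem_centralizer_iff.1 t.two.2 y hy.1]; group
  have h12 : n₁ * n₂ * y * (n₁ * n₂)⁻¹ * y⁻¹ = a * c := by
    rw [comm_of_mul (by rw [mem_centralizer_iff.1 t.two.2 y hy.1]), e1]
  rw [comm_mul_left (u := n₁ * n₂) (v := n₃) (by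
    rw [h3, mul_assoc n₁ n₂, hcom t.two hwa hc, ← mul_assoc, hcom t.one hwa hc, mul_assoc]), h3, h12]
  have hcc := cenX_sq b (h j) hc
  have hVc : c * a = a * c := by
    have := mem_centralizer_iff.1 (b.CenX_le_cen hc) a (b.R_le i ha)
    exact this.symm
  calc w * a * w⁻¹ * c * (a * c) = (w * a * w⁻¹) * (c * a) * c := by group
    _ = ((w * a * w⁻¹) * a) * (c * c) := by rw [hVc]; group
    _ = _ := by rw [hcc, mul_one, b.V_comm _ hwa _ (b.R_le i ha)]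

/-- `[d, y] = 1` iff `[n₁, y] ∈ C_X` (`y ∈ E j`) -/
theorem Tri.pair_one_iff [Finite G] (h : ∀ i, LE V R i) {i j k : ι} (hij : i ≠ j) (hjk : j ≠ k)
    (hik : i ≠ k) {n₁ n₂ n₃ y : G} (t : Tri R i j k n₁ n₂ n₃) (hy : y ∈ EE V R j) :
    (n₁ * n₂ * n₃) * y * (n₁ * n₂ * n₃)⁻¹ * y⁻¹ = 1 ↔ n₁ * y * n₁⁻¹ * y⁻¹ ∈ CenX V R := by
  obtain ⟨a, ha, c, hc, e1, H⟩ := t.pair b h hij hjk hy
  obtain ⟨w, hw, e⟩ := b.trans j hij (Ne.symm hjk)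
  obtain ⟨-, e2⟩ := H w (b.W_le_Q j hw) e
  have hwa : w * a * w⁻¹ ∈ R k := by rw [← e]; exact conj_mem_cj ha
  rw [e2, e1]
  constructor
  · intro h1
    have h2 : a ∈ R k := by
      rw [eq_inv_of_mul_eq_one_left h1]
      exact inv_mem hwa
    rw [b.eq_one hik ha h2, one_mul]
    exact hc
  · intro h1
    have h2 : a ∈ CenX V R := (mul_mem_cancel_right hc).1 h1
    rw [b.cen_VX (b.R_le i ha) h2]
    group

/-! ### symmetry of `d` -/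

theorem Tri.comm₁₂ [Finite G] (h : ∀ i, LE V R i) {i j k : ι} (hij : i ≠ j) (hjk : j ≠ k)
    (hik : i ≠ k) {n₁ n₂ n₃ : G} (t : Tri R i j k n₁ n₂ n₃) : n₁ * n₂ = n₂ * n₁ := by
  have t' := Tri.swap b (Tri.rot b t)
  -- `Tri k j i n₃ n₂ n₁`
  have t'' := Tri.rot b (Tri.rot b t')
  exact (Tri.comm₁₃ b h hjk (Ne.symm hik) (t.rot b) (Ne.symm hij)).symm

theorem Tri.comm₂₃ [Finite G] (h : ∀ i, LE V R i) {i j k : ι} (hij : i ≠ j) (hjk : j ≠ k)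
    (hik : i ≠ k) {n₁ n₂ n₃ : G} (t : Tri R i j k n₁ n₂ n₃) : n₂ * n₃ = n₃ * n₂ :=
  Tri.comm₁₂ b h hjk (Ne.symm hik) (Ne.symm hij) (t.rot b)

theorem Tri.d_swap [Finite G] (h : ∀ i, LE V R i) {i j k : ι} (hij : i ≠ j) (hjk : j ≠ k)
    (hik : i ≠ k) {n₁ n₂ n₃ : G} (t : Tri R i j k n₁ n₂ n₃) : n₂ * n₁ * n₃ = n₁ * n₂ * n₃ := by
  rw [t.comm₁₂ b h hij hjk hik]

theorem Tri.d_rot [Finite G] (h : ∀ i, LE V R i) {i j k : ι} (hij : i ≠ j) (hjk : j ≠ k)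
    (hik : i ≠ k) {n₁ n₂ n₃ : G} (t : Tri R i j k n₁ n₂ n₃) : n₂ * n₃ * n₁ = n₁ * n₂ * n₃ := by
  rw [mul_assoc, ← t.comm₁₃ b h hij hjk hik, ← mul_assoc, t.comm₁₂ b h hij hjk hik]

/-- `n₁² n₂² n₃² = 1` -/
theorem Tri.sq_mul [Finite G] (h : ∀ i, LE V R i) {i j k : ι} (hij : i ≠ j) (hjk : j ≠ k)
    (hik : i ≠ k) {n₁ n₂ n₃ : G} (t : Tri R i j k n₁ n₂ n₃) :
    (n₁ * n₁) * (n₂ * n₂) * (n₃ * n₃) = 1 := by
  have c12 : Commute n₁ n₂ := t.comm₁₂ b h hij hjk hik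
  have c13 : Commute n₁ n₃ := t.comm₁₃ b h hij hjk hik
  have c23 : Commute n₂ n₃ := t.comm₂₃ b h hij hjk hik
  have h1 := C_sq_one b h t.mem
  rw [← h1]
  calc (n₁ * n₁) * (n₂ * n₂) * (n₃ * n₃) = n₁ * (n₁ * n₂) * (n₂ * n₃) * n₃ := by group
    _ = n₁ * (n₂ * n₁) * (n₃ * n₂) * n₃ := by rw [c12.eq, c23.eq]
    _ = n₁ * n₂ * (n₁ * n₃) * n₂ * n₃ := by group
    _ = n₁ * n₂ * (n₃ * n₁) * n₂ * n₃ := by rw [c13.eq]
    _ = _ := by group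

/-- `n₃² = (n₁²)^q` -/
theorem Tri.sq_move [Finite G] (h : ∀ i, LE V R i) {i j k : ι} (hjk : j ≠ k)
    {n₁ n₂ n₃ : G} (t : Tri R i j k n₁ n₂ n₃) {q : G} (hq : q ∈ QQ (R j)) (hk : cj q (R i) = R k) :
    n₃ * n₃ = q * (n₁ * n₁) * q⁻¹ := by
  obtain ⟨a, ha, c, hc, e3⟩ := t.move' b h hjk hq hk
  have hn := conj_ZQ b t.one hk
  have h1 := ZQ_V b hn (b.R_le k ha)
  have h2 := ZQ_C b h hn hc
  have h3 : c * a = a * c := (mem_centralizer_iff.1 (b.CenX_le_cen hc) a (b.R_le k ha)).symm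
  have h4 : a * a = 1 := b.V_sq a (b.R_le k ha)
  have h5 : c * c = 1 := cenX_sq b (h j) hc
  rw [e3]
  set n := q * n₁ * q⁻¹ with hndef
  calc n * (a * c) * (n * (a * c)) = n * a * (c * n) * a * c := by group
    _ = n * (a * n) * (c * a) * c := by rw [← h2]; group
    _ = n * n * (a * a) * (c * c) := by rw [← h1, h3]; group
    _ = q * (n₁ * n₁) * q⁻¹ := by rw [h4, h5, hndef]; group

/-! ### the Siegel statement: the action of `n₂ ∈ ζ j` on `Q i / ζ i` -/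

/-- **Siegel**: `[q, n₂] ∈ d V ζ i` for `q ∈ Q i` moving `R j` to `R k` -/
theorem Tri.siegel [Finite G] (h : ∀ i, LE V R i) {i j k : ι} (hij : i ≠ j) (hjk : j ≠ k)
    (hik : i ≠ k) {n₁ n₂ n₃ : G} (t : Tri R i j k n₁ n₂ n₃) {q : G} (hq : q ∈ QQ (R i))
    (hk : cj q (R j) = R k) :
    ∃ a ∈ R k, ∃ c ∈ CenX V R, q * n₂ * q⁻¹ * n₂⁻¹ =
      (n₁ * n₂ * n₃) * ((n₂ * n₂)⁻¹ * a) * (n₁⁻¹ * c) := by
  obtain ⟨a, ha, c, hc, e3⟩ := (t.swap b).move' b h hik hq hk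
  have ha' := inv_mem ha
  have hc' := inv_mem hc
  refine ⟨a⁻¹, ha', c⁻¹, hc', ?_⟩
  have haV := b.R_le k ha'
  have k0 : c⁻¹ * a⁻¹ = a⁻¹ * c⁻¹ := (mem_centralizer_iff.1 (b.CenX_le_cen hc') _ haV).symm
  have k1 := ZQ_V b t.two haV
  have k2 := ZQ_C b h t.two hc'
  have k3 : n₁⁻¹ * a⁻¹ = a⁻¹ * n₁⁻¹ := ZQ_V b (inv_mem t.one) haV
  have hs : (n₂ * n₂)⁻¹ ∈ V := b.R_le j (inv_mem (Q_sq b (h j) t.two.1))
  have k4 : n₁⁻¹ * (n₂ * n₂)⁻¹ = (n₂ * n₂)⁻¹ * n₁⁻¹ := ZQ_V b (inv_mem t.one) hs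
  have k5 := t.comm₂₃ b h hij hjk hik
  have k6 : (n₁ * n₂ * n₃) * n₁⁻¹ = n₁⁻¹ * (n₁ * n₂ * n₃) :=
    (mem_centralizer_iff.1 (inv_mem t.one.2) _ (mem_iInf.1 t.mem i))
  have e1 : q * n₂ * q⁻¹ = n₃ * (c⁻¹ * a⁻¹) := by rw [e3]; group
  have e2 : a⁻¹ * n₂⁻¹ = n₂⁻¹ * a⁻¹ := (ZQ_V b (inv_mem t.two) haV).symm
  have e4 : c⁻¹ * n₂⁻¹ = n₂⁻¹ * c⁻¹ := (ZQ_C b h (inv_mem t.two) hc').symm
  calc q * n₂ * q⁻¹ * n₂⁻¹ = n₃ * c⁻¹ * (a⁻¹ * n₂⁻¹) := by rw [e1]; group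
    _ = n₃ * (c⁻¹ * n₂⁻¹) * a⁻¹ := by rw [e2]; group
    _ = (n₃ * n₂) * (n₂ * n₂)⁻¹ * (c⁻¹ * a⁻¹) := by rw [e4]; group
    _ = n₁⁻¹ * (n₁ * n₂ * n₃) * (n₂ * n₂)⁻¹ * (a⁻¹ * c⁻¹) := by rw [← k5, k0]; group
    _ = (n₁ * n₂ * n₃) * (n₁⁻¹ * (n₂ * n₂)⁻¹) * a⁻¹ * c⁻¹ := by rw [← k6]; group
    _ = (n₁ * n₂ * n₃) * (n₂ * n₂)⁻¹ * (n₁⁻¹ * a⁻¹) * c⁻¹ := by rw [k4]; group
    _ = _ := by rw [k3]; group

/-- **Siegel** on `E i`: `[n₂, y] = a c` where `[d, y] = a a^w` -/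
theorem Tri.siegel_E [Finite G] (h : ∀ i, LE V R i) {i j k : ι} (hij : i ≠ j) (hjk : j ≠ k)
    (hik : i ≠ k) {n₁ n₂ n₃ : G} (t : Tri R i j k n₁ n₂ n₃) {y : G} (hy : y ∈ EE V R i) :
    ∃ a ∈ R j, ∃ c ∈ CenX V R, n₂ * y * n₂⁻¹ * y⁻¹ = a * c ∧
      ∀ w ∈ QQ (R i), cj w (R j) = R k → n₃ * y * n₃⁻¹ * y⁻¹ = (w * a * w⁻¹) * c ∧
        (n₁ * n₂ * n₃) * y * (n₁ * n₂ * n₃)⁻¹ * y⁻¹ = a * (w * a * w⁻¹) := by
  have h1 := (t.swap b).pair b h (Ne.symm hij) hik hy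
  rwa [t.d_swap b h hij hjk hik] at h1

/-- `[q, [q, n₂]] = n₂² ((n₂²)⁻¹)^q`: `= 1` if `n₂² = 1` -/
theorem Tri.siegel_quad [Finite G] (h : ∀ i, LE V R i) {i j k : ι} (hij : i ≠ j) (hjk : j ≠ k)
    (hik : i ≠ k) {n₁ n₂ n₃ : G} (t : Tri R i j k n₁ n₂ n₃) {q : G} (hq : q ∈ QQ (R i))
    (hk : cj q (R j) = R k) :
    q * (q * n₂ * q⁻¹ * n₂⁻¹) * q⁻¹ * (q * n₂ * q⁻¹ * n₂⁻¹)⁻¹ =
      (n₂ * n₂) * (q * (n₂ * n₂) * q⁻¹)⁻¹ := by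
  obtain ⟨a, ha, c, hc, e3⟩ := (t.swap b).move' b h hik hq hk
  -- `n₂` commutes with `n₂^q`
  have hcom : n₂ * (q * n₂ * q⁻¹) = (q * n₂ * q⁻¹) * n₂ := by
    have e1 : q * n₂ * q⁻¹ = n₃ * (c⁻¹ * a⁻¹) := by rw [e3]; group
    have k1 := ZQ_V b t.two (b.R_le k (inv_mem ha))
    have k2 := ZQ_C b h t.two (inv_mem hc)
    rw [e1]
    calc n₂ * (n₃ * (c⁻¹ * a⁻¹)) = (n₂ * n₃) * (c⁻¹ * a⁻¹) := by group
      _ = n₃ * (n₂ * c⁻¹) * a⁻¹ := by rw [t.comm₂₃ b h hij hjk hik]; group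
      _ = n₃ * c⁻¹ * (n₂ * a⁻¹) := by rw [k2]; group
      _ = _ := by rw [k1]; group
  have hqq : q * q * n₂ = n₂ * (q * q) := (ZQ_V b t.two (b.R_le i (Q_sq b (h i) hq))).symm
  set m := q * n₂ * q⁻¹ with hm
  have e1 : q * m * q⁻¹ = n₂ := by
    calc q * m * q⁻¹ = (q * q * n₂) * (q * q)⁻¹ := by rw [hm]; group
      _ = n₂ := by rw [hqq]; group
  have e2 : q * (m * n₂⁻¹) * q⁻¹ = n₂ * m⁻¹ := by
    calc q * (m * n₂⁻¹) * q⁻¹ = (q * m * q⁻¹) * (q * n₂ * q⁻¹)⁻¹ := by group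
      _ = _ := by rw [e1]
  have e3 : m⁻¹ * n₂ = n₂ * m⁻¹ := by
    rw [inv_mul_eq_iff_eq_mul, ← mul_assoc, ← hcom, mul_inv_cancel_right]
  calc q * (m * n₂⁻¹) * q⁻¹ * (m * n₂⁻¹)⁻¹ = n₂ * m⁻¹ * (n₂ * m⁻¹) := by rw [e2]; group
    _ = n₂ * (m⁻¹ * n₂) * m⁻¹ := by group
    _ = (n₂ * n₂) * (m * m)⁻¹ := by rw [e3]; group
    _ = (n₂ * n₂) * (q * (n₂ * n₂) * q⁻¹)⁻¹ := by rw [hm]; group

/-! ### multiplicativity -/

theorem Tri.mul [Finite G] (h : ∀ i, LE V R i) {i j k : ι} (hjk : j ≠ k) {n₁ n₂ n₃ m₁ m₂ m₃ : G}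
    (t : Tri R i j k n₁ n₂ n₃) (t' : Tri R i j k m₁ m₂ m₃) :
    Tri R i j k (n₁ * m₁) (n₂ * m₂) (n₃ * m₃) := by
  refine tri_of_rel b h hjk (mul_mem t.one t'.one) (mul_mem t.two t'.two) (mul_mem t.three t'.three) ?_ ?_
  · have e : n₃ * m₃ * (n₁ * m₁)⁻¹ = n₃ * (m₃ * m₁⁻¹) * n₃⁻¹ * (n₃ * n₁⁻¹) := by group
    rw [e]
    exact mul_mem (conj_mem_of_normalizer (le_normalizer_O2 _ (ZQ_N b j t.three)) (t'.rel₁₃ b h))
      (t.rel₁₃ b h)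
  · have e : n₂ * m₂ * (n₁ * m₁)⁻¹ = n₂ * (m₂ * m₁⁻¹) * n₂⁻¹ * (n₂ * n₁⁻¹) := by group
    rw [e]
    exact mul_mem (conj_mem_of_normalizer (le_normalizer_O2 _ (ZQ_N b k t.two)) (t'.rel₁₂ b h))
      (t.rel₁₂ b h)

/-- `d_{n m} = d_n d_m` modulo `C_X` -/
theorem Tri.d_mul [Finite G] (h : ∀ i, LE V R i) {i j k : ι} {n₁ n₂ n₃ m₁ m₂ m₃ : G}
    (t : Tri R i j k n₁ n₂ n₃) (t' : Tri R i j k m₁ m₂ m₃) : ∃ c ∈ CenX V R,
      (n₁ * m₁) * (n₂ * m₂) * (n₃ * m₃) = c * ((n₁ * n₂ * n₃) * (m₁ * m₂ * m₃)) := by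
  have c1 := ZQ_ZQ b t'.one t.two
  have c2 := ZQ_ZQ b t'.two t.three
  have c3 := ZQ_ZQ b t'.one t.three
  set x1 := m₁ * n₂ * m₁⁻¹ * n₂⁻¹ with hx1
  set x2 := m₂ * n₃ * m₂⁻¹ * n₃⁻¹ with hx2
  set x3 := m₁ * n₃ * m₁⁻¹ * n₃⁻¹ with hx3
  refine ⟨x1 * x2 * x3, mul_mem (mul_mem c1 c2) c3, ?_⟩
  have e1 : m₁ * n₂ = x1 * (n₂ * m₁) := by rw [hx1]; group
  have e2 : m₂ * n₃ = x2 * (n₃ * m₂) := by rw [hx2]; group
  have e3 : m₁ * n₃ = x3 * (n₃ * m₁) := by rw [hx3]; group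
  have k1 := ZQ_C b h t.one c1
  have k2 := ZQ_C b h t.one c2
  have k3 := ZQ_C b h t.one c3
  have k4 := ZQ_C b h t.two c2
  have k5 := ZQ_C b h t.two c3
  have k6 := ZQ_C b h t'.one c2
  calc (n₁ * m₁) * (n₂ * m₂) * (n₃ * m₃) = n₁ * (m₁ * n₂) * (m₂ * n₃) * m₃ := by group
    _ = (n₁ * x1) * n₂ * (m₁ * x2) * n₃ * m₂ * m₃ := by rw [e1, e2]; group
    _ = x1 * n₁ * (n₂ * x2) * (m₁ * n₃) * m₂ * m₃ := by rw [k1, k6]; group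
    _ = x1 * (n₁ * x2) * (n₂ * x3) * n₃ * m₁ * m₂ * m₃ := by rw [k4, e3]; group
    _ = x1 * x2 * (n₁ * x3) * n₂ * n₃ * m₁ * m₂ * m₃ := by rw [k2, k5]; group
    _ = _ := by rw [k3]; group

/-- `d` modulo `V C_X` depends only on `n₁` modulo `R i × C_X` -/
theorem Tri.d_uniq [Finite G] (h : ∀ i, LE V R i) {i j k : ι} (hij : i ≠ j) (hjk : j ≠ k)
    {n₁ n₂ n₃ m₁ m₂ m₃ : G}
    (t : Tri R i j k n₁ n₂ n₃) (t' : Tri R i j k m₁ m₂ m₃) (hj : m₁⁻¹ * n₁ ∈ QQ (R j)) :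
    ∃ v ∈ V, v * ((m₁ * m₂ * m₃)⁻¹ * (n₁ * n₂ * n₃)) ∈ CenX V R := by
  have hJ : m₁⁻¹ * n₁ ∈ CC R := by
    rw [b.C_eq hij]
    exact mem_inf.2 ⟨mul_mem (inv_mem t'.one.1) t.one.1, hj⟩
  obtain ⟨a1, ha1, hc1⟩ := ZQ_Q b hij (mul_mem (inv_mem t'.one) t.one) hj
  obtain ⟨a2, ha2, hc2⟩ := t.uniq₂ b h hjk t' (mem_iInf.1 hJ k)
  obtain ⟨a3, ha3, hc3⟩ := t.uniq₃ b h hjk t' hj
  set c1 := a1 * (m₁⁻¹ * n₁) with h1
  set c2 := a2 * (m₂⁻¹ * n₂) with h2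
  set c3 := a3 * (m₃⁻¹ * n₃) with h3
  have e1 : n₁ = m₁ * a1⁻¹ * c1 := by rw [h1]; group
  have e2 : n₂ = m₂ * a2⁻¹ * c2 := by rw [h2]; group
  have e3 : n₃ = m₃ * a3⁻¹ * c3 := by rw [h3]; group
  have v1 := b.R_le i (inv_mem ha1)
  have v2 := b.R_le j (inv_mem ha2)
  have v3 := b.R_le k (inv_mem ha3)
  have cV : ∀ {c v : G}, c ∈ CenX V R → v ∈ V → c * v = v * c := fun hc hv =>
    (mem_centralizer_iff.1 (b.CenX_le_cen hc) _ hv).symm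
  have key : n₁ * n₂ * n₃ = (m₁ * m₂ * m₃) * ((a1⁻¹ * a2⁻¹ * a3⁻¹) * (c1 * c2 * c3)) := by
    rw [e1, e2, e3]
    generalize a1⁻¹ = v1' at *
    generalize a2⁻¹ = v2' at *
    generalize a3⁻¹ = v3' at *
    calc m₁ * v1' * c1 * (m₂ * v2' * c2) * (m₃ * v3' * c3)
        = m₁ * v1' * (c1 * m₂) * v2' * (c2 * m₃) * v3' * c3 := by group
      _ = m₁ * (v1' * m₂) * (c1 * v2') * m₃ * (c2 * v3') * c3 := by
          rw [← ZQ_C b h t'.two hc1, ← ZQ_C b h t'.three hc2]; group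
      _ = m₁ * m₂ * v1' * v2' * (c1 * m₃) * v3' * c2 * c3 := by
          rw [← ZQ_V b t'.two v1, cV hc1 v2, cV hc2 v3]; group
      _ = m₁ * m₂ * v1' * (v2' * m₃) * (c1 * v3') * c2 * c3 := by
          rw [← ZQ_C b h t'.three hc1]; group
      _ = m₁ * m₂ * (v1' * m₃) * v2' * v3' * c1 * c2 * c3 := by
          rw [← ZQ_V b t'.three v2, cV hc1 v3]; group
      _ = _ := by rw [← ZQ_V b t'.three v1]; group
  refine ⟨(a1⁻¹ * a2⁻¹ * a3⁻¹)⁻¹, inv_mem (mul_mem (mul_mem v1 v2) v3), ?_⟩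
  rw [key]
  have e : (a1⁻¹ * a2⁻¹ * a3⁻¹)⁻¹ * ((m₁ * m₂ * m₃)⁻¹ * (m₁ * m₂ * m₃ * (a1⁻¹ * a2⁻¹ * a3⁻¹ *
      (c1 * c2 * c3)))) = c1 * c2 * c3 := by group
  rw [e]
  exact mul_mem (mul_mem hc1 hc2) hc3

/-! ### `c_n(y)` -/

/-- `R i × C_X` is centralised by `C(V) ∩ Q l` -/
theorem RC_comm [Finite G] (h : ∀ i, LE V R i) {l : ι} {a c y : G} (ha : a ∈ V)
    (hc : c ∈ CenX V R) (hy : y ∈ EE V R l) : (a * c) * y = y * (a * c) := by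
  have h1 := cenX_Q b (h l) hc hy.1
  have h2 := mem_centralizer_iff.1 hy.2 a ha
  calc a * c * y = a * (c * y) := by group
    _ = (a * y) * c := by rw [h1]; group
    _ = _ := by rw [h2]; group

/-- `[ζ i, E j, E l] = 1` -/
theorem ZQ_E_E [Finite G] (h : ∀ i, LE V R i) {i j l : ι} (hij : i ≠ j) {n y y' : G} (hn : n ∈ ZQ R i)
    (hy : y ∈ EE V R j) (hy' : y' ∈ EE V R l) :
    (n * y * n⁻¹ * y⁻¹) * y' = y' * (n * y * n⁻¹ * y⁻¹) := by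
  obtain ⟨a, ha, c, hc, e⟩ := ZQ_E' b hij hn hy
  rw [e]
  exact RC_comm b h (b.R_le i ha) hc hy'

/-- `[n, y y'] = [n, y] [n, y']` for `n ∈ ζ i`, `y, y' ∈ E j` -/
theorem ZQ_mul_right [Finite G] (h : ∀ i, LE V R i) {i j : ι} (hij : i ≠ j) {n y y' : G}
    (hn : n ∈ ZQ R i) (hy : y ∈ EE V R j) (hy' : y' ∈ EE V R j) :
    n * (y * y') * n⁻¹ * (y * y')⁻¹ = (n * y * n⁻¹ * y⁻¹) * (n * y' * n⁻¹ * y'⁻¹) := by
  have h1 := ZQ_E_E b h hij hn hy' hy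
  calc n * (y * y') * n⁻¹ * (y * y')⁻¹ = (n * y * n⁻¹) * (n * y' * n⁻¹ * y'⁻¹) * y⁻¹ := by group
    _ = (n * y * n⁻¹ * y⁻¹) * (y * (n * y' * n⁻¹ * y'⁻¹)) * y⁻¹ := by group
    _ = _ := by rw [← h1]; group

/-- `[n n', y] = [n, y] [n', y]` for `n, n' ∈ ζ i`, `y ∈ E j` -/
theorem ZQ_mul_left [Finite G] (h : ∀ i, LE V R i) {i j : ι} (hij : i ≠ j) {n n' y : G}
    (hn : n ∈ ZQ R i) (hn' : n' ∈ ZQ R i) (hy : y ∈ EE V R j) :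
    n * n' * y * (n * n')⁻¹ * y⁻¹ = (n * y * n⁻¹ * y⁻¹) * (n' * y * n'⁻¹ * y⁻¹) := by
  have h1 := ZQ_E_E b h hij hn' hy (ZQ_le_EE b.toBT i hn)
  rw [comm_mul_left h1.symm]
  obtain ⟨a, ha, c, hc, e⟩ := ZQ_E' b hij hn hy
  obtain ⟨a', ha', c', hc', e'⟩ := ZQ_E' b hij hn' hy
  rw [e, e']
  have k1 := b.V_comm _ (b.R_le i ha) _ (b.R_le i ha')
  have k2 := cenX_comm b (h i) hc hc'
  have k3 : c' * a = a * c' := (mem_centralizer_iff.1 (b.CenX_le_cen hc') a (b.R_le i ha)).symm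
  have k4 : c * a' = a' * c := (mem_centralizer_iff.1 (b.CenX_le_cen hc) a' (b.R_le i ha')).symm
  calc a' * c' * (a * c) = a' * (c' * a) * c := by group
    _ = (a' * a) * (c' * c) := by rw [k3]; group
    _ = a * (a' * c) * c' := by rw [← k1, ← k2]; group
    _ = _ := by rw [← k4]; group

/-- `q = 2`: `[d, y] = 1`, `[n₁, y] = [n₃, y] = c`, or `[d, y] = r_j`, `[n₁, y] = r_i c`, `[n₃, y] = r_k c` -/
theorem Tri.pair_two [Finite G] (h : ∀ i, LE V R i) {r : ι → G} (hr : ∀ l, ∀ x ∈ R l, x = 1 ∨ x = r l)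
    {i j k : ι} (hij : i ≠ j) (hjk : j ≠ k) (hik : i ≠ k) {n₁ n₂ n₃ y : G}
    (t : Tri R i j k n₁ n₂ n₃) (hy : y ∈ EE V R j) : ∃ c ∈ CenX V R,
      ((n₁ * n₂ * n₃) * y * (n₁ * n₂ * n₃)⁻¹ * y⁻¹ = 1 ∧ n₁ * y * n₁⁻¹ * y⁻¹ = c ∧
        n₃ * y * n₃⁻¹ * y⁻¹ = c) ∨
      ((n₁ * n₂ * n₃) * y * (n₁ * n₂ * n₃)⁻¹ * y⁻¹ = r j ∧ n₁ * y * n₁⁻¹ * y⁻¹ = r i * c ∧
        n₃ * y * n₃⁻¹ * y⁻¹ = r k * c) := by
  obtain ⟨a, ha, c, hc, e1, H⟩ := t.pair b h hij hjk hy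
  obtain ⟨w, hw, e⟩ := b.trans j hij (Ne.symm hjk)
  obtain ⟨e3, e2⟩ := H w (b.W_le_Q j hw) e
  refine ⟨c, hc, ?_⟩
  rcases hr i a ha with rfl | rfl
  · left
    rw [e2, e1, e3]
    exact ⟨by group, by group, by group⟩
  · right
    have hwa : w * r i * w⁻¹ ∈ R k := by rw [← e]; exact conj_mem_cj ha
    have hr1 : r i ≠ 1 := by
      intro h1
      obtain ⟨x, hx, hx1⟩ := b.exists_ne i
      rcases hr i x hx with rfl | rfl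
      · exact hx1 rfl
      · exact hx1 h1
    have hwa1 : w * r i * w⁻¹ ≠ 1 := by
      intro h1
      rw [mul_inv_eq_one] at h1
      exact hr1 (mul_left_cancel (a := w) (by rw [h1, mul_one]))
    have hk : w * r i * w⁻¹ = r k := (hr k _ hwa).resolve_left hwa1
    have hj : r i * (w * r i * w⁻¹) ∈ R j := by
      have h1 := b.QV j w (b.W_le_Q j hw) (r i) (b.R_le i ha)
      rw [b.inv_eq (b.R_le i ha)] at h1
      rwa [b.V_comm _ (b.R_le i ha) _ (b.R_le k hwa)]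
    have hj1 : r i * (w * r i * w⁻¹) ≠ 1 := by
      intro h1
      have h2 : r i ∈ R k := by
        rw [eq_inv_of_mul_eq_one_left h1]
        exact inv_mem hwa
      exact hr1 (b.eq_one hik ha h2)
    rw [e2, e1, e3, hk]
    exact ⟨by rw [← hk]; exact (hr j _ hj).resolve_left hj1, rfl, rfl⟩

/-- the subgroup generated by the `c_n(y)` -/
def CS (V : Subgroup G) (R : ι → Subgroup G) : Subgroup G :=
  closure {c | c ∈ CenX V R ∧ ∃ i j, i ≠ j ∧ ∃ n ∈ ZQ R i, ∃ y ∈ EE V R j, ∃ a ∈ R i,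
    n * y * n⁻¹ * y⁻¹ = a * c}

omit b in
theorem CS_le : CS V R ≤ CenX V R := (closure_le _).2 fun _ hc => hc.1

/-- `N(V)` normalises `⟨c_n(y)⟩` -/
theorem NV_le_NCS : normalizer (V : Set G) ≤ normalizer (CS V R : Set G) := by
  have key : ∀ g ∈ normalizer (V : Set G), cj g (CS V R) ≤ CS V R := by
    intro g hg
    rw [cj, map_le_iff_le_comap, CS, closure_le]
    rintro c ⟨hc, i, j, hij, n, hn, y, hy, a, ha, e⟩
    obtain ⟨i', hi'⟩ := b.perm g hg i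
    obtain ⟨j', hj'⟩ := b.perm g hg j
    refine subset_closure ⟨conj_mem_of_normalizer (b.NV_le_NCenX hg) hc, i', j', ?_, g * n * g⁻¹, ?_,
      g * y * g⁻¹, ?_, g * a * g⁻¹, ?_, ?_⟩
    · rintro rfl
      exact hij (b.R_index (cj_injective (hi'.trans hj'.symm)))
    · exact conj_ZQ b hn hi'
    · rw [← cj_EE b.toBT hg hj']
      exact conj_mem_cj hy
    · rw [← hi']
      exact conj_mem_cj ha
    · change g * n * g⁻¹ * (g * y * g⁻¹) * (g * n * g⁻¹)⁻¹ * (g * y * g⁻¹)⁻¹ = g * a * g⁻¹ * (g * c * g⁻¹)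
      calc g * n * g⁻¹ * (g * y * g⁻¹) * (g * n * g⁻¹)⁻¹ * (g * y * g⁻¹)⁻¹
          = g * (n * y * n⁻¹ * y⁻¹) * g⁻¹ := by group
        _ = _ := by rw [e]; group
  intro g hg
  rw [← cj_eq_self_iff]
  apply le_antisymm (key g hg)
  have h3 := cj_mono (g := g) (key g⁻¹ (inv_mem hg))
  rwa [cj_cj_inv] at h3

end

end Cfsg.Agent.Omega.HTwo.HatD

end
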