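import Cfsg.Agent.Mrg.Omega.BTwo.Split
import Cfsg.Agent.Omega.HTwo.EightLin


/-!
# #15507 (helper779): elementary consequences of RESULT A
-/

set_option autoImplicit false
set_option Elab.async false

namespace Cfsg.Agent.Omega.HTwo.Eight

open Subgroup Cfsg.Agent.Omega.BTwo

variable {G : Type*} [Group G]

/-! ### conjugation -/

theorem mem_Cp {p g : G} : g ∈ Cp p ↔ g * p = p * g := by
  rw [mem_centralizer_singleton_iff]

theorem cj_Cp (m p : G) : cj m (Cp p) = Cp (m * p * m⁻¹) := by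
  ext x
  rw [mem_cj, mem_Cp, mem_Cp]
  constructor
  · intro h
    calc x * (m * p * m⁻¹) = m * (m⁻¹ * x * m * p) * m⁻¹ := by group
      _ = m * (p * (m⁻¹ * x * m)) * m⁻¹ := by rw [h]
      _ = m * p * m⁻¹ * x := by group
  · intro h
    calc m⁻¹ * x * m * p = m⁻¹ * (x * (m * p * m⁻¹)) * m := by group
      _ = m⁻¹ * (m * p * m⁻¹ * x) * m := by rw [h]
      _ = p * (m⁻¹ * x * m) := by group

theorem cj_Qp (m p : G) : cj m (Qp p) = Qp (m * p * m⁻¹) := by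
  rw [Qp, cj_O2, cj_Cp]; rfl

theorem cj_Zp (m p : G) : cj m (Zp p) = Zp (m * p * m⁻¹) := by
  rw [Zp, cj_inf, ← centralizer_cj, cj_Qp]; rfl

theorem cj_Np {z m : G} (hm : m ∈ Cp z) (p : G) : cj m (Np z p) = Np z (m * p * m⁻¹) := by
  have hz : m * z = z * m := mem_Cp.1 hm
  have key : ∀ m : G, m * z = z * m → ∀ p, cj m (Np z p) ≤ Np z (m * p * m⁻¹) := by
    intro m hz p
    rw [cj, Np, MonoidHom.map_closure, closure_le]
    rintro _ ⟨_, ⟨h, hh, rfl⟩, rfl⟩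
    refine subset_closure ⟨m * h * m⁻¹, ?_, ?_⟩
    · rw [← cj_Cp]; exact conj_mem_cj hh
    · change m * (h * z * h⁻¹) * m⁻¹ = m * h * m⁻¹ * z * (m * h * m⁻¹)⁻¹
      have e : m⁻¹ * z * m = z := by rw [mul_assoc, ← hz, inv_mul_cancel_left]
      calc m * (h * z * h⁻¹) * m⁻¹ = m * h * z * h⁻¹ * m⁻¹ := by group
        _ = m * h * (m⁻¹ * z * m) * h⁻¹ * m⁻¹ := by rw [e]
        _ = m * h * m⁻¹ * z * (m * h * m⁻¹)⁻¹ := by group
  refine le_antisymm (key m hz p) ?_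
  have hz' : m⁻¹ * z = z * m⁻¹ := by
    rw [inv_mul_eq_iff_eq_mul, ← mul_assoc, hz, mul_inv_cancel_right]
  have h1 := key m⁻¹ hz' (m * p * m⁻¹)
  have e : m⁻¹ * (m * p * m⁻¹) * m⁻¹⁻¹ = p := by group
  rw [e] at h1
  have h2 := cj_mono (g := m) h1
  rwa [cj_cj_inv] at h2

theorem N_normal {z p h n : G} (hh : h ∈ Cp p) (hn : n ∈ Np z p) : h * n * h⁻¹ ∈ Np z p := by
  have h1 : Np z p ≤ cj h⁻¹ (Np z p) := by
    rw [Np, closure_le]
    rintro _ ⟨k, hk, rfl⟩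
    change k * z * k⁻¹ ∈ cj h⁻¹ (closure _)
    rw [mem_cj, inv_inv]
    refine subset_closure ⟨h * k, mul_mem hh hk, ?_⟩
    group
  have h2 := h1 hn
  rwa [mem_cj, inv_inv] at h2

theorem Q_normal {p h x : G} (hh : h ∈ Cp p) (hx : x ∈ Qp p) : h * x * h⁻¹ ∈ Qp p :=
  conj_mem_of_normalizer (le_normalizer_O2 _ hh) hx

theorem Q_le (p : G) : Qp p ≤ Cp p := O2_le _

theorem z_N (z p : G) : z ∈ Np z p := subset_closure ⟨1, one_mem _, by group⟩

theorem Z_normal {p h x : G} (hh : h ∈ Cp p) (hx : x ∈ Zp p) : h * x * h⁻¹ ∈ Zp p := by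
  refine ⟨Q_normal hh hx.1, ?_⟩
  exact conj_mem_of_normalizer
    (normalizer_le_normalizer_centralizer _ (le_normalizer_O2 (Cp p) hh)) hx.2

theorem Z_comm {p n x : G} (hn : n ∈ Zp p) (hx : x ∈ Qp p) : n * x = x * n :=
  ((mem_centralizer_iff.1 hn.2) x hx).symm

/-- `g^c` -/
def pw (g : G) (c : ZMod 2) : G := if c = 0 then 1 else g

theorem pw_zero (g : G) : pw g 0 = 1 := if_pos rfl

theorem pw_one (g : G) : pw g 1 = g := if_neg (by decide)

theorem pw_add {g : G} (hg : g * g = 1) (a b : ZMod 2) : pw g (a + b) = pw g a * pw g b := by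
  rcases z2 a with rfl | rfl
  · rw [zero_add, pw_zero, one_mul]
  · rcases z2 b with rfl | rfl
    · rw [add_zero, pw_zero, mul_one]
    · have e : (1 : ZMod 2) + 1 = 0 := by decide
      rw [e, pw_zero, pw_one, hg]

theorem pw_sq {g : G} (hg : g * g = 1) (a : ZMod 2) : pw g a * pw g a = 1 := by
  rw [← pw_add hg]
  have e : a + a = 0 := by revert a; decide
  rw [e, pw_zero]

theorem pw_inj {g : G} (hg : g ≠ 1) {a b : ZMod 2} (h : pw g a = pw g b) : a = b := by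
  rcases z2 a with rfl | rfl <;> rcases z2 b with rfl | rfl
  · rfl
  · rw [pw_zero, pw_one] at h; exact absurd h.symm hg
  · rw [pw_zero, pw_one] at h; exact absurd h hg
  · rfl

theorem pw_mem {H : Subgroup G} {g : G} (hg : g ∈ H) (a : ZMod 2) : pw g a ∈ H := by
  rcases z2 a with rfl | rfl
  · rw [pw_zero]; exact one_mem _
  · rw [pw_one]; exact hg

theorem conj_pw (x g : G) (a : ZMod 2) : x * pw g a * x⁻¹ = pw (x * g * x⁻¹) a := by
  rcases z2 a with rfl | rfl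
  · rw [pw_zero, pw_zero, mul_one, mul_inv_cancel]
  · rw [pw_one, pw_one]

namespace Res

variable {z : G} {M U : Subgroup G} {Δ : Set G} {f : G → G → ZMod 2} {t : G → G} (A : Res z M U Δ f t)
include A

theorem one_f {u : G} (hu : u ∈ U) : f 1 u = 0 := by
  have h := A.f_add 1 (one_mem _) 1 (one_mem _) u hu
  rw [mul_one] at h
  exact left_eq_add.1 h

theorem f_one {u : G} (hu : u ∈ U) : f u 1 = 0 := by
  rw [A.f_symm u hu 1 (one_mem _), A.one_f hu]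

theorem f_add' {u v w : G} (hu : u ∈ U) (hv : v ∈ U) (hw : w ∈ U) : f u (v * w) = f u v + f u w := by
  rw [A.f_symm u hu _ (mul_mem hv hw), A.f_add v hv w hw u hu, A.f_symm v hv u hu, A.f_symm w hw u hu]

theorem f_z' {u : G} (hu : u ∈ U) : f u z = 0 := by
  rw [A.f_symm u hu z A.z_U, A.f_z u hu]

theorem inv_eq {u : G} (hu : u ∈ U) : u⁻¹ = u := inv_eq_of_mul_eq_one_left (A.U_sq u hu)

theorem U_le_M : U ≤ M := A.U_le.trans (O2_le M)

theorem U_cen {p : G} (hp : p ∈ Δ) : U ≤ Cp p := fun u hu => mem_Cp.2 (A.U_comm u hu p (A.Δ_U p hp))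

theorem pz_U {p : G} (hp : p ∈ Δ) : p * z ∈ U := mul_mem (A.Δ_U p hp) A.z_U

theorem pz_sq {p : G} (hp : p ∈ Δ) : p * z * (p * z) = 1 := A.U_sq _ (A.pz_U hp)

theorem p_ne_one {p : G} (hp : p ∈ Δ) : p ≠ 1 := fun h => A.Δ_1 (h ▸ hp)

theorem p_ne_z {p : G} (hp : p ∈ Δ) : p ≠ z := fun h => A.Δ_z (h ▸ hp)

theorem pz_ne_one {p : G} (hp : p ∈ Δ) : p * z ≠ 1 := fun h => by
  apply A.p_ne_z hp
  rw [mul_eq_one_iff_eq_inv] at h
  rw [h, inv_eq_of_mul_eq_one_left A.zz]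

theorem mz {m : G} (hm : m ∈ M) : m * z = z * m := mem_Cp.1 (A.M_z hm)

theorem conj_z {m : G} (hm : m ∈ M) : m * z * m⁻¹ = z := by rw [A.mz hm, mul_inv_cancel_right]

theorem N_le_C {p : G} (hp : p ∈ Δ) : Np z p ≤ Cp p := (A.N_Z p hp).trans (inf_le_left.trans (Q_le p))

theorem N_comm {p : G} (hp : p ∈ Δ) {n m : G} (hn : n ∈ Np z p) (hm : m ∈ Np z p) : n * m = m * n :=
  Z_comm (A.N_Z p hp hn) (A.N_Z p hp hm).1

theorem Q_comm_z {p : G} (hp : p ∈ Δ) {x : G} (hx : x ∈ Qp p) : x * z = z * x :=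
  (Z_comm (A.N_Z p hp (z_N z p)) hx).symm

theorem Q_M {p : G} (hp : p ∈ Δ) : Qp p ≤ M := fun x hx =>
  A.M_p p hp ⟨Q_le p hx, mem_Cp.2 (A.Q_comm_z hp hx)⟩

theorem N_le_Q {p : G} (hp : p ∈ Δ) : Np z p ≤ Qp p := (A.N_Z p hp).trans inf_le_left

theorem N_M {p : G} (hp : p ∈ Δ) : Np z p ≤ M := (A.N_le_Q hp).trans (A.Q_M hp)

theorem N_inv {p : G} (hp : p ∈ Δ) {n : G} (hn : n ∈ Np z p) : n⁻¹ = n :=
  inv_eq_of_mul_eq_one_left (A.N_sq p hp n hn)

theorem t_N {p : G} (hp : p ∈ Δ) : t p ∈ Np z p := by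
  obtain ⟨h, hh, e⟩ := A.t_ZZ p hp
  exact subset_closure ⟨h, hh, e⟩

theorem t_M {p : G} (hp : p ∈ Δ) : t p ∈ M := A.N_M hp (A.t_N hp)

theorem t_inv {p : G} (hp : p ∈ Δ) : (t p)⁻¹ = t p := A.N_inv hp (A.t_N hp)

/-- the action of `t p` -/
theorem t_act {p : G} (hp : p ∈ Δ) {u : G} (hu : u ∈ U) : t p * u * (t p)⁻¹ = u * pw (p * z) (f p u) := by
  rcases z2 (f p u) with h | h
  · rw [h, pw_zero, mul_one, A.t_0 p hp u hu h, mul_inv_cancel_right]
  · rw [h, pw_one, A.t_1 p hp u hu h]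

/-- `u^{t_p}` on `u ∈ U`, the other way round -/
theorem u_act {p : G} (hp : p ∈ Δ) {u : G} (hu : u ∈ U) : u * t p * u⁻¹ = t p * pw (p * z) (f p u) := by
  have h1 := A.t_act hp hu
  have h2 : (t p)⁻¹ * u * t p = u * pw (p * z) (f p u) := by
    rw [A.t_inv hp] at h1 ⊢
    exact h1
  calc u * t p * u⁻¹ = t p * ((t p)⁻¹ * u * t p) * u⁻¹ := by group
    _ = t p * (u * pw (p * z) (f p u)) * u⁻¹ := by rw [h2]
    _ = t p * (pw (p * z) (f p u) * u) * u⁻¹ := by rw [A.U_comm u hu _ (pw_mem (A.pz_U hp) _)]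
    _ = t p * pw (p * z) (f p u) := by group

/-- `p ∉ Rad f` -/
theorem exists_f1 {p : G} (hp : p ∈ Δ) : ∃ u ∈ U, f p u = 1 := by
  by_contra hcon
  push Not at hcon
  have h1 : ∀ v ∈ U, f p v = 0 := fun v hv => (z2 (f p v)).resolve_right (hcon v hv)
  rcases A.f_rad p (A.Δ_U p hp) h1 with h | h
  · exact A.p_ne_one hp h
  · exact A.p_ne_z hp h

/-- `p ∉ Rad f` -/
theorem exists_q1 {p : G} (hp : p ∈ Δ) : ∃ q ∈ Δ, f p q = 1 := by
  obtain ⟨u, hu, h1⟩ := A.exists_f1 hp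
  have hpU := A.Δ_U p hp
  rcases A.cover u hu with rfl | rfl | h | h
  · rw [A.f_one hpU] at h1; exact absurd h1 (by decide)
  · rw [A.f_z' hpU] at h1; exact absurd h1 (by decide)
  · exact ⟨u, h, h1⟩
  · exact ⟨u * z, h, by rw [A.f_add' hpU hu A.z_U, A.f_z' hpU, add_zero, h1]⟩

theorem p_N {p : G} (hp : p ∈ Δ) : p ∈ Np z p := by
  obtain ⟨u, hu, h1⟩ := A.exists_f1 hp
  have h2 := A.u_act hp hu
  rw [h1, pw_one] at h2
  have h3 : p * z = (t p)⁻¹ * (u * t p * u⁻¹) := by rw [h2]; group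
  have h4 : p * z ∈ Np z p := by
    rw [h3]
    exact mul_mem (inv_mem (A.t_N hp)) (N_normal (A.U_cen hp hu) (A.t_N hp))
  have h5 := mul_mem h4 (z_N z p)
  rwa [mul_assoc, A.zz, mul_one] at h5

theorem CN_le {p : G} (hp : p ∈ Δ) : Kp z p ≤ Cp p := fun g hg =>
  mem_Cp.2 ((mem_centralizer_iff.1 hg) p (A.p_N hp)).symm

theorem CN_le_M {p : G} (hp : p ∈ Δ) : Kp z p ≤ M := fun g hg =>
  A.M_p p hp ⟨A.CN_le hp hg, mem_Cp.2 ((mem_centralizer_iff.1 hg) z (z_N z p)).symm⟩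

theorem K_normal {p h k : G} (hh : h ∈ Cp p) (hk : k ∈ Kp z p) : h * k * h⁻¹ ∈ Kp z p := by
  have _ := A
  rw [mem_centralizer_iff] at hk ⊢
  intro n hn
  have h1 := hk (h⁻¹ * n * h) (by
    have := N_normal (z := z) (inv_mem hh) hn
    rwa [inv_inv] at this)
  calc n * (h * k * h⁻¹) = h * (h⁻¹ * n * h * k) * h⁻¹ := by group
    _ = h * (k * (h⁻¹ * n * h)) * h⁻¹ := by rw [h1]
    _ = h * k * h⁻¹ * n := by group

/-- a normal 2-subgroup of `K_p` is in `Q_p` -/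
theorem le_Q_of_K {p : G} (hp : p ∈ Δ) {B : Subgroup G} (hB : B ≤ Kp z p) (h2 : IsPGroup 2 B)
    (hn : ∀ k ∈ Kp z p, ∀ b ∈ B, k * b * k⁻¹ ∈ B) : B ≤ Qp p :=
  le_O2_of_chain hB (A.CN_le hp) le_rfl h2 hn (fun _ hc _ hb => A.K_normal hc hb)
    (fun _ hg _ hc => mul_mem (mul_mem hg hc) (inv_mem hg))

/-- elements of `O_M` centralising `N_p` are in `Q_p` -/
theorem O_inf_K {p : G} (hp : p ∈ Δ) {x : G} (hx : x ∈ O2 M) (hk : x ∈ Kp z p) : x ∈ Qp p := by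
  have h1 : O2 M ⊓ Kp z p ≤ Qp p := by
    refine A.le_Q_of_K hp inf_le_right ((O2_isPGroup M).to_le inf_le_left) ?_
    rintro k hk b ⟨hb1, hb2⟩
    exact ⟨conj_mem_of_normalizer (le_normalizer_O2 M (A.CN_le_M hp hk)) hb1,
      (Kp z p).mul_mem ((Kp z p).mul_mem hk hb2) ((Kp z p).inv_mem hk)⟩
  exact h1 ⟨hx, hk⟩

/-- an element of `N_p` centralises `U` or acts like `t_p` -/
theorem act_or {p : G} (hp : p ∈ Δ) {n : G} (hn : n ∈ Np z p) :
    (∀ u ∈ U, n * u = u * n) ∨ ∀ u ∈ U, n * u * n⁻¹ = u * pw (p * z) (f p u) := by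
  by_cases h0 : ∀ u ∈ U, n * u = u * n
  · exact Or.inl h0
  refine Or.inr ?_
  push Not at h0
  obtain ⟨v, hv, hne⟩ := h0
  -- elements with `f p u = 0`
  have h00 : ∀ u ∈ U, f p u = 0 → n * u * n⁻¹ = u := by
    intro u hu h
    rw [Z_comm (A.N_Z p hp hn) ((A.Q_f p hp u hu).2 h), mul_inv_cancel_right]
  have hv1 : f p v = 1 := by
    refine (z2 _).resolve_left fun h => hne ?_
    have := h00 v hv h
    rwa [mul_inv_eq_iff_eq_mul] at this
  have hnv : n * v * n⁻¹ = v * (p * z) := by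
    refine (A.N_act p hp n hn v hv).resolve_left fun h => hne ?_
    rwa [mul_inv_eq_iff_eq_mul] at h
  intro u hu
  rcases z2 (f p u) with h | h
  · rw [h, pw_zero, mul_one, h00 u hu h]
  · rw [h, pw_one]
    have h1 : f p (u * v) = 0 := by
      rw [A.f_add' (A.Δ_U p hp) hu hv, h, hv1]; decide
    have h2 := h00 _ (mul_mem hu hv) h1
    have h3 : n * u * n⁻¹ * (n * v * n⁻¹) = u * v := by rw [← h2]; group
    rw [hnv] at h3
    have h4 : n * u * n⁻¹ = u * v * (v * (p * z))⁻¹ := by rw [← h3]; group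
    rw [h4, mul_inv_rev, A.inv_eq hv, A.inv_eq (A.pz_U hp), A.U_comm _ (A.pz_U hp) v hv]
    calc u * v * (v * (p * z)) = u * (v * v) * (p * z) := by group
      _ = u * (p * z) := by rw [A.U_sq v hv, mul_one]

end Res

end Cfsg.Agent.Omega.HTwo.Eight
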