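import Cfsg.Agent.Mrg.Omega.HOne.Cut
import Cfsg.Agent.Mrg.Omega.HOneTwo.TransMain
import Cfsg.Agent.Mrg.Omega.HTwo.EightTwo
import Cfsg.Agent.Mrg.Omega.HTwo.TSMain


/-!
# II.0h1, `q = 2`: the position `Pos` and the transvection statement `TSz` give `TS` and `Eight.Res`

`p : Pos S P V R o r z`, `h : TSz V R o r z`, `M = MP V R o z = ⟨N(R o) ∩ C(z), X⟩`:

* `TSPos.gg p i` : the involution of `R i`, `gg_o : gg p o = r`, `N_gg : N(R i) = C(gg p i)`;
* `TSPos.S_M`, `TSPos.isLoc_M`, `TSPos.char2`, `TSPos.gn_eq`, `TSPos.U_zc` : `U = ⟨r^M⟩ ≤ Ω₁(Z(O₂(M)))`;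
* `TSPos.ts p h : TS G` with `z, M, r 0 = r, Q = Qp, C = CenX V R`; `TSPos.res p h : Res z M U Δ f tz`.
-/

set_option autoImplicit false
set_option linter.unusedSectionVars false

namespace Cfsg.Agent.Omega.HTwo.TSPos

open Subgroup Cfsg Cfsg.Agent.ZN Cfsg.Agent.Omega.MinPar
open Cfsg.Agent.Omega.BTwo Cfsg.Agent.Omega.HOneTwo Cfsg.Agent.Omega.HTwo.Hat
open Cfsg.Agent.Omega.HTwo.Entry (Pos)
open Cfsg.Agent.Omega.HTwo.AlphaP (MP)
open Cfsg.Agent.Omega.HOne.Cut (TSz)
open Cfsg.Agent.Omega.HOneTwo.Trans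
open Cfsg.Agent.Omega.HTwo.Eight (Qp Cp Res)

universe u v

variable {G : Type u} [Group G] [Finite G] {S : Sylow 2 G} {P V : Subgroup G} {ι : Type v}
  {R : ι → Subgroup G} {o : ι} {r z : G}

section

variable (p : Pos S P V R o r z)
include p

/-! ### the involutions of the points -/

theorem exists_gg (i : ι) : ∃ g, g ≠ 1 ∧ g * g = 1 ∧ ∀ x, x ∈ R i ↔ x = 1 ∨ x = g := p.toHT.exists_gen i

/-- the involution of `R i` -/
noncomputable def gg (i : ι) : G := (exists_gg p i).choose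

theorem gg_ne (i : ι) : gg p i ≠ 1 := (exists_gg p i).choose_spec.1

theorem gg_sq (i : ι) : gg p i * gg p i = 1 := (exists_gg p i).choose_spec.2.1

theorem gg_iff (i : ι) (x : G) : x ∈ R i ↔ x = 1 ∨ x = gg p i := (exists_gg p i).choose_spec.2.2 x

theorem gg_mem (i : ι) : gg p i ∈ R i := (gg_iff p i _).2 (Or.inr rfl)

theorem gg_V (i : ι) : gg p i ∈ V := p.R_le i (gg_mem p i)

theorem gg_o : gg p o = r := ((p.r_iff _).1 (gg_mem p o)).resolve_left (gg_ne p o)

/-- `N(R i) = C(gg i)` -/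
theorem N_gg (i : ι) : normalizer (R i : Set G) = Cp (gg p i) := by
  apply le_antisymm
  · intro x hx
    rw [mem_centralizer_singleton_iff]
    exact (mem_centralizer_iff.1 (normalizer_le_cen_of_card (p.card_R i) hx) _ (gg_mem p i)).symm
  · intro x hx
    rw [mem_centralizer_singleton_iff] at hx
    refine centralizer_le_normalizer _ ?_
    rw [mem_centralizer_iff]
    intro y hy
    rcases (gg_iff p i y).1 hy with rfl | rfl
    · rw [one_mul, mul_one]
    · exact hx.symm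

theorem QQ_eq (i : ι) : QQ (R i) = Qp (gg p i) := by
  unfold Qp
  rw [← N_gg p i]

theorem QQ_o : QQ (R o) = Qp r := by rw [QQ_eq p, gg_o]

theorem ZQ_eq (i : ι) : ZQ R i = zt (Qp (gg p i)) := by
  unfold ZQ zt
  rw [QQ_eq p i]

/-! ### `M` -/

theorem z_zc : z ∈ zc (S : Subgroup G) := p.z_mem.1

theorem S_M : (S : Subgroup G) ≤ MP V R o z :=
  (le_inf p.S_R fun s hs => mem_centralizer_singleton_iff.2 ((mem_zc.1 (z_zc p)).2.1 s hs)).trans le_sup_left

theorem M_cz : MP V R o z ≤ centralizer ({z} : Set G) := AlphaP.MP_le p.toHT p.r_iff p.z_mem p.z_ne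

theorem isLoc_M : IsLoc (S : Subgroup G) (MP V R o z) :=
  (p.isLoc_cen (z_zc p) p.z_ne).of_le S (S_M p) (M_cz p)

theorem X_M : XX V R ≤ MP V R o z := le_sup_right

theorem K_M : normalizer (R o : Set G) ⊓ centralizer ({z} : Set G) ≤ MP V R o z := le_sup_left

/-- `C_M(O₂(M)) ≤ O₂(M)` -/
theorem char2_M : MP V R o z ⊓ centralizer (O2 (MP V R o z) : Set G) ≤ O2 (MP V R o z) :=
  (isLoc_M p).char2 S p.char2

theorem gn_eq : gn (MP V R o z) r = cl (R o) (MP V R o z) := by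
  apply le_antisymm
  · unfold gn
    rw [closure_le]
    rintro _ ⟨m, hm, rfl⟩
    exact cj_le_cl hm (conj_mem_cj p.r_mem)
  · refine cl_le ?_ ?_
    · intro x hx
      rcases (p.r_iff x).1 hx with rfl | rfl
      · exact one_mem _
      · exact self_mem_gn _ _
    · intro g hg
      exact mem_normalizer_of_conj fun x hx => gn_inv hg hx

theorem U_zc : gn (MP V R o z) r ≤ zc (O2 (MP V R o z)) := by
  rw [gn_eq p, p.cl_R_eq (p.trans_of_X (X_M p))]
  exact p.cl_V_le (isLoc_M p) (p.trans_of_X (X_M p))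

theorem V_U : V ≤ gn (MP V R o z) r := by
  rw [gn_eq p, p.cl_R_eq (p.trans_of_X (X_M p))]
  exact le_cl _ _

theorem cen_iff {X : Subgroup G} {b : G} : b ∈ centralizer (X : Set G) ↔ ∀ u ∈ X, b * u = u * b := by
  rw [mem_centralizer_iff]
  exact ⟨fun h u hu => (h u hu).symm, fun h u hu => (h u hu).symm⟩

/-- `O₂(M / C_M(U)) = 1` -/
theorem o2_M (B : Subgroup G) (hB : B ≤ MP V R o z) (hn : ∀ m ∈ MP V R o z, ∀ b ∈ B, m * b * m⁻¹ ∈ B)
    (hc : ∀ b ∈ B, ∀ u ∈ gn (MP V R o z) r, b * b * u = u * (b * b)) :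
    ∀ b ∈ B, ∀ u ∈ gn (MP V R o z) r, b * u = u * b := by
  have h1 := AlphaOne.core_of_sylow (U := gn (MP V R o z) r) (O := B) (p := r) S (S_M p)
    (fun g hg => mem_normalizer_of_conj fun x hx => gn_inv hg hx) (self_mem_gn _ _)
    (fun t ht => (mem_centralizer_singleton_iff.1 (by rw [← p.normalizer_eq]; exact p.S_R ht)).symm)
    (by
      unfold gn
      rw [closure_le]
      rintro _ ⟨m, hm, rfl⟩
      exact subset_closure ⟨m, hm, rfl⟩) hB
    (fun g hg => mem_normalizer_of_conj fun x hx => hn g hg x hx)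
    (fun x hx => ⟨1, by rw [pow_one, pow_two]; exact (cen_iff p).2 (hc x hx)⟩)
  exact fun b hb => (cen_iff p).1 (h1 hb)

/-! ### the three points -/

theorem exists_rho : ∃ ρ : Fin 3 → ι, ρ 0 = o ∧ Function.Injective ρ := by
  obtain ⟨j, k, hj, hk, hjk⟩ := p.toHT.one_lt
  refine ⟨![o, j, k], rfl, ?_⟩
  intro a b hab
  fin_cases a <;> fin_cases b <;> first
    | rfl
    | exact absurd hab hj
    | exact absurd hab hk
    | exact absurd hab hjk
    | exact absurd hab.symm hj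
    | exact absurd hab.symm hk
    | exact absurd hab.symm hjk

/-- an enumeration of the points with `ρ 0 = o` -/
noncomputable def rho : Fin 3 → ι := (exists_rho p).choose

theorem rho_zero : rho p 0 = o := (exists_rho p).choose_spec.1

theorem rho_inj : Function.Injective (rho p) := (exists_rho p).choose_spec.2

theorem rho_ne {i j : Fin 3} (h : i ≠ j) : rho p i ≠ rho p j := fun e => h (rho_inj p e)

theorem gg_prod {i j k : ι} (hij : i ≠ j) (hik : i ≠ k) (hjk : j ≠ k) : gg p i * gg p j * gg p k = 1 := by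
  have h1 := AlphaOne.mul_mem_third p.toHT hij hik hjk (gg_mem p j) (gg_ne p j) (gg_mem p k) (gg_ne p k)
  have hk : (gg p k)⁻¹ = gg p k := inv_eq_of_mul_eq_one_left (gg_sq p k)
  rw [hk] at h1
  have h2 : gg p j * gg p k = gg p i := by
    refine ((gg_iff p i _).1 h1).resolve_left fun e => ?_
    rw [mul_eq_one_iff_eq_inv, hk] at e
    exact gg_ne p j (p.eq_one hjk (gg_mem p j) (by rw [e]; exact gg_mem p k))
  rw [mul_assoc, h2, gg_sq]

/-! ### the structure `TS` -/

theorem gg_Dl (i : ι) : gg p i ∈ Dl (MP V R o z) r := by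
  obtain ⟨c, hc, e⟩ := AlphaP.exists_conj_X p.toHT p.r_iff (gg_V p i) (gg_ne p i)
  exact ⟨c, X_M p hc, e.symm⟩

/-- **`Pos` and `TSz` give `TS`** -/
noncomputable def ts (h : TSz V R o r z) : TS G where
  z := z
  M := MP V R o z
  r := fun i => gg p (rho p i)
  Q := Qp
  C := CenX V R
  z_sq := p.z_sq
  z_ne := p.z_ne
  r_prod := gg_prod p (rho_ne p (by decide)) (rho_ne p (by decide)) (rho_ne p (by decide))
  M_z := fun m hm => mem_centralizer_singleton_iff.1 (M_cz p hm)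
  M_r := by
    intro g h1 h2
    rw [rho_zero, gg_o] at h1
    refine K_M p ⟨?_, mem_centralizer_singleton_iff.2 h2⟩
    rw [p.normalizer_eq]
    exact mem_centralizer_singleton_iff.2 h1
  r_Δ := by
    intro i
    rw [rho_zero, gg_o]
    exact gg_Dl p _
  U_sq := by
    intro u hu
    rw [rho_zero, gg_o] at hu
    rw [← pow_two]
    exact (mem_zc.1 (U_zc p hu)).2.2
  Q_conj := by
    intro g q x hx
    rw [← Eight.cj_Qp]
    exact conj_mem_cj hx
  Q_cent := by
    intro x hx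
    rw [rho_zero, gg_o] at hx ⊢
    exact Eight.mem_Cp.1 (Eight.Q_le _ hx)
  Q_der := by
    intro x hx y hy
    rw [rho_zero, gg_o, ← QQ_o p] at hx hy
    rw [rho_zero, gg_o]
    have h1 := ThmA.Q_comm p.toHT.toBTS (p.le_all o) hx hy
    rcases (p.r_iff _).1 h1 with h2 | h2
    · left
      calc x * y = x * y * x⁻¹ * y⁻¹ * (y * x) := by group
        _ = y * x := by rw [h2, one_mul]
    · right
      calc x * y = x * y * x⁻¹ * y⁻¹ * (y * x) := by group
        _ = r * (y * x) := by rw [h2]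
  r_Q := by
    intro i j
    rw [← QQ_eq p]
    exact p.V_Q _ (gg_V p _)
  C_le := by
    intro i
    rw [← ZQ_eq p]
    exact cenX_le_ZQ p.toHT.toBTS p.le_all _
  le_C := by
    intro i j hij
    rw [← ZQ_eq p, ← ZQ_eq p]
    exact (ZQ_inf p.toHT.toBTS p.le_all (rho_ne p hij)).le
  z_C := p.z_cenX
  r_C := by
    intro i hi
    have h1 : gg p (rho p i) ∈ CenX V R ⊓ V := ⟨hi, gg_V p _⟩
    rw [p.CenX_inf_V, mem_bot] at h1
    exact gg_ne p _ h1
  a := by
    intro i j hij x hx hxj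
    rw [← ZQ_eq p] at hx
    rw [← QQ_eq p] at hxj
    obtain ⟨a, ha, h1⟩ := ZQ_Q p.toHT.toBTS (rho_ne p hij) hx hxj
    rcases (gg_iff p _ a).1 ha with h2 | h2
    · left; rwa [h2, one_mul] at h1
    · right; rwa [h2] at h1
  b := by
    intro i j _ x hx y hy
    rw [← ZQ_eq p] at hx hy
    exact HatD.ZQ_ZQ p.toHT.toBTS hx hy
  ts_idx := by
    intro u hu u' hu' h1 h2
    rw [rho_zero, gg_o] at hu hu' h1 h2 ⊢
    rw [← QQ_o p] at h1 h2 ⊢
    exact h.idx u hu u' hu' h1 h2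
  ts_act := by
    intro u hu n hn
    rw [rho_zero, gg_o] at hu hn ⊢
    exact h.act u hu n hn
  ts_ne := by
    obtain ⟨u, hu, n, hn, h1⟩ := h.ne
    refine ⟨u, ?_, n, ?_, h1⟩
    · rw [rho_zero, gg_o]; exact hu
    · rw [rho_zero, gg_o]; exact hn
  o2 := by
    rw [rho_zero, gg_o]
    exact o2_M p

variable (h : TSz V R o r z)

theorem ts_z : (ts p h).z = z := rfl

theorem ts_M : (ts p h).M = MP V R o z := rfl

theorem ts_r : (ts p h).r 0 = r := by
  change gg p (rho p 0) = r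
  rw [rho_zero, gg_o]

theorem ts_U : (ts p h).U = gn (MP V R o z) r := by
  change gn (ts p h).M ((ts p h).r 0) = _
  rw [ts_r, ts_M]

theorem ts_Δ : (ts p h).Δ = Dl (MP V R o z) r := by
  change Dl (ts p h).M ((ts p h).r 0) = _
  rw [ts_r, ts_M]

/-- **`Pos` and `TSz` give `Res`** -/
theorem res : Res z (MP V R o z) (gn (MP V R o z) r) (Dl (MP V R o z) r) (ts p h).f (ts p h).tz := by
  have h1 := (ts p h).res (fun _ => rfl) (by
    intro c hc u hu
    rw [ts_U] at hu
    exact (mem_zc.1 (U_zc p hu)).2.1 c hc) (by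
    rw [ts_U]
    exact (U_zc p).trans (zc_le _))
  rw [ts_U, ts_Δ] at h1
  exact h1

end

end Cfsg.Agent.Omega.HTwo.TSPos
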