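import Cfsg.Agent.Mrg.Omega.HTwo.EightThree


/-!
# #15507 (helper779) (6)(ii): `H_r / Q_r = L_r / Q_r × K_r / Q_r`, `L_r / Q_r = S_3`
-/

set_option autoImplicit false
set_option Elab.async false

namespace Cfsg.Agent.Omega.HTwo.Eight

open Subgroup Cfsg.Agent.Omega.BTwo

/-- the group `⟨s, c⟩` with the braid relation -/
theorem six {X : Type*} [Group X] {s c : X} (hs : s * s = 1) (hc : c * c = 1) (hb : c * s * c = s * c * s) :
    ∀ x ∈ closure ({s, c} : Set X), x = 1 ∨ x = s ∨ x = c ∨ x = s * c ∨ x = c * s ∨ x = s * c * s := by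
  have hs' : s⁻¹ = s := inv_eq_of_mul_eq_one_left hs
  have hc' : c⁻¹ = c := inv_eq_of_mul_eq_one_left hc
  have key : ∀ x, x = s ∨ x = c → ∀ y, (y = 1 ∨ y = s ∨ y = c ∨ y = s * c ∨ y = c * s ∨ y = s * c * s) →
      (x * y = 1 ∨ x * y = s ∨ x * y = c ∨ x * y = s * c ∨ x * y = c * s ∨ x * y = s * c * s) := by
    have h1 : s * (s * c) = c := by rw [← mul_assoc, hs, one_mul]
    have h2 : s * (s * c * s) = c * s := by rw [← mul_assoc, ← mul_assoc, hs, one_mul]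
    have h3 : c * (s * c) = s * c * s := by rw [← mul_assoc, hb]
    have h4 : c * (c * s) = s := by rw [← mul_assoc, hc, one_mul]
    have h5 : c * (s * c * s) = s * c := by rw [← hb, ← mul_assoc, ← mul_assoc, hc, one_mul]
    have h6 : s * (c * s) = s * c * s := by rw [mul_assoc]
    rintro x (rfl | rfl) y (rfl | rfl | rfl | rfl | rfl | rfl)
    all_goals simp only [mul_one, hs, hc, h1, h2, h3, h4, h5, h6]
    all_goals simp
  intro x hx
  induction hx using closure_induction_left with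
  | one => exact Or.inl rfl
  | mul_left x hx y _ ih => exact key x hx y ih
  | inv_mul_cancel x hx y _ ih =>
    have e : x⁻¹ = x := by
      rcases hx with rfl | rfl
      · exact hs'
      · exact hc'
    rw [e]
    exact key x hx y ih

variable {G : Type*} [Group G]

/-- a set of `n` coset representatives -/
theorem card_of_cosets {n : ℕ} {A B : Subgroup G} (w : Fin n → G) (hw : ∀ i, ∀ a ∈ A, w i * a ∈ B)
    (hinj : ∀ i j, ∀ a ∈ A, w i * a = w j → i = j) (hcov : ∀ b ∈ B, ∃ i, (w i)⁻¹ * b ∈ A) :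
    Nat.card B = n * Nat.card A := by
  let F : Fin n × A → B := fun x => ⟨w x.1 * x.2, hw x.1 x.2 x.2.2⟩
  have h1 : Function.Injective F := by
    rintro ⟨i, a⟩ ⟨j, b⟩ h
    have h2 : w i * (a : G) = w j * (b : G) := congrArg Subtype.val h
    have h3 : i = j := hinj i j ((a : G) * (b : G)⁻¹) (mul_mem a.2 (inv_mem b.2)) (by
      rw [← mul_assoc, h2, mul_inv_cancel_right])
    subst h3
    rw [Prod.mk.injEq]
    exact ⟨rfl, Subtype.ext (mul_left_cancel h2)⟩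
  have h2 : Function.Surjective F := by
    rintro ⟨b, hb⟩
    obtain ⟨i, hi⟩ := hcov b hb
    exact ⟨(i, ⟨_, hi⟩), Subtype.ext (mul_inv_cancel_left _ _)⟩
  rw [← Nat.card_congr (Equiv.ofBijective F ⟨h1, h2⟩), Nat.card_prod, Nat.card_eq_fintype_card, Fintype.card_fin]

namespace Res

variable {z : G} {M U : Subgroup G} {Δ : Set G} {f : G → G → ZMod 2} {t : G → G} (A : Res z M U Δ f t)
include A

theorem cj_U_M {m : G} (hm : m ∈ M) : cj m U = U := by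
  apply le_antisymm
  · exact cj_le_iff.2 (A.U_M m hm)
  · intro u hu
    rw [mem_cj]
    have := A.U_M m⁻¹ (inv_mem hm) u hu
    rwa [inv_inv] at this

theorem stab {r : G} (hr : r ∈ Δ) {h : G} (hh : h ∈ Cp r) (e : h * z * h⁻¹ = z) : h ∈ M :=
  A.M_p r hr ⟨hh, mem_Cp.2 (by rwa [mul_inv_eq_iff_eq_mul] at e)⟩

/-- `U_y` for `y = z^h` depends only on `y` -/
theorem cj_U_eq {r : G} (hr : r ∈ Δ) {h k : G} (hh : h ∈ Cp r) (hk : k ∈ Cp r)
    (e : h * z * h⁻¹ = k * z * k⁻¹) : cj h U = cj k U := by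
  have h1 : k⁻¹ * h ∈ M := A.stab hr (mul_mem (inv_mem hk) hh) (by
    calc k⁻¹ * h * z * (k⁻¹ * h)⁻¹ = k⁻¹ * (h * z * h⁻¹) * k := by group
      _ = k⁻¹ * (k * z * k⁻¹) * k := by rw [e]
      _ = z := by group)
  have h2 := congrArg (cj k) (A.cj_U_M h1)
  rw [← cj_mul] at h2
  rwa [mul_inv_cancel_left] at h2

theorem mem_K (h3 : Three z Δ t) {r : G} (hr : r ∈ Δ) {g : G} :
    g ∈ Kp z r ↔ g * r = r * g ∧ g * z = z * g ∧ g * t r = t r * g := by
  rw [mem_centralizer_iff]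
  constructor
  · intro h
    exact ⟨(h r (A.p_N hr)).symm, (h z (z_N z r)).symm, (h _ (A.t_N hr)).symm⟩
  · rintro ⟨h1, h2, h4⟩ n hn
    have e1 : Commute g r := h1
    have e2 : Commute g z := h2
    have e4 : Commute g (t r) := h4
    have key : Commute g n := by
      rcases A.N_mem h3 hr hn with (h | h | h | h) | (h | h | h | h) <;> rw [h]
      · exact Commute.one_right g
      · exact e1
      · exact e2
      · exact e1.mul_right e2
      · exact e4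
      · exact e1.mul_right e4
      · exact e2.mul_right e4
      · exact (e1.mul_right e2).mul_right e4
    exact key.symm.eq

theorem Q_le_K {r : G} (hr : r ∈ Δ) : Qp r ≤ Kp z r := fun x hx => by
  rw [mem_centralizer_iff]
  exact fun n hn => Z_comm (A.N_Z r hr hn) hx

theorem Q_le_L (r : G) : Qp r ≤ Lp U r := le_sup_right

theorem cj_U_le_L {r h : G} (hh : h ∈ Cp r) : cj h U ≤ Lp U r :=
  (le_iSup (fun h : Cp r => cj (h : G) U) ⟨h, hh⟩).trans le_sup_left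

theorem U_le_L {r : G} : U ≤ Lp U r := by
  have := A.cj_U_le_L (one_mem (Cp r))
  rwa [cj_one] at this

theorem L_le {r : G} (hr : r ∈ Δ) : Lp U r ≤ Cp r := by
  refine sup_le (iSup_le fun h => ?_) (Q_le r)
  rw [cj_le_iff]
  exact fun u hu => mul_mem (mul_mem h.2 (A.U_cen hr hu)) (inv_mem h.2)

/-- `u ∈ U` and `t_r` commute iff `f(r, u) = 0` -/
theorem U_t {r : G} (hr : r ∈ Δ) {u : G} (hu : u ∈ U) (h : u * t r = t r * u) : f r u = 0 := by
  have h1 := A.u_act hr hu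
  rw [h, mul_inv_cancel_right] at h1
  rcases z2 (f r u) with h2 | h2
  · exact h2
  · rw [h2, pw_one] at h1
    exact absurd (left_eq_mul.1 h1) (A.pz_ne_one hr)

theorem K_U_Q {r : G} (hr : r ∈ Δ) {u : G} (hu : u ∈ U) (hk : u ∈ Kp z r) : u ∈ Qp r :=
  (A.Q_f r hr u hu).2 (A.U_t hr hu ((mem_centralizer_iff.1 hk) _ (A.t_N hr)).symm)

/-- `[K_r, U] ≤ Q_r` -/
theorem KU {r : G} (hr : r ∈ Δ) {k u : G} (hk : k ∈ Kp z r) (hu : u ∈ U) : k * u * k⁻¹ * u⁻¹ ∈ Qp r := by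
  refine A.K_U_Q hr (mul_mem (A.U_M k (A.CN_le_M hr hk) u hu) (inv_mem hu)) ?_
  have h1 := A.K_normal (A.U_cen hr hu) ((Kp z r).inv_mem hk)
  have e : k * u * k⁻¹ * u⁻¹ = k * (u * k⁻¹ * u⁻¹) := by group
  rw [e]
  exact (Kp z r).mul_mem hk h1

/-- `[K_r, L_r] ≤ Q_r` -/
theorem KL {r : G} (hr : r ∈ Δ) {k l : G} (hk : k ∈ Kp z r) (hl : l ∈ Lp U r) :
    k * l * k⁻¹ * l⁻¹ ∈ Qp r := by
  let T : Subgroup G :=
    { carrier := {l | l ∈ Cp r ∧ ∀ k ∈ Kp z r, k * l * k⁻¹ * l⁻¹ ∈ Qp r}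
      one_mem' := ⟨one_mem _, fun k _ => by
        have e : k * 1 * k⁻¹ * 1⁻¹ = 1 := by group
        rw [e]; exact one_mem _⟩
      mul_mem' := by
        rintro a b ⟨ha, ha'⟩ ⟨hb, hb'⟩
        refine ⟨mul_mem ha hb, fun k hk => ?_⟩
        have e : k * (a * b) * k⁻¹ * (a * b)⁻¹ = (k * a * k⁻¹ * a⁻¹) * (a * (k * b * k⁻¹ * b⁻¹) * a⁻¹) := by group
        rw [e]
        exact mul_mem (ha' k hk) (Q_normal ha (hb' k hk))
      inv_mem' := by
        rintro a ⟨ha, ha'⟩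
        refine ⟨inv_mem ha, fun k hk => ?_⟩
        have e : k * a⁻¹ * k⁻¹ * a⁻¹⁻¹ = (a⁻¹ * (k * a * k⁻¹ * a⁻¹) * a⁻¹⁻¹)⁻¹ := by group
        rw [e]
        exact inv_mem (Q_normal (inv_mem ha) (ha' k hk)) }
  have hT : Lp U r ≤ T := by
    refine sup_le (iSup_le fun h => ?_) ?_
    · rw [cj_le_iff]
      intro u hu
      refine ⟨mul_mem (mul_mem h.2 (A.U_cen hr hu)) (inv_mem h.2), fun k hk => ?_⟩
      have h1 : (h : G)⁻¹ * k * h ∈ Kp z r := by
        have := A.K_normal (inv_mem h.2) hk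
        rwa [inv_inv] at this
      have h2 := Q_normal h.2 (A.KU hr h1 hu)
      have e : (h : G) * ((h : G)⁻¹ * k * h * u * ((h : G)⁻¹ * k * h)⁻¹ * u⁻¹) * (h : G)⁻¹ =
          k * (h * u * (h : G)⁻¹) * k⁻¹ * (h * u * (h : G)⁻¹)⁻¹ := by group
      rwa [e] at h2
    · intro x hx
      refine ⟨Q_le r hx, fun k hk => ?_⟩
      exact mul_mem (Q_normal (A.CN_le hr hk) hx) (inv_mem hx)
  exact (hT hl).2 k hk

/-- the two involutions generating `L_r / Q_r` -/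
theorem exists_ua (h3 : Three z Δ t) {r : G} (hr : r ∈ Δ) :
    ∃ u ∈ U, ∃ h0 ∈ Cp r, ∃ a ∈ cj h0 U, h0 * z * h0⁻¹ = t r ∧ f r u = 1 ∧ a = h0 * u * h0⁻¹ ∧
      u * t r * u⁻¹ = r * z * t r ∧ a * t r * a⁻¹ = t r ∧ a * z * a⁻¹ = r * z * t r ∧ a ∈ Cp r := by
  obtain ⟨u, hu, h1⟩ := A.exists_f1 hr
  obtain ⟨h0, hh0, e0⟩ := A.t_ZZ r hr
  have hU : u * t r * u⁻¹ = r * z * t r := by
    rw [A.u_act hr hu, h1, pw_one]
    exact A.N_comm hr (A.t_N hr) (mul_mem (A.p_N hr) (z_N z r))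
  refine ⟨u, hu, h0, hh0, h0 * u * h0⁻¹, conj_mem_cj hu, e0.symm, h1, rfl, hU, ?_, ?_,
    mul_mem (mul_mem hh0 (A.U_cen hr hu)) (inv_mem hh0)⟩
  · rw [e0]
    have h2 := A.U_comm u hu z A.z_U
    calc h0 * u * h0⁻¹ * (h0 * z * h0⁻¹) * (h0 * u * h0⁻¹)⁻¹ = h0 * (u * z) * u⁻¹ * h0⁻¹ := by group
      _ = h0 * (z * u) * u⁻¹ * h0⁻¹ := by rw [h2]
      _ = h0 * z * h0⁻¹ := by group
  · -- `y₁ = h0⁻¹ z h0`
    have hr0 : h0 * r * h0⁻¹ = r := by rw [mem_Cp.1 hh0, mul_inv_cancel_right]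
    have hz0 : h0 * (h0⁻¹ * z * h0) * h0⁻¹ = z := by group
    have htr := A.N_sq r hr _ (A.t_N hr)
    -- `h0 t h0⁻¹ = z` or `r z t`
    have h4 : h0 * t r * h0⁻¹ = (h0 * h0) * z * (h0 * h0)⁻¹ := by rw [e0]; group
    have h5 := h3 r hr (h0 * h0) (mul_mem hh0 hh0)
    rw [← h4] at h5
    have h6 : h0 * (r * z * t r) * h0⁻¹ = r * t r * (h0 * t r * h0⁻¹) := by
      calc h0 * (r * z * t r) * h0⁻¹ = (h0 * r * h0⁻¹) * (h0 * z * h0⁻¹) * (h0 * t r * h0⁻¹) := by group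
        _ = r * t r * (h0 * t r * h0⁻¹) := by rw [hr0, ← e0]
    have hrz : r * (r * z * t r) = z * t r := by
      rw [← mul_assoc, ← mul_assoc, A.U_sq r (A.Δ_U r hr), one_mul]
    have hrt : r * t r = t r * r := A.N_comm hr (A.p_N hr) (A.t_N hr)
    have hzt : z * t r = t r * z := A.N_comm hr (z_N z r) (A.t_N hr)
    rcases h5 with h5 | h5 | h5
    · -- `h0 t h0⁻¹ = z`
      have e : h0 * u * h0⁻¹ * z * (h0 * u * h0⁻¹)⁻¹ = h0 * (u * t r * u⁻¹) * h0⁻¹ := by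
        have h7 : t r = h0⁻¹ * z * h0 := by rw [← h5]; group
        rw [h7]; group
      rw [e, hU, h6, h5, mul_assoc, ← hzt, ← mul_assoc]
    · -- `h0 t h0⁻¹ = t`: then `t = z`
      exfalso
      have h7 : t r = z := by
        have : h0 * t r * h0⁻¹ = h0 * z * h0⁻¹ := by rw [h5, e0]
        have h8 := mul_left_cancel (mul_right_cancel this)
        exact h8
      exact A.t_mv hr fun v hv => by rw [h7]; exact A.U_comm z A.z_U v hv
    · -- `h0 t h0⁻¹ = r z t`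
      have e : h0 * u * h0⁻¹ * (r * z * t r) * (h0 * u * h0⁻¹)⁻¹ = h0 * (u * t r * u⁻¹) * h0⁻¹ := by
        rw [← h5]; group
      have e2 : h0 * u * h0⁻¹ * (r * z * t r) * (h0 * u * h0⁻¹)⁻¹ = z := by
        rw [e, hU, h6, h5, hrt, mul_assoc, hrz, hzt, ← mul_assoc, htr, one_mul]
      have huu : u⁻¹ = u := A.inv_eq hu
      calc h0 * u * h0⁻¹ * z * (h0 * u * h0⁻¹)⁻¹
          = h0 * u * h0⁻¹ * (h0 * u * h0⁻¹ * (r * z * t r) * (h0 * u * h0⁻¹)⁻¹) * (h0 * u * h0⁻¹)⁻¹ := by rw [e2]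
        _ = h0 * (u * u) * h0⁻¹ * (r * z * t r) * (h0 * (u * u) * h0⁻¹)⁻¹ := by group
        _ = r * z * t r := by rw [A.U_sq u hu]; group

end Res

end Cfsg.Agent.Omega.HTwo.Eight
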