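import Cfsg.Agent.Mrg.Omega.HTwo.EightFive


/-!
# #15507 (helper779) (6)(iii): `K_r` is transitive on the points `≠ r` of `r^⊥`;
`Q_r / ζ_r = Ũ_z ⊕ Ũ_y`; `ζ_r = N_r`
-/

set_option autoImplicit false
set_option Elab.async false

namespace Cfsg.Agent.Omega.HTwo.Eight

open Subgroup Cfsg.Agent.Omega.BTwo

variable {G : Type*} [Group G]

/-- `A Z` for commuting subgroups -/
def mulSub (A Z : Subgroup G) (h : ∀ a ∈ A, ∀ n ∈ Z, a * n = n * a) : Subgroup G where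
  carrier := {x | ∃ a ∈ A, ∃ n ∈ Z, x = a * n}
  one_mem' := ⟨1, one_mem _, 1, one_mem _, (one_mul _).symm⟩
  mul_mem' := by
    rintro _ _ ⟨a, ha, n, hn, rfl⟩ ⟨b, hb, m, hm, rfl⟩
    refine ⟨a * b, mul_mem ha hb, n * m, mul_mem hn hm, ?_⟩
    calc a * n * (b * m) = a * (n * b) * m := by group
      _ = a * (b * n) * m := by rw [h b hb n hn]
      _ = a * b * (n * m) := by group
  inv_mem' := by
    rintro _ ⟨a, ha, n, hn, rfl⟩
    refine ⟨a⁻¹, inv_mem ha, n⁻¹, inv_mem hn, ?_⟩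
    rw [h a ha n hn, mul_inv_rev]

open Classical in
/-- the commutator of `x`, `y` as an element of `F₂` -/
noncomputable def cm (x y : G) : ZMod 2 := if x * y = y * x then 0 else 1

theorem cm_zero {x y : G} (h : cm x y = 0) : x * y = y * x := by
  by_contra hne
  rw [cm, if_neg hne] at h
  exact absurd h (by decide)

theorem cm_of {x y : G} (h : x * y = y * x) : cm x y = 0 := if_pos h

namespace Res

variable {z : G} {M U : Subgroup G} {Δ : Set G} {f : G → G → ZMod 2} {t : G → G} (A : Res z M U Δ f t)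
include A

/-! ### transitivity -/

/-- `t_s ∈ K_r` for `s ⊥ r` -/
theorem t_K (h3 : Three z Δ t) {r s : G} (hr : r ∈ Δ) (hs : s ∈ Δ) (h : f r s = 0) : t s ∈ Kp z r := by
  have hrU := A.Δ_U r hr
  have hsU := A.Δ_U s hs
  by_cases hne : s = r
  · rw [hne, mem_centralizer_iff]
    exact fun n hn => A.N_comm hr hn (A.t_N hr)
  refine (A.mem_K h3 hr).2 ⟨A.t_0 s hs r hrU (by rw [A.f_symm s hsU r hrU, h]), A.mz (A.t_M hs), ?_⟩
  -- the commutator
  have hsr : t s ∈ Cp r := mem_Cp.2 (A.t_0 s hs r hrU (by rw [A.f_symm s hsU r hrU, h]))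
  have hrs : t r ∈ Cp s := mem_Cp.2 (A.t_0 r hr s hsU h)
  set c := t r * t s * (t r)⁻¹ * (t s)⁻¹ with hc
  have hcs : c ∈ Np z s := mul_mem (N_normal hrs (A.t_N hs)) (inv_mem (A.t_N hs))
  have hcr : c ∈ Np z r := by
    have e : c = t r * (t s * (t r)⁻¹ * (t s)⁻¹) := by rw [hc]; group
    rw [e]
    exact mul_mem (A.t_N hr) (N_normal hsr (inv_mem (A.t_N hr)))
  -- `c` centralises `U`
  have hcU : ∀ u ∈ U, c * u = u * c := by
    rcases A.act_or hs hcs with h1 | h1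
    · exact h1
    rcases A.act_or hr hcr with h2 | h2
    · exact h2
    exfalso
    obtain ⟨u, hu, hu1⟩ := A.exists_f1 hs
    have h4 := (h1 u hu).symm.trans (h2 u hu)
    have h5 := mul_left_cancel h4
    rw [hu1, pw_one] at h5
    rcases z2 (f r u) with h6 | h6
    · rw [h6, pw_zero] at h5; exact A.pz_ne_one hs h5
    · rw [h6, pw_one] at h5; exact hne (mul_right_cancel h5)
  have key : c = 1 ∨ c = z := by
    rcases A.N_cenU h3 hs hcs hcU with h1 | h1 | h1 | h1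
    · exact Or.inl h1
    · rcases A.N_cenU h3 hr hcr hcU with h2 | h2 | h2 | h2
      · exact absurd (h1.symm.trans h2) (A.p_ne_one hs)
      · exact absurd (h1.symm.trans h2) hne
      · exact absurd (h1.symm.trans h2) (A.p_ne_z hs)
      · exact absurd (h1.symm.trans h2 ▸ hs) (A.inj r hr)
    · exact Or.inr h1
    · rcases A.N_cenU h3 hr hcr hcU with h2 | h2 | h2 | h2
      · exact absurd (h1.symm.trans h2) (A.pz_ne_one hs)
      · exact absurd ((h1.symm.trans h2).symm ▸ hr) (A.inj s hs)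
      · have h4 := h1.symm.trans h2
        exact absurd (mul_eq_right.1 h4) (A.p_ne_one hs)
      · exact absurd (mul_right_cancel (h1.symm.trans h2)) hne
  rcases key with h1 | h1
  · rw [hc, mul_inv_eq_one, mul_inv_eq_iff_eq_mul] at h1
    exact h1.symm
  · exfalso
    rw [hc, mul_inv_eq_iff_eq_mul] at h1
    obtain ⟨k, hk, e⟩ := A.t_ZZ s hs
    have h2 := h3 s hs (t r * k) (mul_mem hrs hk)
    have e2 : t r * k * z * (t r * k)⁻¹ = t r * t s * (t r)⁻¹ := by rw [e]; group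
    rw [e2, h1] at h2
    rcases h2 with h4 | h4 | h4
    · have h5 : t s = 1 := mul_eq_left.1 h4
      apply A.t_mv hs
      intro u _
      rw [h5, one_mul, mul_one]
    · exact A.z1 (mul_eq_right.1 h4)
    · have h5 := mul_right_cancel h4
      exact A.p_ne_one hs (right_eq_mul.1 h5)

theorem f_pw {u g : G} (hu : u ∈ U) (hg : g ∈ U) (c : ZMod 2) : f (pw g c) u = c * f u g := by
  rcases z2 c with h | h
  · rw [h, pw_zero, A.one_f hu, zero_mul]
  · rw [h, pw_one, A.f_symm g hg u hu, one_mul]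

/-- a common neighbour in `r^⊥` -/
theorem common {r p q : G} (hr : r ∈ Δ) (hp : p ∈ Δ) (hq : q ∈ Δ) (hpr : p ≠ r) (hqr : q ≠ r) (hne : p ≠ q)
    (hpq : f p q = 0) (h2 : p * q ≠ r) : ∃ s ∈ Δ, f r s = 0 ∧ f p s = 1 ∧ f q s = 1 := by
  have hrU := A.Δ_U r hr
  have hpU := A.Δ_U p hp
  have hqU := A.Δ_U q hq
  let v : Fin 3 → G := ![r, p, q]
  have hv : ∀ i, v i ∈ U := by
    intro i; fin_cases i
    · exact hrU
    · exact hpU
    · exact hqU
  -- products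
  have key : ∀ a b : G, a ∈ Δ → b ∈ Δ → a ≠ b → a * b ≠ 1 ∧ a * b ≠ z := by
    intro a b ha hb hab
    refine ⟨fun h => hab ?_, fun h => ?_⟩
    · rw [← A.inv_eq (A.Δ_U b hb)]; exact mul_eq_one_iff_eq_inv.1 h
    · have h4 : b * z ∈ Δ := by
        have e : b * z = a := by
          rw [A.U_comm b (A.Δ_U b hb) z A.z_U, ← h, mul_assoc, A.U_sq b (A.Δ_U b hb), mul_one]
        rw [e]; exact ha
      exact A.inj b hb h4
  obtain ⟨s, hs, h⟩ := exists_vals (U := U) (fun i u => f u (v i))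
    (fun i u hu w hw => A.f_add u hu w hw _ (hv i)) (fun c hc => by
      -- the vector
      have hw : pw r (c 0) * pw p (c 1) * pw q (c 2) ∈ U :=
        mul_mem (mul_mem (pw_mem hrU _) (pw_mem hpU _)) (pw_mem hqU _)
      have h1 : ∀ u ∈ U, f (pw r (c 0) * pw p (c 1) * pw q (c 2)) u = 0 := by
        intro u hu
        rw [A.f_add _ (mul_mem (pw_mem hrU _) (pw_mem hpU _)) _ (pw_mem hqU _) u hu,
          A.f_add _ (pw_mem hrU _) _ (pw_mem hpU _) u hu, A.f_pw hu hrU, A.f_pw hu hpU, A.f_pw hu hqU]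
        have h4 := hc u hu
        rw [Fin.sum_univ_three] at h4
        exact h4
      have h5 := A.f_rad _ hw h1
      have hfin : c 0 = 0 ∧ c 1 = 0 ∧ c 2 = 0 := by
        have e1 : p * q ∈ Δ := A.mul0 p hp q hq hne hpq
        rcases z2 (c 0) with h6 | h6 <;> rcases z2 (c 1) with h7 | h7 <;> rcases z2 (c 2) with h8 | h8 <;>
          rw [h6, h7, h8] at h5 ⊢ <;> simp only [pw_zero, pw_one, one_mul, mul_one] at h5
        · exact ⟨rfl, rfl, rfl⟩
        · exact absurd h5 (not_or.2 ⟨A.p_ne_one hq, A.p_ne_z hq⟩)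
        · exact absurd h5 (not_or.2 ⟨A.p_ne_one hp, A.p_ne_z hp⟩)
        · exact absurd h5 (not_or.2 (key p q hp hq hne))
        · exact absurd h5 (not_or.2 ⟨A.p_ne_one hr, A.p_ne_z hr⟩)
        · exact absurd h5 (not_or.2 (key r q hr hq (Ne.symm hqr)))
        · exact absurd h5 (not_or.2 (key r p hr hp (Ne.symm hpr)))
        · rw [mul_assoc] at h5
          exact absurd h5 (not_or.2 (key r (p * q) hr e1 (Ne.symm h2)))
      funext i
      fin_cases i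
      · exact hfin.1
      · exact hfin.2.1
      · exact hfin.2.2) ![0, 1, 1]
  have h0 : f s r = 0 := h 0
  have h1 : f s p = 1 := h 1
  have h4 : f s q = 1 := h 2
  have e0 : f r s = 0 := by rw [A.f_symm r hrU s hs, h0]
  have e1 : f p s = 1 := by rw [A.f_symm p hpU s hs, h1]
  have e4 : f q s = 1 := by rw [A.f_symm q hqU s hs, h4]
  rcases A.cover s hs with h5 | h5 | h5 | h5
  · rw [h5, A.f_one hpU] at e1; exact absurd e1 (by decide)
  · rw [h5, A.f_z' hpU] at e1; exact absurd e1 (by decide)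
  · exact ⟨s, h5, e0, e1, e4⟩
  · refine ⟨s * z, h5, ?_, ?_, ?_⟩
    · rw [A.f_add' hrU hs A.z_U, A.f_z' hrU, e0, add_zero]
    · rw [A.f_add' hpU hs A.z_U, A.f_z' hpU, e1, add_zero]
    · rw [A.f_add' hqU hs A.z_U, A.f_z' hqU, e4, add_zero]

/-- `K_r` is transitive on the points `≠ r` of `r^⊥` -/
theorem K_tr (h3 : Three z Δ t) {r p q : G} (hr : r ∈ Δ) (hp : p ∈ Δ) (hq : q ∈ Δ) (hpr : p ≠ r) (hqr : q ≠ r)
    (hrp : f r p = 0) (hrq : f r q = 0) : ∃ k ∈ Kp z r, k * p * k⁻¹ = q := by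
  have hrU := A.Δ_U r hr
  -- adjacent points
  have tr1 : ∀ p ∈ Δ, ∀ q ∈ Δ, f r p = 0 → f r q = 0 → f p q = 1 → ∃ k ∈ Kp z r, k * p * k⁻¹ = q := by
    intro p hp q hq hrp hrq hpq
    have hpU := A.Δ_U p hp
    have hqU := A.Δ_U q hq
    have hs := A.mul1 p hp q hq hpq
    have hpqU : p * q ∈ U := mul_mem hpU hqU
    refine ⟨t (p * q * z), A.t_K h3 hr hs ?_, ?_⟩
    · rw [A.f_add' hrU hpqU A.z_U, A.f_z' hrU, A.f_add' hrU hpU hqU, hrp, hrq]; decide
    · rw [A.t_act hs hpU, A.f_add _ hpqU z A.z_U p hpU, A.f_z p hpU, A.f_add p hpU q hqU p hpU, A.f_self p hpU,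
        A.f_symm q hqU p hpU, hpq, zero_add, add_zero, pw_one]
      calc p * (p * q * z * z) = (p * p) * q * (z * z) := by group
        _ = q := by rw [A.U_sq p hpU, A.zz, one_mul, mul_one]
  by_cases hne : p = q
  · exact ⟨1, one_mem _, by rw [hne]; group⟩
  rcases z2 (f p q) with hpq | hpq
  · by_cases h2 : p * q = r
    · obtain ⟨g, hg, e⟩ := A.Q_mv r hr p hp (Ne.symm hpr) hrp
      refine ⟨g, A.Q_le_K hr hg, ?_⟩
      rw [e, ← h2, ← mul_assoc, A.U_sq p (A.Δ_U p hp), one_mul]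
    · obtain ⟨s, hs, h0, h1, h4⟩ := A.common hr hp hq hpr hqr hne hpq h2
      obtain ⟨k, hk, e⟩ := tr1 p hp s hs hrp h0 h1
      obtain ⟨k', hk', e'⟩ := tr1 s hs q hq h0 hrq (by rw [A.f_symm s (A.Δ_U s hs) q (A.Δ_U q hq), h4])
      refine ⟨k' * k, (Kp z r).mul_mem hk' hk, ?_⟩
      calc k' * k * p * (k' * k)⁻¹ = k' * (k * p * k⁻¹) * k'⁻¹ := by group
        _ = q := by rw [e, e']
  · exact tr1 p hp q hq hrp hrq hpq

/-! ### the subgroups `(U_y ∩ Q_r) ζ_r` -/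

end Res

/-- `(U^h ∩ Q_r) ζ_r` -/
def AA (U : Subgroup G) (r h : G) : Subgroup G :=
  mulSub (cj h U ⊓ Qp r) (Zp r) (fun _ ha _ hn => (Z_comm hn ha.2).symm)

theorem mem_AA {U : Subgroup G} {r h x : G} :
    x ∈ AA U r h ↔ ∃ a ∈ cj h U ⊓ Qp r, ∃ n ∈ Zp r, x = a * n := Iff.rfl

theorem Zp_le_AA {U : Subgroup G} {r h : G} : Zp r ≤ AA U r h := fun x hx =>
  ⟨1, one_mem _, x, hx, (one_mul _).symm⟩

theorem le_AA {U : Subgroup G} {r h : G} : cj h U ⊓ Qp r ≤ AA U r h := fun x hx =>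
  ⟨x, hx, 1, one_mem _, (mul_one _).symm⟩

theorem AA_le_Q {U : Subgroup G} {r h : G} : AA U r h ≤ Qp r := by
  rintro _ ⟨a, ha, n, hn, rfl⟩
  exact mul_mem ha.2 hn.1

theorem conj_AA {U : Subgroup G} {r h g : G} (hg : g ∈ Cp r) {x : G} (hx : x ∈ AA U r h) :
    g * x * g⁻¹ ∈ AA U r (g * h) := by
  obtain ⟨a, ha, n, hn, rfl⟩ := hx
  refine ⟨g * a * g⁻¹, ⟨?_, Q_normal hg ha.2⟩, g * n * g⁻¹, Z_normal hg hn, by group⟩
  have h1 := conj_mem_cj (g := g) ha.1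
  rw [← cj_mul] at h1
  exact h1

namespace Res

variable {z : G} {M U : Subgroup G} {Δ : Set G} {f : G → G → ZMod 2} {t : G → G} (A : Res z M U Δ f t)
include A

variable {r : G}

theorem AA_eq (hr : r ∈ Δ) {h k : G} (hh : h ∈ Cp r) (hk : k ∈ Cp r) (e : h * z * h⁻¹ = k * z * k⁻¹) :
    AA U r h = AA U r k := by
  ext x
  rw [mem_AA, mem_AA, A.cj_U_eq hr hh hk e]

theorem cj_comm (h : G) {x y : G} (hx : x ∈ cj h U) (hy : y ∈ cj h U) : x * y = y * x := by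
  rw [mem_cj] at hx hy
  have h1 := A.U_comm _ hx _ hy
  calc x * y = h * (h⁻¹ * x * h * (h⁻¹ * y * h)) * h⁻¹ := by group
    _ = h * (h⁻¹ * y * h * (h⁻¹ * x * h)) * h⁻¹ := by rw [h1]
    _ = y * x := by group

theorem AA_comm {h : G} {x y : G} (hx : x ∈ AA U r h) (hy : y ∈ AA U r h) : x * y = y * x := by
  obtain ⟨a, ha, n, hn, rfl⟩ := hx
  obtain ⟨b, hb, m, hm, rfl⟩ := hy
  have h1 : Commute a b := A.cj_comm h ha.1 hb.1
  have h2 : Commute n b := Z_comm hn hb.2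
  have h4 : Commute n m := Z_comm hn hm.1
  have h5 : Commute a m := (Z_comm hm ha.2).symm
  exact ((h1.mul_right h5).mul_left (h2.mul_right h4)).eq

/-- the conjugate of `z` is determined by `K_r` -/
theorem K_z {h k : G} (hh : h ∈ Cp r) (hk : k ∈ Kp z r) : (k * h) * z * (k * h)⁻¹ = h * z * h⁻¹ := by
  have _ := A
  have h1 : h * z * h⁻¹ ∈ Np z r := subset_closure ⟨h, hh, rfl⟩
  have h2 := (mem_centralizer_iff.1 hk) _ h1
  calc (k * h) * z * (k * h)⁻¹ = k * (h * z * h⁻¹) * k⁻¹ := by group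
    _ = (h * z * h⁻¹) * k * k⁻¹ := by rw [h2]
    _ = h * z * h⁻¹ := by group

/-- `Ũ_z ∩ Ũ_y = 0` -/
theorem int (h3 : Three z Δ t) (hr : r ∈ Δ)
    (nab : ∃ h ∈ Cp r, ∃ u ∈ U ⊓ Qp r, ∃ v ∈ U ⊓ Qp r, u * (h * v * h⁻¹) ≠ h * v * h⁻¹ * u)
    {h : G} (hh : h ∈ Cp r) (hz : h * z * h⁻¹ ≠ z) {u0 : G} (hu0 : u0 ∈ U ⊓ Qp r) (hA : u0 ∈ AA U r h) :
    u0 ∈ Zp r := by
  by_contra hnZ
  have hrU := A.Δ_U r hr
  have hrZ : r ∈ Zp r := A.N_Z r hr (A.p_N hr)
  have hzZ : z ∈ Zp r := A.N_Z r hr (z_N z r)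
  -- a point
  have hex : ∃ p ∈ Δ, p ∈ AA U r h ∧ f r p = 0 ∧ p ≠ r := by
    rcases A.cover u0 hu0.1 with e | e | e | e
    · exact absurd (e ▸ one_mem _) hnZ
    · exact absurd (e ▸ hzZ) hnZ
    · exact ⟨u0, e, hA, (A.Q_f r hr u0 hu0.1).1 hu0.2, fun e' => hnZ (e' ▸ hrZ)⟩
    · refine ⟨u0 * z, e, mul_mem hA (Zp_le_AA hzZ), (A.Q_f r hr _ (mul_mem hu0.1 A.z_U)).1 (mul_mem hu0.2 hzZ.1), ?_⟩
      intro e'
      apply hnZ
      have e2 : u0 = r * z := by rw [← e', mul_assoc, A.zz, mul_one]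
      rw [e2]
      exact mul_mem hrZ hzZ
  obtain ⟨p, hp, hpA, hp0, hpr⟩ := hex
  -- all points of `r^⊥`
  have hall : ∀ q ∈ Δ, f r q = 0 → q ∈ AA U r h := by
    intro q hq hq0
    by_cases hqr : q = r
    · rw [hqr]; exact Zp_le_AA hrZ
    · obtain ⟨k, hk, e⟩ := A.K_tr h3 hr hp hq hpr hqr hp0 hq0
      have hkC := A.CN_le hr hk
      rw [← e, ← A.AA_eq hr (mul_mem hkC hh) hh (A.K_z hh hk)]
      exact conj_AA hkC hpA
  have hall2 : ∀ v ∈ U ⊓ Qp r, v ∈ AA U r h := by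
    intro v hv
    have hv0 := (A.Q_f r hr v hv.1).1 hv.2
    rcases A.cover v hv.1 with e | e | e | e
    · rw [e]; exact one_mem _
    · rw [e]; exact Zp_le_AA hzZ
    · exact hall v e hv0
    · have h1 := hall _ e (by rw [A.f_add' hrU hv.1 A.z_U, A.f_z' hrU, hv0, add_zero])
      have e2 : v = v * z * z := by rw [mul_assoc, A.zz, mul_one]
      rw [e2]
      exact mul_mem h1 (Zp_le_AA hzZ)
  obtain ⟨h1, hh1, u, hu, v, hv, hne⟩ := nab
  have hcv : h1 * v * h1⁻¹ ∈ AA U r h1 := le_AA ⟨conj_mem_cj hv.1, Q_normal hh1 hv.2⟩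
  have hz1 : h1 * z * h1⁻¹ ≠ z := by
    intro e
    apply hne
    have hm := A.stab hr hh1 e
    exact A.U_comm u hu.1 _ (A.U_M h1 hm v hv.1)
  have same : h1 * z * h1⁻¹ = h * z * h⁻¹ → False := by
    intro e
    apply hne
    rw [A.AA_eq hr hh1 hh e] at hcv
    exact A.AA_comm (hall2 u hu) hcv
  -- the element swapping `t_r` and `r z t_r`
  obtain ⟨w, h0, a, c⟩ := A.exists_UA h3 hr
  have hwC := A.U_cen hr c.uU
  have swap : (w * h) * z * (w * h)⁻¹ = h1 * z * h1⁻¹ := by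
    have e : (w * h) * z * (w * h)⁻¹ = w * (h * z * h⁻¹) * w⁻¹ := by group
    rw [e]
    rcases h3 r hr h hh with h4 | h4 | h4
    · exact absurd h4 hz
    · rcases h3 r hr h1 hh1 with h5 | h5 | h5
      · exact absurd h5 hz1
      · exact (same (h5.trans h4.symm)).elim
      · rw [h4, h5, c.ut]
    · rcases h3 r hr h1 hh1 with h5 | h5 | h5
      · exact absurd h5 hz1
      · rw [h4, h5, A.uy c]
      · exact (same (h5.trans h4.symm)).elim
  apply hne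
  have h6 : u ∈ AA U r h1 := by
    rw [← A.AA_eq hr (mul_mem hwC hh) hh1 swap]
    have h7 := conj_AA hwC (hall2 u hu)
    rwa [A.U_comm w c.uU u hu.1, mul_inv_cancel_right] at h7
  exact A.AA_comm h6 hcv

/-! ### the commutator form on `Q_r` -/

theorem r_comm (hr : r ∈ Δ) {x : G} (hx : x ∈ Qp r) : r * x = x * r := Z_comm (A.N_Z r hr (A.p_N hr)) hx

theorem cm_eq (hr : r ∈ Δ) {x y : G} (hx : x ∈ Qp r) (hy : y ∈ Qp r) : x * y = pw r (cm x y) * (y * x) := by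
  by_cases h : x * y = y * x
  · rw [cm_of h, pw_zero, one_mul, h]
  · rw [cm, if_neg h, pw_one]
    exact (A.Q_comm r hr x hx y hy).resolve_left h

theorem pw_r_comm (hr : r ∈ Δ) {x : G} (hx : x ∈ Qp r) (c : ZMod 2) : pw r c * x = x * pw r c := by
  rcases z2 c with h | h
  · rw [h, pw_zero, one_mul, mul_one]
  · rw [h, pw_one, A.r_comm hr hx]

theorem cm_mul_right (hr : r ∈ Δ) {x y w : G} (hx : x ∈ Qp r) (hy : y ∈ Qp r) (hw : w ∈ Qp r) :
    cm x (y * w) = cm x y + cm x w := by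
  have h1 := A.cm_eq hr hx (mul_mem hy hw)
  have h2 : x * (y * w) = pw r (cm x y + cm x w) * (y * w * x) := by
    calc x * (y * w) = (x * y) * w := by group
      _ = pw r (cm x y) * (y * x) * w := by rw [A.cm_eq hr hx hy]
      _ = pw r (cm x y) * (y * (x * w)) := by group
      _ = pw r (cm x y) * (y * (pw r (cm x w) * (w * x))) := by rw [A.cm_eq hr hx hw]
      _ = pw r (cm x y) * (y * pw r (cm x w)) * (w * x) := by group
      _ = pw r (cm x y) * (pw r (cm x w) * y) * (w * x) := by rw [A.pw_r_comm hr hy]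
      _ = pw r (cm x y) * pw r (cm x w) * (y * w * x) := by group
      _ = pw r (cm x y + cm x w) * (y * w * x) := by rw [pw_add (A.U_sq r (A.Δ_U r hr))]
  rw [h2] at h1
  exact (pw_inj (A.p_ne_one hr) (mul_right_cancel h1)).symm

theorem cm_symm (hr : r ∈ Δ) {x y : G} : cm x y = cm y x := by
  have _ := A
  have _ := hr
  by_cases h : x * y = y * x
  · rw [cm_of h, cm_of h.symm]
  · rw [cm, cm, if_neg h, if_neg (Ne.symm h)]

theorem cm_mul_left (hr : r ∈ Δ) {x y w : G} (hx : x ∈ Qp r) (hy : y ∈ Qp r) (hw : w ∈ Qp r) :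
    cm (x * y) w = cm x w + cm y w := by
  rw [A.cm_symm hr, A.cm_mul_right hr hw hx hy, A.cm_symm hr (x := w) (y := x), A.cm_symm hr (x := w) (y := y)]

/-- `C_{Q_r}(U^h ∩ Q_r) ≤ (U^h ∩ Q_r) ζ_r` -/
theorem Q_self' [Finite U] (h3 : Three z Δ t) (hr : r ∈ Δ) {h : G} (hh : h ∈ Cp r) {x : G} (hx : x ∈ Qp r)
    (hc : ∀ u ∈ cj h U ⊓ Qp r, x * u = u * x) : x ∈ AA U r h := by
  have hx' : h⁻¹ * x * h ∈ Qp r := by
    have := Q_normal (inv_mem hh) hx
    rwa [inv_inv] at this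
  have hc' : ∀ u ∈ U ⊓ Qp r, h⁻¹ * x * h * u = u * (h⁻¹ * x * h) := by
    intro u hu
    have h1 := hc (h * u * h⁻¹) ⟨conj_mem_cj hu.1, Q_normal hh hu.2⟩
    calc h⁻¹ * x * h * u = h⁻¹ * (x * (h * u * h⁻¹)) * h := by group
      _ = h⁻¹ * (h * u * h⁻¹ * x) * h := by rw [h1]
      _ = u * (h⁻¹ * x * h) := by group
  obtain ⟨w, hw, b, hb, e⟩ := A.Q_cen h3 hr hx' hc'
  have h1 : h⁻¹ * x * h ∈ AA U r 1 := by
    have hw' : w ∈ cj 1 U ⊓ Qp r := by rw [cj_one]; exact hw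
    have hbZ := mem_Bz.1 hb r hr
    rcases e with e | e
    · exact ⟨w, hw', b, hbZ, e⟩
    · exact ⟨w, hw', b * t r, mul_mem hbZ (A.N_Z r hr (A.t_N hr)), by rw [e, mul_assoc]⟩
  have h2 := conj_AA hh h1
  rw [mul_one] at h2
  have e2 : h * (h⁻¹ * x * h) * h⁻¹ = x := by group
  rwa [e2] at h2

/-- `Q_r = (U^h ∩ Q_r) (U ∩ Q_r) ζ_r` -/
theorem Q_gen' [Finite U] (h3 : Three z Δ t) (hr : r ∈ Δ)
    (nab : ∃ h ∈ Cp r, ∃ u ∈ U ⊓ Qp r, ∃ v ∈ U ⊓ Qp r, u * (h * v * h⁻¹) ≠ h * v * h⁻¹ * u)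
    {h : G} (hh : h ∈ Cp r) (hz : h * z * h⁻¹ ≠ z) {x : G} (hx : x ∈ Qp r) :
    ∃ v ∈ cj h U ⊓ Qp r, ∃ y ∈ AA U r 1, x = v * y := by
  have hf : Finite (U ⊓ Qp r : Subgroup G) := Finite.Set.subset (U : Set G) inf_le_left
  obtain ⟨w, hw, h1⟩ := exists_rep2 (U := U ⊓ Qp r) (W := cj h U ⊓ Qp r)
    (fun u hu v hv => A.U_comm u hu.1 v hv.1) (fun u hu => A.U_sq u hu.1) (f := cm)
    (fun w hw w' hw' u hu => A.cm_mul_left hr hw.2 hw'.2 hu.2)
    (fun w hw u hu v hv => A.cm_mul_right hr hw.2 hu.2 hv.2) (Ψ := cm x)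
    (fun u hu v hv => A.cm_mul_right hr hx hu.2 hv.2) (fun u hu h2 => by
      have h4 : u ∈ AA U r h := A.Q_self' h3 hr hh hu.2 fun v hv => (cm_zero (h2 v hv)).symm
      have h5 := A.int h3 hr nab hh hz hu h4
      exact cm_of (Z_comm h5 hx).symm)
  refine ⟨w, hw, w⁻¹ * x, A.Q_self' h3 hr (one_mem _) (mul_mem (inv_mem hw.2) hx) ?_, by group⟩
  intro u hu
  rw [cj_one] at hu
  refine cm_zero ?_
  have h2 : cm w⁻¹ u = cm w u := by
    have h4 := A.cm_mul_left hr hw.2 (inv_mem hw.2) hu.2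
    rw [mul_inv_cancel, cm_of (by rw [one_mul, mul_one])] at h4
    generalize cm w⁻¹ u = c1 at h4 ⊢
    generalize cm w u = c2 at h4 ⊢
    revert c1 c2; decide
  rw [A.cm_mul_left hr (inv_mem hw.2) hx hu.2, h2, ← h1 u hu]
  generalize cm x u = c1
  revert c1; decide

end Res

end Cfsg.Agent.Omega.HTwo.Eight
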