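import Cfsg.Agent.Mrg.Omega.HTwo.Entry
import Cfsg.Agent.Mrg.Omega.HOne.SplitVQ
import Cfsg.Agent.Mrg.Omega.HOne.SplitP
import Cfsg.Agent.Mrg.Omega.MixOne.OfSplit


/-!
# II.0h1, `q = 2`: the exit for every leaf

* `PosStmt0 K` : the statement on the position `HTwo.Entry.Pos` without `AllSingle`, `AllSplit`;
* `exists_pos0` : a non-free mutual pair of one type `(P, P)`, one natural factor, `q = 2`, gives `Pos`;
* `exit_of` : a non-free mutual pair, both members with one natural factor and `q = 2`, gives `IsKnownSimple' G`.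
-/

set_option autoImplicit false
set_option linter.unusedSectionVars false

namespace Cfsg.Agent.Omega.HTwo.Exit

open Subgroup Cfsg Cfsg.Agent.ZN Cfsg.Agent.Omega.MinPar
open Cfsg.Agent.MinSimple.VModule (oddGen zc_le_zl zc_sq le_normalizer_zl)
open Cfsg.Agent.Omega.NatPair (NatMod exists_ap ap)
open Cfsg.Agent.Omega.BTwo Cfsg.Agent.Omega.HOneTwo
open Cfsg.Agent.Omega.FrameFF (cv NatOver)
open Cfsg.Agent.Omega.HOne
open Cfsg.Agent.Omega.HOne.Main (vx SplitPar NonFree)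
open Cfsg.Agent.Omega.MixOne (Spl exists_spl exists_move noSame_of MixedW)
open Cfsg.Agent.Omega.Mix (RMod RMutual)
open Cfsg.Agent.Omega.Frame
open Cfsg.Agent.Omega.FrameLE (AllIn)
open Cfsg.Agent.Omega.HTwo.Entry (Pos)
open scoped Pointwise commutatorElement

universe u

/-- The statement on the position `Pos`, without `AllSingle` and `AllSplit`. -/
def PosStmt0 (K : Cls.{u}) : Prop :=
  ∀ (G : Type u) [Group G] [Finite G], Ctx G → K G → ∀ (S : Sylow 2 G), Full (S : Subgroup G) →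
    AllIn (S : Subgroup G) →
    ∀ (P V : Subgroup G) (ι : Type u) (R : ι → Subgroup G) (o : ι) (r z : G), Pos S P V R o r z →
      IsParS (S : Subgroup G) P →
      zl (S : Subgroup G) P = V ⊔ (zc (S : Subgroup G) ⊓ centralizer (P : Set G)) → IsKnownSimple' G

theorem PosStmt0.posStmt {K : Cls.{u}} (H : PosStmt0 K) : Entry.PosStmt K :=
  fun G _ _ hG hK S hF hI _ _ P V ι R o r z p => H G hG hK S hF hI P V ι R o r z p

variable {G : Type u} [Group G]

/-- `HOne.Main.Same` without minimality -/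
structure Sm (S P : Subgroup G) (g : G) {F : Type} [Field F] {N : Subgroup G} (M : NatMod F N) : Prop where
  star : IsParS S P
  N_eq : N = vx S P
  inf : N ⊓ cv S P = ⊥
  sup : N ⊔ cv S P = zl S P
  ne : cv S P ≠ ⊥
  cen : P ≤ centralizer (cv S P : Set G)
  le : P ≤ normalizer (N : Set G)
  lift : ∀ A : Matrix.SpecialLinearGroup (Fin 2) F, ∃ h ∈ P, M.Ind h A
  pair : NatPair.Mutual N (NatPair.cj g N)
  VQ : N ≤ QQ (N ⊓ NatPair.cj g N)

variable [Finite G] {S : Sylow 2 G} {P : Subgroup G} {g : G} {F : Type} [Field F]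

/-- **the normal form**, `q = 2` -/
theorem exists_sm [Finite F] [CharP F 2] (hc : IsCharacteristicTwoType G) (hnf : NonFree (S : Subgroup G) P P g)
    (M : NatOver F P (zl (S : Subgroup G) P) (cv (S : Subgroup G) P)) (h2 : Nat.card F = 2) :
    ∃ (y : G) (N : Subgroup G) (M' : NatMod F N), Sm (S : Subgroup G) P y M' := by
  have h : IsParS (S : Subgroup G) P := hnf.mp.star₁
  have hsp : SplitPar (S : Subgroup G) P := splitPar_of_two hc S h M h2
  obtain ⟨y, hy1, hy2, v, hv, w, hw, hvw⟩ := exists_move S hc hnf.mp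
  obtain ⟨K₁, M₁, s₁⟩ := exists_spl hc h M hsp
  have s₂ := s₁.conj y
  have hSP : (S : Subgroup G) ≤ P := h.le
  have hSP' : ((y • S : Sylow 2 G) : Subgroup G) ≤ cj y P := by
    rw [Mix.coe_smul_eq]; exact cj_mono hSP
  -- `N`, `N^y` do not commute
  obtain ⟨n, hn, d, hd, rfl⟩ := s₁.dec v hv
  obtain ⟨n', hn', d', hd', rfl⟩ := s₂.dec w hw
  have c1 : ∀ z ∈ cj y (zl (S : Subgroup G) P), ∀ d ∈ cv (S : Subgroup G) P, d * z = z * d := fun z hz d hd =>
    mem_centralizer_iff.1 (s₁.cen (hSP (hy1 hz))) d hd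
  have c2 : ∀ z ∈ zl (S : Subgroup G) P, ∀ d ∈ cj y (cv (S : Subgroup G) P), d * z = z * d := fun z hz d hd => by
    refine mem_centralizer_iff.1 (s₂.cen (hSP' ?_)) d hd
    rw [Mix.coe_smul_eq]; exact hy2 hz
  have hnn : n * n' ≠ n' * n := by
    intro h
    apply hvw
    have e1 := c1 _ hw d hd
    have e2 := c2 n (s₁.NV hn) d' hd'
    calc n * d * (n' * d') = n * (d * (n' * d')) := by group
      _ = n * (n' * d' * d) := by rw [e1]
      _ = n * n' * d' * d := by group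
      _ = n' * (n * d') * d := by rw [h]; group
      _ = n' * (d' * n) * d := by rw [e2]
      _ = n' * d' * (n * d) := by group
  rcases (preMod M hsp).dich S (hSP.trans (le_normalizer_vx _ _)) (fun s hs' => nm_of_mem M hsp (hSP hs')) with
    hgood | hexc
  · refine ⟨y, vx (S : Subgroup G) P, (preMod M hsp).toNatMod hgood, ?_⟩
    have hmut : RMutual (vx (S : Subgroup G) P) (cj y (vx (S : Subgroup G) P)) K₁ (cj y K₁) :=
      ⟨(s₂.NV.trans hy1).trans (hSP.trans s₁.PK), (s₁.NV.trans hy2).trans (by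
        have := hSP'.trans s₂.PK
        rwa [Mix.coe_smul_eq] at this), n, hn, n', hn', hnn⟩
    obtain ⟨-, u, u', hu, -, hl, -⟩ := Mix.pair M₁ (M₁.conj y) hmut
    obtain ⟨T₁, hT₁P, hT₁R⟩ := s₁.exists_sylow S hSP hu.ne
    rw [← hl] at hT₁R
    have hR2 : IsPGroup 2 ↥(vx (S : Subgroup G) P ⊓ cj y (vx (S : Subgroup G) P)) :=
      s₁.N_pGroup.to_le inf_le_left
    have hR1 : vx (S : Subgroup G) P ⊓ cj y (vx (S : Subgroup G) P) ≠ ⊥ := by
      have h1 := M₁.line_ne_bot hu.ne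
      rw [← hl] at h1
      exact h1
    have hVQ := s₁.V_le_Q hT₁P hu.ne (R := vx (S : Subgroup G) P ⊓ cj y (vx (S : Subgroup G) P)) hl hT₁R
      (Mix.char2_normalizer hc hR2 hR1)
    exact
      { star := h
        N_eq := rfl
        inf := hsp
        sup := sup_eq M
        ne := hnf.ne₁
        cen := le_centralizer_cv hc S h M hsp
        le := le_normalizer_vx _ _
        lift := rmod_lift M hsp
        pair := ⟨((s₂.NV.trans hy1).trans hSP).trans (le_normalizer_vx _ _), by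
          change _ ≤ normalizer (cj y _ : Set G)
          rw [BTwo.normalizer_cj]
          exact ((vx_le _ _).trans hy2).trans ((cj_mono hSP).trans (cj_mono (le_normalizer_vx _ _))),
          n, hn, n', hn', hnn⟩
        VQ := (vx_le _ _).trans hVQ }
  · exfalso
    obtain ⟨w₀, r, E⟩ := excD_of S M hsp hexc
    have := E.card
    omega

namespace Sm

variable {N : Subgroup G} {M : NatMod F N} (h : Sm (S : Subgroup G) P g M)
include h

theorem S_le : (S : Subgroup G) ≤ P := h.star.le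

theorem S_norm : (S : Subgroup G) ≤ normalizer (N : Set G) := h.S_le.trans h.le

theorem cv_le_zc (hG : IsCharacteristicTwoType G) : cv (S : Subgroup G) P ≤ zc (S : Subgroup G) := by
  have hloc := h.star.isLoc
  have h1 : zl (S : Subgroup G) P ≤ (S : Subgroup G) :=
    ((hloc.zl_le S hG).trans (zc_le _)).trans (hloc.o2_le S)
  intro d hd
  have hd' : d ∈ zl (S : Subgroup G) P := hd.1
  rw [mem_zc]
  refine ⟨h1 hd', fun s hs => ?_, zc_sq _ _ (hloc.zl_le S hG hd')⟩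
  exact (mem_centralizer_iff.1 (h.cen (h.S_le hs)) d hd).symm

/-- `V_P = N C_{V_P}(O²(P))` -/
theorem exists_mul_cv [Finite F] [CharP F 2] {v : G} (hv : v ∈ zl (S : Subgroup G) P) :
    ∃ n ∈ N, ∃ d ∈ cv (S : Subgroup G) P, v = n * d := by
  rw [← h.sup] at hv
  have h3 : cv (S : Subgroup G) P ≤ normalizer (N : Set G) := by
    intro d hd
    have h4 : N ≤ P := by
      intro n hn
      exact h.S_le (HOneQ.V_le_S M S h.S_norm hn)
    refine centralizer_le_normalizer _ ?_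
    rw [mem_centralizer_iff]
    exact fun n hn => (mem_centralizer_iff.1 (h.cen (h4 hn)) d hd).symm
  rw [← SetLike.mem_coe, coe_mul_of_right_le_normalizer_left _ _ h3] at hv
  obtain ⟨n, hn, d, hd, rfl⟩ := hv
  exact ⟨n, hn, d, hd, rfl⟩

/-- `[P, Z] ≤ N` -/
theorem comm_zc [Finite F] [CharP F 2] {x z : G} (hx : x ∈ P) (hz : z ∈ zc (S : Subgroup G)) :
    x * z * x⁻¹ * z⁻¹ ∈ N := by
  obtain ⟨n, hn, d, hd, rfl⟩ := h.exists_mul_cv (zc_le_zl _ _ hz)
  have h1 : x * d = d * x := (mem_centralizer_iff.1 (h.cen hx) d hd).symm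
  have h2 : x * (n * d) * x⁻¹ * (n * d)⁻¹ = x * n * x⁻¹ * n⁻¹ := by
    calc x * (n * d) * x⁻¹ * (n * d)⁻¹ = x * n * (d * x⁻¹) * d⁻¹ * n⁻¹ := by group
      _ = x * n * (x⁻¹ * (x * d) * x⁻¹) * d⁻¹ * n⁻¹ := by group
      _ = x * n * (x⁻¹ * (d * x) * x⁻¹) * d⁻¹ * n⁻¹ := by rw [h1]
      _ = x * n * x⁻¹ * n⁻¹ := by group
  rw [h2]
  exact mul_mem (conj_mem_of_normalizer (h.le hx) hn) (inv_mem hn)

/-- **the entry to `HT`** -/
theorem exists_ht [Finite F] [CharP F 2] (hG : IsCharacteristicTwoType G) (hF : Nat.card F = 2) :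
    ∃ o : Pt M, HT S P N (pt M) o := by
  obtain ⟨o, ho⟩ := HOneQ.exists_pt M S h.S_norm
  refine ⟨o, { HOneQ.bts M S h.S_norm hG h.pair h.VQ with
    card_R := ?_, char2 := hG, S_V := h.S_norm, S_R := ho, S_P := h.S_le, P_V := h.le,
    P_trans := ?_, P_Z := fun x hx z hz => h.comm_zc hx hz }⟩
  · rintro ⟨_, w, hw, rfl⟩
    change Nat.card (M.line w) = 2
    rw [M.card_line hw, hF]
  · obtain ⟨_, w, hw, rfl⟩ := o
    rintro ⟨_, u, hu, rfl⟩
    obtain ⟨A, hA⟩ := exists_ap hw hu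
    obtain ⟨l, hl, hlA⟩ := h.lift A
    refine ⟨l, hl, ?_⟩
    have := M.cj_line_of_ind hlA w
    rw [hA] at this
    exact this

/-- `C_{V_P}(O²(P)) ≤ C_Z(P)` -/
theorem cv_le_cz (hG : IsCharacteristicTwoType G) :
    cv (S : Subgroup G) P ≤ zc (S : Subgroup G) ⊓ centralizer (P : Set G) :=
  le_inf (h.cv_le_zc hG) (le_centralizer_iff.1 h.cen)

/-- `C_Z(P) = C_{V_P}(O²(P))` -/
theorem cz_eq (hG : IsCharacteristicTwoType G) :
    zc (S : Subgroup G) ⊓ centralizer (P : Set G) = cv (S : Subgroup G) P := by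
  refine le_antisymm ?_ (h.cv_le_cz hG)
  refine le_inf (inf_le_left.trans (zc_le_zl _ _)) (inf_le_right.trans (centralizer_le ?_))
  exact Cfsg.Agent.MinSimple.VModule.oddGen_le P

theorem cz_ne (hG : IsCharacteristicTwoType G) :
    zc (S : Subgroup G) ⊓ centralizer (P : Set G) ≠ ⊥ := by
  rw [h.cz_eq hG]
  exact h.ne

/-- **the position** -/
theorem exists_pos [Finite F] [CharP F 2] (hG : IsCharacteristicTwoType G) (hF : Nat.card F = 2) :
    ∃ (o : Pt M) (r z : G), Pos S P N (pt M) o r z := by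
  obtain ⟨o, b⟩ := h.exists_ht hG hF
  obtain ⟨r, h1, h2, h3⟩ := b.exists_gen o
  obtain ⟨⟨z, hz⟩, hz1⟩ := (Subgroup.ne_bot_iff_exists_ne_one).1 (h.cz_ne hG)
  exact ⟨o, r, z, { b with r_ne := h1, r_sq := h2, r_iff := h3, z_mem := hz, z_ne := fun e => hz1 (Subtype.ext e) }⟩

end Sm

/-- **Exit for a pair of one type.** -/
theorem exit_same {K : Cls.{u}} (H : PosStmt0 K) (hG : Ctx G) (hK : K G) (hF : Full (S : Subgroup G))
    (hI : AllIn (S : Subgroup G)) (hnf : NonFree (S : Subgroup G) P P g) [Finite F] [CharP F 2]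
    (M : NatOver F P (zl (S : Subgroup G) P) (cv (S : Subgroup G) P)) (h2 : Nat.card F = 2) :
    IsKnownSimple' G := by
  obtain ⟨y, N, M', h⟩ := exists_sm hG.char2 hnf M h2
  obtain ⟨o, r, z, p⟩ := h.exists_pos hG.char2 h2
  refine H G hG hK S hF hI P N (Pt M') (pt M') o r z p h.star ?_
  rw [h.cz_eq hG.char2, h.sup]

/-- **Exit**: a mutual pair, both members not `Free`, with one natural factor and `q = 2`. -/
theorem exit_of {K : Cls.{u}} (H : PosStmt0 K) (hG : Ctx G) (hK : K G) (hF : Full (S : Subgroup G))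
    (hI : AllIn (S : Subgroup G)) {P₁ P₂ : Subgroup G} {x : G} (h : NonFree (S : Subgroup G) P₁ P₂ x)
    {F₁ F₂ : Type} [Field F₁] [Finite F₁] [CharP F₁ 2] [Field F₂] [Finite F₂] [CharP F₂ 2]
    (o₁ : NatOver F₁ P₁ (zl (S : Subgroup G) P₁) (cv (S : Subgroup G) P₁))
    (o₂ : NatOver F₂ P₂ (zl (S : Subgroup G) P₂) (cv (S : Subgroup G) P₂)) (h₁ : Nat.card F₁ = 2)
    (h₂ : Nat.card F₂ = 2) : IsKnownSimple' G := by
  have hc := hG.char2
  by_cases hno₁ : ∀ g : G, ¬ NonFree (S : Subgroup G) P₁ P₁ g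
  swap
  · push Not at hno₁
    obtain ⟨g, hg⟩ := hno₁
    exact exit_same H hG hK hF hI hg o₁ h₁
  by_cases hno₂ : ∀ g : G, ¬ NonFree (S : Subgroup G) P₂ P₂ g
  swap
  · push Not at hno₂
    obtain ⟨g, hg⟩ := hno₂
    exact exit_same H hG hK hF hI hg o₂ h₂
  exfalso
  have hs₁ := splitPar_of_two hc S h.mp.star₁ o₁ h₁
  have hs₂ := splitPar_of_two hc S h.mp.star₂ o₂ h₂
  obtain ⟨K₁, M₁, s₁⟩ := exists_spl hc h.mp.star₁ o₁ hs₁
  obtain ⟨K₂, M₂, s₂⟩ := exists_spl hc h.mp.star₂ o₂ hs₂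
  obtain ⟨y, hy1, hy2, hy3⟩ := exists_move S hc h.mp
  have hS₂ : ((y • S : Sylow 2 G) : Subgroup G) ≤ cj y P₂ := by
    rw [Mix.coe_smul_eq]; exact cj_mono h.mp.star₂.le
  have hn₁ := noSame_of h.mp.star₁ h.ne₁ hno₁
  have hn₂ := (noSame_of h.mp.star₂ h.ne₂ hno₂).conj y
  obtain ⟨k, -, T, hT1, hT2, hT3, m⟩ := s₁.mixedW (fun K h1 h2 => Mix.char2_normalizer hc h1 h2) (s₂.conj y) S
    (y • S) h.mp.star₁.le hS₂ hy1 (by rw [Mix.coe_smul_eq]; exact hy2) hy3 hn₁ hn₂
  obtain ⟨⟨d, hd⟩, hd1⟩ := Subgroup.ne_bot_iff_exists_ne_one.1 h.ne₁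
  have hd1' : d ≠ 1 := fun h => hd1 (Subtype.ext h)
  have hp : Fact (Nat.Prime 2) := ⟨Nat.prime_two⟩
  have h32 : 16 < Nat.card T := by
    have e1 : (2 : ℕ) ^ 5 ∣ Nat.card G := Cfsg.Agent.Omega.Exits.dvd_card hG.rank
    have e2 : (2 : ℕ) ^ 5 ∣ Nat.card T := T.pow_dvd_card_of_pow_dvd_card e1
    have e3 := Nat.le_of_dvd Nat.card_pos e2
    omega
  refine m.two_false h₁ (hT1.trans s₁.PK) (hT2.trans (s₂.conj y |>.conj k).PK) hT3 (z := d) ?_ ?_ h32
  · intro h5
    apply hd1'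
    have h6 : d ∈ vx (S : Subgroup G) P₁ ⊓ cv (S : Subgroup G) P₁ := ⟨h5.1, hd⟩
    rw [s₁.inf] at h6
    exact mem_bot.1 h6
  · intro t ht
    exact (mem_centralizer_iff.1 (s₁.cen (hT1 ht)) d hd).symm

end Cfsg.Agent.Omega.HTwo.Exit
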