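import Cfsg.Agent.Mrg.Omega.HTwo.EightMain
import Cfsg.Agent.Mrg.ParSys.Polar.Symp
import Cfsg.Agent.Mrg.ParSys.Core

section


/-!
# II.0h1, `q = 2`, (7) of #15507: the symplectic module `U / ⟨z⟩`

From `Res z M U Δ f t`: `Wm A` is the space of the functions `f(u, ·)`, `u ∈ U` (`U / ⟨z⟩`), `cl A u` the class of
`u`, `gf A` the form, `rho A hC` the action of `C ≤ M` by conjugation.

* `symp A : Symp (gf A)`;
* `exists_sact` : `C ≤ M` with `t p ∈ C` for the `p ∈ Δ` acts as required in `Sympl.SAct`;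
* `card_U : |U| = 2 |W|`, `exists_pt` : every vector `≠ 0` is the class of exactly one `p ∈ Δ`.
-/

set_option autoImplicit false
set_option linter.unusedSectionVars false

namespace Cfsg.Agent.Omega.HTwo.Seven

open Subgroup Cfsg.Agent.Omega.BTwo Cfsg.Agent.Omega.HTwo.Eight
open Cfsg.Agent.ParSys.Polar.Sympl Cfsg.Agent.ParSys.Polar.Flags

variable {G : Type*} [Group G] {z : G} {M U : Subgroup G} {Δ : Set G} {f : G → G → ZMod 2} {t : G → G}

theorem zm2 (a : ZMod 2) : a = 0 ∨ a = 1 := by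
  revert a; decide

theorem zm2_add (a : ZMod 2) : a + a = 0 := by
  revert a; decide

/-- the functions `f(u, ·)`, `u ∈ U` -/
def Wm (A : Res z M U Δ f t) : Submodule (ZMod 2) (↥U → ZMod 2) where
  carrier := {φ | ∃ u ∈ U, ∀ v : ↥U, φ v = f u v}
  zero_mem' := ⟨1, one_mem _, fun v => (A.one_f v.2).symm⟩
  add_mem' := by
    rintro φ ψ ⟨u, hu, h1⟩ ⟨v, hv, h2⟩
    exact ⟨u * v, mul_mem hu hv, fun w => by rw [Pi.add_apply, h1, h2, A.f_add u hu v hv w w.2]⟩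
  smul_mem' := by
    rintro c φ ⟨u, hu, h1⟩
    rcases zm2 c with rfl | rfl
    · exact ⟨1, one_mem _, fun v => by rw [Pi.smul_apply, zero_smul, A.one_f v.2]⟩
    · exact ⟨u, hu, fun v => by rw [one_smul, h1]⟩

open Classical in
/-- the class of `u` -/
noncomputable def cl (A : Res z M U Δ f t) (u : G) : ↥(Wm A) :=
  if h : u ∈ U then ⟨fun v => f u v, u, h, fun _ => rfl⟩ else 0

section basic

variable (A : Res z M U Δ f t)

theorem cl_apply {u : G} (hu : u ∈ U) (v : ↥U) : (cl A u : ↥U → ZMod 2) v = f u v := by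
  unfold cl
  rw [dif_pos hu]

theorem exists_cl (w : ↥(Wm A)) : ∃ u ∈ U, cl A u = w := by
  obtain ⟨φ, u, hu, h⟩ := w
  refine ⟨u, hu, Subtype.ext (funext fun v => ?_)⟩
  rw [cl_apply A hu]
  exact (h v).symm

theorem cl_mul {u v : G} (hu : u ∈ U) (hv : v ∈ U) : cl A (u * v) = cl A u + cl A v := by
  apply Subtype.ext
  funext w
  rw [cl_apply A (mul_mem hu hv), A.f_add u hu v hv w w.2]
  show _ = (cl A u : ↥U → ZMod 2) w + (cl A v : ↥U → ZMod 2) w
  rw [cl_apply A hu, cl_apply A hv]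

theorem cl_z : cl A z = 0 := by
  apply Subtype.ext
  funext w
  rw [cl_apply A A.z_U, A.f_z w w.2]
  rfl

theorem cl_one : cl A 1 = 0 := by
  apply Subtype.ext
  funext w
  rw [cl_apply A (one_mem _), A.one_f w.2]
  rfl

theorem cl_eq_zero {u : G} (hu : u ∈ U) : cl A u = 0 ↔ u = 1 ∨ u = z := by
  constructor
  · intro h
    refine A.f_rad u hu fun v hv => ?_
    have := cl_apply A hu ⟨v, hv⟩
    rw [h] at this
    exact this.symm
  · rintro (rfl | rfl)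
    · exact cl_one A
    · exact cl_z A

theorem two_w (w : ↥(Wm A)) : w + w = 0 := by
  apply Subtype.ext
  funext v
  exact zm2_add _

theorem cl_eq {u v : G} (hu : u ∈ U) (hv : v ∈ U) : cl A u = cl A v ↔ v = u ∨ v = u * z := by
  have h1 : cl A u = cl A v ↔ cl A (u * v) = 0 := by
    rw [cl_mul A hu hv]
    constructor
    · intro h; rw [h, two_w]
    · intro h
      calc cl A u = cl A u + (cl A v + cl A v) := by rw [two_w, add_zero]
        _ = (cl A u + cl A v) + cl A v := by rw [add_assoc]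
        _ = cl A v := by rw [h, zero_add]
  rw [h1, cl_eq_zero A (mul_mem hu hv)]
  have e : ∀ x, u * v = x ↔ v = u * x := fun x => by
    constructor
    · rintro rfl; rw [← mul_assoc, A.U_sq u hu, one_mul]
    · rintro rfl; rw [← mul_assoc, A.U_sq u hu, one_mul]
  rw [e, e, mul_one]

/-- every vector `≠ 0` is the class of a `p ∈ Δ` -/
theorem exists_pt {w : ↥(Wm A)} (hw : w ≠ 0) : ∃ p ∈ Δ, cl A p = w := by
  obtain ⟨u, hu, rfl⟩ := exists_cl A w
  rcases A.cover u hu with h | h | h | h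
  · exact absurd ((cl_eq_zero A hu).2 (Or.inl h)) hw
  · exact absurd ((cl_eq_zero A hu).2 (Or.inr h)) hw
  · exact ⟨u, h, rfl⟩
  · exact ⟨u * z, h, by rw [cl_mul A hu A.z_U, cl_z, add_zero]⟩

theorem pt_inj {p q : G} (hp : p ∈ Δ) (hq : q ∈ Δ) (h : cl A p = cl A q) : p = q := by
  rcases (cl_eq A (A.Δ_U p hp) (A.Δ_U q hq)).1 h with h1 | h1
  · exact h1.symm
  · exact absurd (h1 ▸ hq) (A.inj p hp)

theorem cl_pt_ne {p : G} (hp : p ∈ Δ) : cl A p ≠ 0 := fun h => by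
  rcases (cl_eq_zero A (A.Δ_U p hp)).1 h with h1 | h1
  · exact A.Δ_1 (h1 ▸ hp)
  · exact A.Δ_z (h1 ▸ hp)

/-- the form -/
noncomputable def gf (v w : ↥(Wm A)) : ZMod 2 :=
  (v : ↥U → ZMod 2) ⟨(exists_cl A w).choose, (exists_cl A w).choose_spec.1⟩

theorem gf_cl {u v : G} (hu : u ∈ U) (hv : v ∈ U) : gf A (cl A u) (cl A v) = f u v := by
  unfold gf
  rw [cl_apply A hu]
  obtain ⟨hw, h2⟩ := (exists_cl A (cl A v)).choose_spec
  show f u ((exists_cl A (cl A v)).choose) = f u v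
  rw [A.f_symm u hu _ hw, A.f_symm u hu v hv, ← cl_apply A hw ⟨u, hu⟩, ← cl_apply A hv ⟨u, hu⟩, h2]

/-- the form is symplectic -/
theorem symp : Symp (F := ZMod 2) (gf A) where
  two := rfl
  self x := by
    obtain ⟨u, hu, rfl⟩ := exists_cl A x
    rw [gf_cl A hu hu, A.f_self u hu]
  add x y w := by
    obtain ⟨u, hu, rfl⟩ := exists_cl A x
    obtain ⟨v, hv, rfl⟩ := exists_cl A y
    obtain ⟨s, hs, rfl⟩ := exists_cl A w
    rw [← cl_mul A hu hv, gf_cl A (mul_mem hu hv) hs, gf_cl A hu hs, gf_cl A hv hs, A.f_add u hu v hv s hs]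
  smul c x y := by
    rcases zm2 c with rfl | rfl
    · obtain ⟨s, hs, rfl⟩ := exists_cl A y
      rw [zero_smul, zero_mul, ← cl_one A, gf_cl A (one_mem _) hs, A.one_f hs]
    · rw [one_smul, one_mul]
  sym x y := by
    obtain ⟨u, hu, rfl⟩ := exists_cl A x
    obtain ⟨v, hv, rfl⟩ := exists_cl A y
    rw [gf_cl A hu hv, gf_cl A hv hu, A.f_symm v hv u hu]
  nd x h := by
    obtain ⟨u, hu, rfl⟩ := exists_cl A x
    refine (cl_eq_zero A hu).2 (A.f_rad u hu fun v hv => ?_)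
    rw [← gf_cl A hu hv]
    exact h _

/-- `|U| = 2 |W|` -/
theorem card_U [Finite G] : Nat.card U = 2 * Nat.card ↥(Wm A) := by
  classical
  let φ : ↥U → ↥(Wm A) × ZMod 2 → Prop := fun _ _ => True
  -- `U ≃ W × ⟨z⟩`
  have hsec : ∀ w : ↥(Wm A), ∃ u : ↥U, cl A (u : G) = w := fun w => by
    obtain ⟨u, hu, h⟩ := exists_cl A w
    exact ⟨⟨u, hu⟩, h⟩
  choose s hs using hsec
  let F : ↥(Wm A) × ZMod 2 → ↥U := fun x => s x.1 * ⟨pw z x.2, pw_mem A.z_U x.2⟩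
  have hclF : ∀ x, cl A (F x : G) = x.1 := by
    intro x
    show cl A ((s x.1 : G) * pw z x.2) = x.1
    rw [cl_mul A (s x.1).2 (pw_mem A.z_U x.2), hs]
    have : cl A (pw z x.2) = 0 := by
      rcases zm2 x.2 with h | h
      · rw [h, pw_zero, cl_one]
      · rw [h, pw_one, cl_z]
    rw [this, add_zero]
  have hF : Function.Bijective F := by
    constructor
    · intro x y h
      have h1 : x.1 = y.1 := by rw [← hclF x, h, hclF]
      have h2 : (F x : G) = F y := congrArg Subtype.val h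
      change (s x.1 : G) * pw z x.2 = (s y.1 : G) * pw z y.2 at h2
      rw [h1] at h2
      exact Prod.ext h1 (pw_inj A.z1 (mul_left_cancel h2))
    · intro u
      have h1 : cl A (s (cl A (u : G)) : G) = cl A (u : G) := hs _
      rcases (cl_eq A (s (cl A (u : G))).2 u.2).1 h1 with h2 | h2
      · refine ⟨(cl A (u : G), 0), Subtype.ext ?_⟩
        show (s (cl A (u : G)) : G) * pw z 0 = u
        rw [pw_zero, mul_one, ← h2]
      · refine ⟨(cl A (u : G), 1), Subtype.ext ?_⟩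
        show (s (cl A (u : G)) : G) * pw z 1 = u
        rw [pw_one, ← h2]
  rw [← Nat.card_congr (Equiv.ofBijective F hF), Nat.card_prod, Nat.card_zmod, mul_comm]

end basic

section action

variable (A : Res z M U Δ f t) {C : Subgroup G} (hC : C ≤ M)

/-- the representative -/
noncomputable def rp (w : ↥(Wm A)) : G := (exists_cl A w).choose

theorem rp_U (w : ↥(Wm A)) : rp A w ∈ U := (exists_cl A w).choose_spec.1

theorem cl_rp (w : ↥(Wm A)) : cl A (rp A w) = w := (exists_cl A w).choose_spec.2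

theorem cl_conj_rp {c u : G} (hc : c ∈ M) (hu : u ∈ U) : cl A (c * rp A (cl A u) * c⁻¹) = cl A (c * u * c⁻¹) := by
  have h1 := cl_rp A (cl A u)
  have h2 := rp_U A (cl A u)
  obtain ⟨w, hw⟩ : ∃ w, w = rp A (cl A u) := ⟨_, rfl⟩
  rw [← hw] at h1 h2 ⊢
  rcases (cl_eq A h2 hu).1 h1 with h3 | h3
  · rw [← h3]
  · have e : c * u * c⁻¹ = c * w * c⁻¹ * z := by
      have := A.conj_z hc
      calc c * u * c⁻¹ = c * (w * z) * c⁻¹ := by rw [h3]
        _ = c * w * c⁻¹ * (c * z * c⁻¹) := by group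
        _ = _ := by rw [this]
    rw [e, cl_mul A (A.U_M c hc _ h2) A.z_U, cl_z, add_zero]

/-- the action of `C` -/
noncomputable def rho (c : ↥C) : ↥(Wm A) ≃+ ↥(Wm A) where
  toFun w := cl A ((c : G) * rp A w * (c : G)⁻¹)
  invFun w := cl A ((c : G)⁻¹ * rp A w * (c : G))
  left_inv w := by
    have h1 : (c : G) * rp A w * (c : G)⁻¹ ∈ U := A.U_M c (hC c.2) _ (rp_U A w)
    have h2 := cl_conj_rp A (c := (c : G)⁻¹) (inv_mem (hC c.2)) h1
    rw [inv_inv] at h2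
    show cl A ((c : G)⁻¹ * rp A (cl A ((c : G) * rp A w * (c : G)⁻¹)) * (c : G)) = w
    rw [h2]
    have e : (c : G)⁻¹ * ((c : G) * rp A w * (c : G)⁻¹) * (c : G) = rp A w := by group
    rw [e, cl_rp]
  right_inv w := by
    have h1 : (c : G)⁻¹ * rp A w * (c : G) ∈ U := by
      have := A.U_M (c : G)⁻¹ (inv_mem (hC c.2)) _ (rp_U A w)
      rwa [inv_inv] at this
    have h2 := cl_conj_rp A (c := (c : G)) (hC c.2) h1
    show cl A ((c : G) * rp A (cl A ((c : G)⁻¹ * rp A w * (c : G))) * (c : G)⁻¹) = w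
    rw [h2]
    have e : (c : G) * ((c : G)⁻¹ * rp A w * (c : G)) * (c : G)⁻¹ = rp A w := by group
    rw [e, cl_rp]
  map_add' v w := by
    have h1 := cl_conj_rp A (c := (c : G)) (hC c.2) (mul_mem (rp_U A v) (rp_U A w))
    rw [cl_mul A (rp_U A v) (rp_U A w), cl_rp, cl_rp] at h1
    show cl A ((c : G) * rp A (v + w) * (c : G)⁻¹) = _
    rw [h1]
    have e : (c : G) * (rp A v * rp A w) * (c : G)⁻¹ =
        ((c : G) * rp A v * (c : G)⁻¹) * ((c : G) * rp A w * (c : G)⁻¹) := by group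
    rw [e, cl_mul A (A.U_M c (hC c.2) _ (rp_U A v)) (A.U_M c (hC c.2) _ (rp_U A w))]

theorem rho_cl (c : ↥C) {u : G} (hu : u ∈ U) : rho A hC c (cl A u) = cl A ((c : G) * u * (c : G)⁻¹) :=
  cl_conj_rp A (hC c.2) hu

/-- **the action** -/
theorem exists_sact (hT : ∀ p ∈ Δ, t p ∈ C) :
    ∃ sigma : ↥C →* Equiv.Perm (Submodule (ZMod 2) ↥(Wm A)), SAct (gf A) (rho A hC) sigma := by
  have mul : ∀ a b v, rho A hC (a * b) v = rho A hC a (rho A hC b v) := by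
    intro a b v
    obtain ⟨u, hu, rfl⟩ := exists_cl A v
    rw [rho_cl A hC _ hu, rho_cl A hC b hu, rho_cl A hC a (A.U_M b (hC b.2) u hu)]
    congr 1
    rw [Subgroup.coe_mul]
    group
  have lin : ∀ c (s : ZMod 2) v, rho A hC c (s • v) = s • rho A hC c v := by
    intro c s v
    rcases zm2 s with rfl | rfl
    · rw [zero_smul, zero_smul, map_zero]
    · rw [one_smul, one_smul]
  obtain ⟨sigma, hs⟩ := Cfsg.Agent.ParSys.Polar.Hermit.exists_sigma (F := ZMod 2) (rho := rho A hC) mul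
    (fun c => ⟨RingHom.id _, fun s v => lin c s v⟩)
  refine ⟨sigma, mul, hs, lin, ?_, ?_⟩
  · intro c u v
    obtain ⟨a, ha, rfl⟩ := exists_cl A u
    obtain ⟨b, hb, rfl⟩ := exists_cl A v
    rw [rho_cl A hC _ ha, rho_cl A hC _ hb, gf_cl A (A.U_M c (hC c.2) a ha) (A.U_M c (hC c.2) b hb), gf_cl A ha hb,
      A.f_M c (hC c.2) a ha b hb]
  · intro y a
    have h0 : ∀ v, rho A hC (1 : ↥C) v = v := fun v => by
      have h := mul 1 1 v
      rw [mul_one] at h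
      exact ((rho A hC (1 : ↥C)).injective h).symm
    by_cases hy : y = 0
    · exact ⟨1, fun v => by rw [h0, hy, smul_zero, add_zero]⟩
    obtain ⟨p, hp, rfl⟩ := exists_pt A hy
    rcases zm2 a with rfl | rfl
    · exact ⟨1, fun v => by rw [h0, zero_mul, zero_smul, add_zero]⟩
    · refine ⟨⟨t p, hT p hp⟩, fun v => ?_⟩
      obtain ⟨u, hu, rfl⟩ := exists_cl A v
      rw [rho_cl A hC _ hu, gf_cl A hu (A.Δ_U p hp), one_mul]
      show cl A (t p * u * (t p)⁻¹) = _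
      rw [A.t_act hp hu, A.f_symm u hu p (A.Δ_U p hp)]
      rcases zm2 (f p u) with h | h
      · rw [h, pw_zero, mul_one, zero_smul, add_zero]
      · rw [h, pw_one, one_smul, cl_mul A hu (A.pz_U hp), cl_mul A (A.Δ_U p hp) A.z_U, cl_z, add_zero]

end action

end Cfsg.Agent.Omega.HTwo.Seven

end

section


/-!
# II.0h1, `q = 2`, (7) of #15507: the flag of the Sylow group

`S` a Sylow 2-subgroup of `G`, `S ≤ M`, `S ≤ C(r)`.  There is a maximal flag `fl` of `U / ⟨z⟩` with `fl 1 = ⟨r⟩` which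
is invariant under `S`; `S` is the stabiliser of the flag in `M`.

* `structure Fg` : the situation; `exists_fg` : existence;
* `Fg.card_S : 2 ^ ((m + 1) ^ 2) ≤ |S|`;
* `Fg.exists_Y` : a subgroup `Y ≤ S` of order at least `2 ^ ((m + 1) ^ 2)` in `U ⟨t p : p ∈ Δ⟩`.
-/

set_option autoImplicit false
set_option linter.unusedSectionVars false

namespace Cfsg.Agent.Omega.HTwo.Seven

open Subgroup Module Cfsg.Agent.Omega.BTwo Cfsg.Agent.Omega.HTwo.Eight
open Cfsg.Agent.ParSys.Polar.Sympl Cfsg.Agent.ParSys.Polar.Flags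

variable {G : Type*} [Group G] {z : G} {M U : Subgroup G} {Δ : Set G} {f : G → G → ZMod 2} {t : G → G}

section

variable (A : Res z M U Δ f t)

/-- an element of `M` which fixes all vectors centralises `U` -/
theorem cen_of_triv {C : Subgroup G} (hC : C ≤ M) {c : ↥C} (h : ∀ v, rho A hC c v = v) {u : G} (hu : u ∈ U) :
    (c : G) * u = u * (c : G) := by
  have hp : ∀ p ∈ Δ, (c : G) * p = p * (c : G) := by
    intro p hp
    have h1 := h (cl A p)
    rw [rho_cl A hC c (A.Δ_U p hp)] at h1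
    exact mul_inv_eq_iff_eq_mul.1 (pt_inj A (A.Δ_M c (hC c.2) p hp) hp h1)
  rcases A.cover u hu with h1 | h1 | h1 | h1
  · rw [h1, mul_one, one_mul]
  · rw [h1]; exact A.mz (hC c.2)
  · exact hp u h1
  · have h2 := hp _ h1
    have h3 := A.mz (hC c.2)
    have hz := A.zz
    calc (c : G) * u = (c : G) * (u * z) * z := by rw [← mul_assoc, mul_assoc _ z z, hz, mul_one]
      _ = u * z * (c : G) * z := by rw [h2]
      _ = u * z * (z * (c : G)) := by rw [mul_assoc, h3]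
      _ = u * (c : G) := by rw [← mul_assoc, mul_assoc u z z, hz, mul_one]

theorem triv_of_cen {C : Subgroup G} (hC : C ≤ M) {c : ↥C} (h : ∀ u ∈ U, (c : G) * u = u * (c : G)) (v : ↥(Wm A)) :
    rho A hC c v = v := by
  obtain ⟨u, hu, rfl⟩ := exists_cl A v
  rw [rho_cl A hC c hu, h u hu, mul_inv_cancel_right]

/-- the flag stabiliser is a 2-group -/
theorem fst_two {r : G} (O : Out z M U Δ f t r) {C : Subgroup G} (hC : C ≤ M)
    {sigma : ↥C →* Equiv.Perm (Submodule (ZMod 2) ↥(Wm A))} {m : ℕ} {fl : ℕ → Submodule (ZMod 2) ↥(Wm A)}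
    [Finite G] (p : Pol C (gf A) (rho A hC) sigma m fl) : IsPGroup 2 (fst C sigma m fl ∅) := by
  rintro ⟨x, hx⟩
  have hxC : x ∈ C := fst_le hx
  have h1 := p.pow_triv (by rw [Nat.card_zmod]) (c := ⟨x, hxC⟩) hx
  have h2 : ∀ u ∈ U, x ^ 2 ^ (m + 1) * u = u * x ^ 2 ^ (m + 1) := fun u hu =>
    cen_of_triv A hC (c := (⟨x, hxC⟩ : ↥C) ^ 2 ^ (m + 1)) h1 hu
  have h3 := O.C_U _ (pow_mem (hC hxC) _) h2
  refine ⟨m + 2, Subtype.ext ?_⟩
  show x ^ 2 ^ (m + 2) = 1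
  have h4 : (2 : ℕ) ^ (m + 2) = 2 ^ (m + 1) * 2 := by rw [pow_succ]
  rw [h4, pow_mul, pow_two]
  exact A.U_sq _ h3

/-- the order of the flag stabiliser -/
theorem fst_card [Finite G] {C : Subgroup G} (hC : C ≤ M) (hU : U ≤ C)
    {sigma : ↥C →* Equiv.Perm (Submodule (ZMod 2) ↥(Wm A))} {m : ℕ} {fl : ℕ → Submodule (ZMod 2) ↥(Wm A)}
    (p : Pol C (gf A) (rho A hC) sigma m fl) : 2 ^ ((m + 1) ^ 2) ≤ Nat.card (fst C sigma m fl ∅) := by
  have h1 := p.card_le hU (fun x hx v => triv_of_cen A hC (c := ⟨x, hU hx⟩) (fun u hu => A.U_comm x hx u hu) v)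
  refine le_trans (le_of_eq ?_) h1
  rw [card_U A, Module.natCard_eq_pow_finrank (K := ZMod 2) (V := ↥(Wm A)), (symp A).finrank_eq p.hm, Nat.card_zmod]
  ring

/-- the flag of the Sylow group `S` -/
structure Fg (S : Subgroup G) (r : G) (sigma : ↥M →* Equiv.Perm (Submodule (ZMod 2) ↥(Wm A))) (m : ℕ)
    (fl : ℕ → Submodule (ZMod 2) ↥(Wm A)) : Prop where
  pol : Pol M (gf A) (rho A le_rfl) sigma m fl
  one : fl 1 = Submodule.span (ZMod 2) {cl A r}
  bor : fst M sigma m fl ∅ = S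
  two : 2 ≤ m

/-- **existence** -/
theorem exists_fg [Finite G] {r : G} (O : Out z M U Δ f t r) (hr : r ∈ Δ) {p : G} (hp : p ∈ Δ) (hpr : p ≠ r)
    (hf : f r p = 0) (S : Sylow 2 G) (hSM : (S : Subgroup G) ≤ M) (hSr : ∀ s ∈ (S : Subgroup G), s * r = r * s) :
    ∃ sigma m fl, Fg A (S : Subgroup G) r sigma m fl := by
  have H := symp A
  have hrU := A.Δ_U r hr
  obtain ⟨m, hm⟩ := H.exists_witt
  obtain ⟨sigma, hs⟩ := exists_sact A (le_refl M) (fun p hp => A.t_M hp)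
  have hact := SAct.act H hs
  let f₀ : ℕ → Submodule (ZMod 2) ↥(Wm A) := fun d => if d = 0 then ⊥ else Submodule.span (ZMod 2) {cl A r}
  have hf₀ : Fl (TI (gf A) (F := ZMod 2)) 1 f₀ := by
    refine ⟨fun d hd => ?_, fun d hd => ?_, ?_⟩
    · obtain rfl : d = 0 := by omega
      simp only [f₀, if_pos]
      exact bot_le
    · rcases Nat.eq_zero_or_pos d with rfl | hd'
      · simp only [f₀, if_pos]
        exact finrank_bot _ _
      · obtain rfl : d = 1 := by omega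
        show finrank (ZMod 2) ↥(Submodule.span (ZMod 2) {cl A r}) = 1
        exact finrank_span_singleton (cl_pt_ne A hr)
    · show TI (gf A) (Submodule.span (ZMod 2) {cl A r})
      exact H.TI_span _
  let tau : ↥(S : Subgroup G) →* Equiv.Perm (Submodule (ZMod 2) ↥(Wm A)) := sigma.comp (inclusion hSM)
  have hr0 : ∀ s : ↥(S : Subgroup G), rho A le_rfl (inclusion hSM s) (cl A r) = cl A r := fun s => by
    rw [rho_cl A le_rfl _ hrU]
    congr 1
    exact mul_inv_eq_iff_eq_mul.2 (hSr s s.2)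
  have hinv : ∀ s, ∀ d ≤ 1, tau s (f₀ d) = f₀ d := by
    intro s d hd
    refine hs.eq_of_fix (c := inclusion hSM s) fun v hv => ?_
    rcases Nat.eq_zero_or_pos d with rfl | hd'
    · simp only [f₀] at hv
      rw [(Submodule.mem_bot _).1 hv, map_zero]
    · obtain rfl : d = 1 := by omega
      obtain ⟨a, rfl⟩ := Submodule.mem_span_singleton.1 (show v ∈ Submodule.span (ZMod 2) {cl A r} from hv)
      rw [hs.lin, hr0]
  obtain ⟨h1m, fl, hfl, h1, h2⟩ := exists_fl_inv H (tau := tau) (by rw [Nat.card_zmod]) hm S.isPGroup'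
    (fun s _ _ h => hact.le (inclusion hSM s) h) (fun s X => hact.rk (inclusion hSM s) X)
    (fun s _ h => hact.sing (inclusion hSM s) h) hf₀ hinv
  have hpol : Pol M (gf A) (rho A le_rfl) sigma m fl := ⟨H, hs, hm, hfl⟩
  have hle : (S : Subgroup G) ≤ fst M sigma m fl ∅ := fun s hs' =>
    ⟨hSM hs', fun d hd _ => h2 ⟨s, hs'⟩ d hd⟩
  refine ⟨sigma, m, fl, hpol, h1 1 le_rfl, ?_, ?_⟩
  · exact S.is_maximal' (fst_two A O le_rfl hpol) hle
  · -- `m ≥ 2`
    have hpU := A.Δ_U p hp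
    have h3 : TI (gf A) (Submodule.span (ZMod 2) {cl A r} ⊔ Submodule.span (ZMod 2) {cl A p}) := by
      refine H.TI_sup_span (H.TI_span _) ?_
      rw [H.mem_perp_span, gf_cl A hpU hrU, A.f_symm p hpU r hrU, hf]
    have h4 := hm.2 _ h3
    have h5 : cl A p ∉ Submodule.span (ZMod 2) {cl A r} := by
      intro h
      obtain ⟨a, ha⟩ := Submodule.mem_span_singleton.1 h
      rcases zm2 a with rfl | rfl
      · rw [zero_smul] at ha
        exact cl_pt_ne A hp ha.symm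
      · rw [one_smul] at ha
        exact hpr (pt_inj A hp hr ha.symm)
    rw [Submodule.finrank_sup_span_singleton h5, finrank_span_singleton (cl_pt_ne A hr)] at h4
    exact h4

namespace Fg

variable {A} {S : Subgroup G} {r : G} {sigma : ↥M →* Equiv.Perm (Submodule (ZMod 2) ↥(Wm A))} {m : ℕ}
  {fl : ℕ → Submodule (ZMod 2) ↥(Wm A)} (F : Fg A S r sigma m fl)

include F

theorem S_le [Finite G] : S ≤ M := by rw [← F.bor]; exact fst_le

/-- `|S| ≥ 2 ^ ((m + 1) ^ 2)` -/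
theorem card_S [Finite G] : 2 ^ ((m + 1) ^ 2) ≤ Nat.card S := by
  have h := fst_card A le_rfl A.U_le_M F.pol
  rwa [F.bor] at h

/-- a large subgroup of `S` in `U ⟨t p : p ∈ Δ⟩` -/
theorem exists_Y [Finite G] : ∃ Y ≤ S, Y ≤ U ⊔ closure (t '' Δ) ∧ 2 ^ ((m + 1) ^ 2) ≤ Nat.card Y := by
  have hC : U ⊔ closure (t '' Δ) ≤ M := by
    refine sup_le A.U_le_M ((closure_le _).2 ?_)
    rintro _ ⟨p, hp, rfl⟩
    exact A.t_M hp
  obtain ⟨sg, hs⟩ := exists_sact A hC (fun p hp => mem_sup_right (subset_closure ⟨p, hp, rfl⟩))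
  have hpol : Pol (U ⊔ closure (t '' Δ)) (gf A) (rho A hC) sg m fl := ⟨F.pol.H, hs, F.pol.hm, F.pol.hf⟩
  refine ⟨fst (U ⊔ closure (t '' Δ)) sg m fl ∅, ?_, fst_le, fst_card A hC le_sup_left hpol⟩
  rw [← F.bor]
  rintro x ⟨hx, hx'⟩
  refine ⟨hC hx, fun d hd h => ?_⟩
  have h1 := hx' d hd h
  ext w
  have h2 : w ∈ sigma ⟨x, hC hx⟩ (fl d) ↔ w ∈ sg ⟨x, hx⟩ (fl d) := by
    rw [F.pol.A.sig, hs.sig]
    constructor
    · rintro ⟨v, hv, rfl⟩
      obtain ⟨u, hu, rfl⟩ := exists_cl A v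
      exact ⟨_, hv, by rw [rho_cl A hC _ hu, rho_cl A le_rfl _ hu]⟩
    · rintro ⟨v, hv, rfl⟩
      obtain ⟨u, hu, rfl⟩ := exists_cl A v
      exact ⟨_, hv, by rw [rho_cl A hC _ hu, rho_cl A le_rfl _ hu]⟩
  rw [h2, h1]

end Fg

end

end Cfsg.Agent.Omega.HTwo.Seven

end

section


/-!
# II.0h1, `q = 2`, (7) of #15507: the subgroup `R* = ⟨r, s, e⟩ = 2³` of the residue `(0, 1)`, the elements

`r, s ∈ Δ` a line, `l ∈ L_r` with `z^l = t_r`, `e = s^l`.

* `cen_z` : `C(r) ∩ C(s) ≤ C(z)`;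
* `cm_e` : `[v, e] = r^{f(s, v)}` for `v ∈ U ∩ Q_r`;
* `conj_w` : `e^w ∈ e s ⟨r⟩` for `w ∈ U ∖ Q_r`;
* `e_Qs` : `e ∈ Q_s`.
-/

set_option autoImplicit false
set_option linter.unusedSectionVars false

namespace Cfsg.Agent.Omega.HTwo.Seven

open Subgroup Cfsg.Agent.Omega.BTwo Cfsg.Agent.Omega.HTwo.Eight

variable {G : Type*} [Group G] {z : G} {M U : Subgroup G} {Δ : Set G} {f : G → G → ZMod 2} {t : G → G}

theorem ne_one_iff {a : ZMod 2} : a ≠ 0 ↔ a = 1 := by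
  revert a; decide

theorem cm_conj (g x y : G) : cm (g * x * g⁻¹) (g * y * g⁻¹) = cm x y := by
  have h : (g * x * g⁻¹) * (g * y * g⁻¹) = (g * y * g⁻¹) * (g * x * g⁻¹) ↔ x * y = y * x := by
    constructor
    · intro h
      calc x * y = g⁻¹ * ((g * x * g⁻¹) * (g * y * g⁻¹)) * g := by group
        _ = g⁻¹ * ((g * y * g⁻¹) * (g * x * g⁻¹)) * g := by rw [h]
        _ = y * x := by group
    · intro h
      calc (g * x * g⁻¹) * (g * y * g⁻¹) = g * (x * y) * g⁻¹ := by group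
        _ = g * (y * x) * g⁻¹ := by rw [h]
        _ = _ := by group
  by_cases h1 : x * y = y * x
  · rw [cm_of h1, cm_of (h.2 h1)]
  · rw [cm, cm, if_neg h1, if_neg (fun h2 => h1 (h.1 h2))]

/-- the data of the residue `(0, 1)` -/
structure ED (z : G) (M U : Subgroup G) (Δ : Set G) (f : G → G → ZMod 2) (t : G → G) (r s l : G) : Prop where
  A : Res z M U Δ f t
  h3 : Three z Δ t
  O : Out z M U Δ f t r
  r_Δ : r ∈ Δ
  s_Δ : s ∈ Δ
  ne : s ≠ r
  rs : f r s = 0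
  l_L : l ∈ Lp U r
  lz : l * z * l⁻¹ = t r

namespace ED

variable {r s l : G} (E : ED z M U Δ f t r s l)

include E

theorem rU : r ∈ U := E.A.Δ_U r E.r_Δ
theorem sU : s ∈ U := E.A.Δ_U s E.s_Δ
theorem sr : f s r = 0 := by rw [E.A.f_symm s E.sU r E.rU, E.rs]
theorem rQ : r ∈ Qp r := (E.A.Q_f r E.r_Δ r E.rU).2 (E.A.f_self r E.rU)
theorem sQ : s ∈ Qp r := (E.A.Q_f r E.r_Δ s E.sU).2 E.rs
theorem rr : r * r = 1 := E.A.U_sq r E.rU
theorem ss : s * s = 1 := E.A.U_sq s E.sU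
theorem r_ne : r ≠ 1 := E.A.p_ne_one E.r_Δ
theorem s_ne : s ≠ 1 := E.A.p_ne_one E.s_Δ
theorem lC : l ∈ Cp r := E.A.L_le E.r_Δ E.l_L

theorem s_N : s ∉ Np z r := fun h => by
  rcases E.O.N_U s h E.sU with h1 | h1 | h1 | h1
  · exact E.s_ne h1
  · exact E.ne h1
  · exact E.A.p_ne_z E.s_Δ h1
  · exact E.A.inj r E.r_Δ (h1 ▸ E.s_Δ)

/-- `C(r) ∩ C(s) ≤ C(z)` -/
theorem cen_z {h : G} (hh : h ∈ Cp r) (hs : h * s = s * h) : h * z = z * h := by
  by_contra hz
  have hz' : h * z * h⁻¹ ≠ z := fun h1 => hz (mul_inv_eq_iff_eq_mul.1 h1)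
  have h1 : s ∈ cj h U := by
    have h2 := conj_mem_cj (g := h) E.sU
    rwa [hs, mul_inv_cancel_right] at h2
  exact E.s_N (E.O.Q_inf h hh hz' s ⟨E.sU, E.sQ⟩ s ⟨h1, E.sQ⟩ (by rw [E.ss]; exact one_mem _)).1

/-! ### the form -/

theorem cm_one {x : G} : cm x 1 = 0 := cm_of (by rw [mul_one, one_mul])

theorem cm_r {x : G} (hx : x ∈ Qp r) : cm x r = 0 := cm_of (E.A.r_comm E.r_Δ hx).symm

theorem cm_N {x n : G} (hx : x ∈ Qp r) (hn : n ∈ Np z r) : cm x n = 0 :=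
  cm_of (Z_comm (E.A.N_Z r E.r_Δ hn) hx).symm

theorem pw_Q {g : G} (hg : g ∈ Qp r) (c : ZMod 2) : pw g c ∈ Qp r := pw_mem hg c

theorem cm_pw {x g : G} (c : ZMod 2) : cm x (pw g c) = c * cm x g := by
  rcases zz2 c with h | h
  · rw [h, pw_zero, E.cm_one, zero_mul]
  · rw [h, pw_one, one_mul]
where zz2 (a : ZMod 2) : a = 0 ∨ a = 1 := by revert a; decide

theorem cm_right_r {x y : G} (hx : x ∈ Qp r) (hy : y ∈ Qp r) (c : ZMod 2) : cm x (y * pw r c) = cm x y := by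
  rw [E.A.cm_mul_right E.r_Δ hx hy (pw_mem E.rQ c), E.cm_pw, E.cm_r hx, mul_zero, add_zero]

theorem cm_left_r {x y : G} (hx : x ∈ Qp r) (hy : y ∈ Qp r) (c : ZMod 2) : cm (x * pw r c) y = cm x y := by
  rw [E.A.cm_symm E.r_Δ, E.cm_right_r hy hx, E.A.cm_symm E.r_Δ]

theorem cm_conjQ {x y q : G} (hx : x ∈ Qp r) (hy : y ∈ Qp r) (hq : q ∈ Qp r) : cm x (q * y * q⁻¹) = cm x y := by
  rw [E.A.cm_mul_right E.r_Δ hx (mul_mem hq hy) (inv_mem hq), E.A.cm_mul_right E.r_Δ hx hq hy]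
  have h : cm x (q * q⁻¹) = 0 := by rw [mul_inv_cancel]; exact E.cm_one
  rw [E.A.cm_mul_right E.r_Δ hx hq (inv_mem hq)] at h
  have h2 : cm x q + cm x y + cm x q⁻¹ = (cm x q + cm x q⁻¹) + cm x y := by ring
  rw [h2, h, zero_add]

theorem conj_pw_r {g : G} (hg : g ∈ Cp r) (c : ZMod 2) : g * pw r c * g⁻¹ = pw r c := by
  rw [conj_pw, mem_Cp.1 hg, mul_inv_cancel_right]

/-- conjugation by `Q_r` -/
theorem conjQ {q x : G} (hq : q ∈ Qp r) (hx : x ∈ Qp r) : q * x * q⁻¹ = x * pw r (cm q x) := by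
  have h1 := E.A.cm_eq E.r_Δ hq hx
  rw [h1]
  have h2 := E.A.pw_r_comm E.r_Δ hx (cm q x)
  calc pw r (cm q x) * (x * q) * q⁻¹ = pw r (cm q x) * x := by group
    _ = x * pw r (cm q x) := h2

/-! ### `L ∩ C(z)` -/

/-- `C(r) ∩ C(z) = K_r U` -/
theorem mem_KU {g : G} (hg : g ∈ Cp r) (hgz : g * z = z * g) : ∃ k ∈ Kp z r, ∃ u ∈ U, g = k * u := by
  have h1 : g ∈ Kp z r ⊔ U := by
    rw [← E.O.C_rz]
    exact ⟨hg, mem_Cp.2 hgz⟩
  have h2 : U ≤ normalizer (Kp z r : Set G) := by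
    intro u hu
    rw [mem_normalizer_iff]
    refine fun k => ⟨fun hk => E.A.K_normal (E.A.U_cen E.r_Δ hu) hk, fun hk => ?_⟩
    have h3 := E.A.K_normal (inv_mem (E.A.U_cen E.r_Δ hu)) hk
    have e : u⁻¹ * (u * k * u⁻¹) * u⁻¹⁻¹ = k := by group
    rwa [e] at h3
  rw [← SetLike.mem_coe, coe_mul_of_right_le_normalizer_left _ _ h2] at h1
  obtain ⟨k, hk, u, hu, rfl⟩ := h1
  exact ⟨k, hk, u, hu, rfl⟩

/-- `L ∩ C(z) = Q_r U` -/
theorem mem_QU {g : G} (hg : g ∈ Lp U r) (hgz : g * z = z * g) : ∃ q ∈ Qp r, ∃ u ∈ U, g = q * u := by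
  obtain ⟨k, hk, u, hu, rfl⟩ := E.mem_KU (E.A.L_le E.r_Δ hg) hgz
  refine ⟨k, ?_, u, hu, rfl⟩
  rw [← E.O.L_K]
  refine mem_inf.2 ⟨?_, hk⟩
  have h1 := mul_mem hg (inv_mem (E.A.U_le_L (r := r) hu))
  rwa [mul_inv_cancel_right] at h1

/-- `g v g⁻¹` modulo `r` depends only on `g z g⁻¹`, `g ∈ L`, `v ∈ U ∩ Q_r` -/
theorem rho_eq {g g' v : G} (hg : g ∈ Lp U r) (hg' : g' ∈ Lp U r) (e : g * z * g⁻¹ = g' * z * g'⁻¹) (hv : v ∈ U)
    (hvQ : v ∈ Qp r) : ∃ c : ZMod 2, g * v * g⁻¹ = g' * v * g'⁻¹ * pw r c := by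
  have h1 : g'⁻¹ * g * z = z * (g'⁻¹ * g) := by
    calc g'⁻¹ * g * z = g'⁻¹ * (g * z * g⁻¹) * g := by group
      _ = g'⁻¹ * (g' * z * g'⁻¹) * g := by rw [e]
      _ = z * (g'⁻¹ * g) := by group
  obtain ⟨q, hq, u, hu, h2⟩ := E.mem_QU (mul_mem (inv_mem hg') hg) h1
  have h3 : g'⁻¹ * g * v * (g'⁻¹ * g)⁻¹ = v * pw r (cm q v) := by
    rw [h2]
    calc q * u * v * (q * u)⁻¹ = q * (u * v * u⁻¹) * q⁻¹ := by group
      _ = q * v * q⁻¹ := by rw [E.A.U_comm u hu v hv, mul_inv_cancel_right]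
      _ = v * pw r (cm q v) := E.conjQ hq hvQ
  refine ⟨cm q v, ?_⟩
  have h4 := E.conj_pw_r (E.A.L_le E.r_Δ hg') (cm q v)
  calc g * v * g⁻¹ = g' * (g'⁻¹ * g * v * (g'⁻¹ * g)⁻¹) * g'⁻¹ := by group
    _ = g' * (v * pw r (cm q v)) * g'⁻¹ := by rw [h3]
    _ = g' * v * g'⁻¹ * (g' * pw r (cm q v) * g'⁻¹) := by group
    _ = _ := by rw [h4]

theorem conj_Q {g x : G} (hg : g ∈ Cp r) (hx : x ∈ Qp r) : g * x * g⁻¹ ∈ Qp r := by
  have _ := E
  exact Q_normal hg hx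

theorem eQ : l * s * l⁻¹ ∈ Qp r := Q_normal E.lC E.sQ

theorem ee : l * s * l⁻¹ * (l * s * l⁻¹) = 1 := by
  calc l * s * l⁻¹ * (l * s * l⁻¹) = l * (s * s) * l⁻¹ := by group
    _ = 1 := by rw [E.ss]; group

theorem e_inv : (l * s * l⁻¹)⁻¹ = l * s * l⁻¹ := inv_eq_of_mul_eq_one_left E.ee

theorem z_ne_t : z ≠ t r := E.A.z_ne_t E.r_Δ

/-- an element of `U^l ∩ Q_r` which is in `U N_r` is in `N_r` -/
theorem e_N : l * s * l⁻¹ ∉ Np z r := fun h => by
  have h1 := N_normal (inv_mem E.lC) h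
  have e : l⁻¹ * (l * s * l⁻¹) * l⁻¹⁻¹ = s := by group
  rw [e] at h1
  exact E.s_N h1

theorem e_not {u : G} (hu : u ∈ U) (huQ : u ∈ Qp r) : u * (l * s * l⁻¹) ∉ Np z r := fun h => by
  have h1 : l * z * l⁻¹ ≠ z := by rw [E.lz]; exact fun h2 => E.z_ne_t h2.symm
  exact E.e_N (E.O.Q_inf l E.lC h1 u ⟨hu, huQ⟩ _ ⟨conj_mem_cj E.sU, E.eQ⟩ h).2

/-- `r^⊥ ≰ s^⊥` -/
theorem exists_v : ∃ v ∈ U, v ∈ Qp r ∧ f s v = 1 := by
  by_contra hcon
  push Not at hcon
  have h0 : ∀ v ∈ U, f r v = 0 → f s v = 0 := fun v hv h => by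
    by_contra h1
    exact hcon v hv ((E.A.Q_f r E.r_Δ v hv).2 h) (ne_one_iff.1 h1)
  obtain ⟨w, hw, hw1⟩ := E.A.exists_f1 E.r_Δ
  have hrs : r * s ∈ U := mul_mem E.rU E.sU
  have key : ∀ u ∈ U, f s u = f r u * f s w := by
    intro u hu
    rcases z2 (f r u) with h | h
    · rw [h, h0 u hu h, zero_mul]
    · have h1 := h0 (u * w) (mul_mem hu hw) (by rw [E.A.f_add' E.rU hu hw, h, hw1]; decide)
      rw [E.A.f_add' E.sU hu hw] at h1
      rw [h, one_mul]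
      have h2 : ∀ a b : ZMod 2, a + b = 0 → a = b := by decide
      exact h2 _ _ h1
  rcases z2 (f s w) with h | h
  · have h1 := E.A.f_rad s E.sU fun u hu => by rw [key u hu, h, mul_zero]
    exact absurd h1 (not_or.2 ⟨E.s_ne, E.A.p_ne_z E.s_Δ⟩)
  · have h1 := E.A.f_rad _ hrs fun u hu => by
      rw [E.A.f_add r E.rU s E.sU u hu, key u hu, h, mul_one]
      exact ZZ _
    rcases h1 with h1 | h1
    · apply E.ne
      rw [← E.A.inv_eq E.sU]
      exact (mul_eq_one_iff_eq_inv.1 h1).symm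
    · refine E.A.inj r E.r_Δ ?_
      have : r * z = s := by rw [← h1, ← mul_assoc, E.rr, one_mul]
      rw [this]
      exact E.s_Δ
where ZZ (a : ZMod 2) : a + a = 0 := by revert a; decide

/-- the pairing identity -/
theorem pairing {v v₁ : G} (hv : v ∈ U) (hvQ : v ∈ Qp r) (hv₁ : v₁ ∈ U) (hv₁Q : v₁ ∈ Qp r) :
    f s v₁ * cm v (l * s * l⁻¹) + f s v * cm s (l * v₁ * l⁻¹) + f s v * f s v₁ * cm s (l * s * l⁻¹) = 0 := by
  have A := E.A
  have hk := A.t_K E.h3 E.r_Δ E.s_Δ E.rs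
  obtain ⟨k, hkd⟩ : ∃ k, k = t s := ⟨_, rfl⟩
  have hkC := A.CN_le E.r_Δ hk
  obtain ⟨e, hed⟩ : ∃ e, e = l * s * l⁻¹ := ⟨_, rfl⟩
  obtain ⟨x, hxd⟩ : ∃ x, x = l * v₁ * l⁻¹ := ⟨_, rfl⟩
  have heQ : e ∈ Qp r := by rw [hed]; exact E.eQ
  have hxQ : x ∈ Qp r := by rw [hxd]; exact Q_normal E.lC hv₁Q
  have hzQ : z ∈ Qp r := A.N_le_Q E.r_Δ (z_N z r)
  have htQ : t r ∈ Qp r := A.N_le_Q E.r_Δ (A.t_N E.r_Δ)
  rw [← hkd] at hk hkC
  have hq := A.KL E.r_Δ hk E.l_L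
  obtain ⟨q, hqd⟩ : ∃ q, q = k * l * k⁻¹ * l⁻¹ := ⟨_, rfl⟩
  rw [← hqd] at hq
  -- the conjugates under `k`
  have hact : ∀ u ∈ U, k * u * k⁻¹ = u * pw (s * z) (f s u) := fun u hu => by
    rw [hkd]; exact A.t_act E.s_Δ hu
  have hkv := hact v hv
  have hkx : k * x * k⁻¹ = q * (x * pw (e * t r) (f s v₁)) * q⁻¹ := by
    have h1 : l * (v₁ * pw (s * z) (f s v₁)) * l⁻¹ = x * pw (e * t r) (f s v₁) := by
      rw [hxd, hed]
      have e1 : l * (v₁ * pw (s * z) (f s v₁)) * l⁻¹ = l * v₁ * l⁻¹ * (l * pw (s * z) (f s v₁) * l⁻¹) := by group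
      rw [e1, conj_pw]
      have e2 : l * (s * z) * l⁻¹ = l * s * l⁻¹ * (l * z * l⁻¹) := by group
      rw [e2, E.lz]
    rw [← h1, ← hact v₁ hv₁, hqd, hxd]
    group
  have h1 := cm_conj k v x
  have hsz : s * z ∈ Qp r := mul_mem E.sQ hzQ
  have het : e * t r ∈ Qp r := mul_mem heQ htQ
  rw [hkv, hkx, E.cm_conjQ (mul_mem hvQ (pw_mem hsz _)) (mul_mem hxQ (pw_mem het _)) hq,
    A.cm_mul_right E.r_Δ (mul_mem hvQ (pw_mem hsz _)) hxQ (pw_mem het _),
    A.cm_mul_left E.r_Δ hvQ (pw_mem hsz _) hxQ, A.cm_mul_left E.r_Δ hvQ (pw_mem hsz _) (pw_mem het _)] at h1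
  have p1 : cm v (pw (e * t r) (f s v₁)) = f s v₁ * cm v e := by
    rw [E.cm_pw, A.cm_mul_right E.r_Δ hvQ heQ htQ, E.cm_N hvQ (A.t_N E.r_Δ), add_zero]
  have p2 : ∀ y ∈ Qp r, cm (pw (s * z) (f s v)) y = f s v * cm s y := by
    intro y hy
    rw [A.cm_symm E.r_Δ, E.cm_pw, A.cm_mul_right E.r_Δ hy E.sQ hzQ, E.cm_N hy (z_N z r), add_zero,
      A.cm_symm E.r_Δ]
  have p3 : cm s (pw (e * t r) (f s v₁)) = f s v₁ * cm s e := by
    rw [E.cm_pw, A.cm_mul_right E.r_Δ E.sQ heQ htQ, E.cm_N E.sQ (A.t_N E.r_Δ), add_zero]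
  rw [p1, p2 _ hxQ, p2 _ (pw_mem het _), p3] at h1
  rw [← hed, ← hxd]
  linear_combination h1

/-- **`[v, e] = r^{f(s, v)}`** for `v ∈ U ∩ Q_r` -/
theorem cm_e {v : G} (hv : v ∈ U) (hvQ : v ∈ Qp r) : cm v (l * s * l⁻¹) = f s v := by
  obtain ⟨v₁, hv₁, hv₁Q, h1⟩ := E.exists_v
  have h0 : ∀ v ∈ U, v ∈ Qp r → f s v = 0 → cm v (l * s * l⁻¹) = 0 := by
    intro v hv hvQ h
    have := E.pairing hv hvQ hv₁ hv₁Q
    rw [h, h1] at this
    simpa using this
  rcases z2 (f s v) with h | h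
  · rw [h, h0 v hv hvQ h]
  · rw [h]
    by_contra hcon
    have hcon' : cm v (l * s * l⁻¹) = 0 := (z2 _).resolve_right hcon
    have hall : ∀ u ∈ cj 1 U ⊓ Qp r, (l * s * l⁻¹) * u = u * (l * s * l⁻¹) := by
      intro u hu
      rw [cj_one] at hu
      symm
      apply cm_zero
      rcases z2 (f s u) with h2 | h2
      · exact h0 u hu.1 hu.2 h2
      · have h4 := h0 (u * v) (mul_mem hu.1 hv) (mul_mem hu.2 hvQ) (by
          rw [E.A.f_add' E.sU hu.1 hv, h2, h]; decide)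
        rwa [E.A.cm_mul_left E.r_Δ hu.2 hvQ E.eQ, hcon', add_zero] at h4
    obtain ⟨u, hu, n, hn, e⟩ := E.O.Q_self 1 (one_mem _) _ E.eQ hall
    rw [cj_one] at hu
    apply E.e_not hu.1 hu.2
    rw [e, ← mul_assoc, E.A.U_sq u hu.1, one_mul]
    exact hn

theorem cm_se : cm s (l * s * l⁻¹) = 0 := by rw [E.cm_e E.sU E.sQ, E.A.f_self s E.sU]

theorem s_e : s * (l * s * l⁻¹) = l * s * l⁻¹ * s := cm_zero E.cm_se

theorem r_e : r * (l * s * l⁻¹) = l * s * l⁻¹ * r := E.A.r_comm E.r_Δ E.eQ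


/-! ### the conjugate of `e` under `U ∖ Q_r` -/

theorem exists_zt : ∃ h ∈ Lp U r, h * z * h⁻¹ = t r ∧ h * t r * h⁻¹ = z := by
  obtain ⟨u, h0, a, c⟩ := E.A.exists_UA E.h3 E.r_Δ
  exact ⟨wrd u a 5, E.A.wrd_L E.r_Δ c 5, E.A.wrd_z c 5, E.A.wrd_t c 5⟩

theorem exists_zty : ∃ h ∈ Lp U r, h * z * h⁻¹ = t r ∧ h * t r * h⁻¹ = r * z * t r := by
  obtain ⟨u, h0, a, c⟩ := E.A.exists_UA E.h3 E.r_Δ
  exact ⟨wrd u a 3, E.A.wrd_L E.r_Δ c 3, E.A.wrd_z c 3, E.A.wrd_t c 3⟩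

/-- the element `a ∈ L`, `z ↔ y`, `t` fixed -/
theorem exists_zy : ∃ h ∈ Lp U r, h * z * h⁻¹ = r * z * t r ∧ h * t r * h⁻¹ = t r ∧
    h * (r * z * t r) * h⁻¹ = z := by
  obtain ⟨u, h0, a, c⟩ := E.A.exists_UA E.h3 E.r_Δ
  exact ⟨wrd u a 2, E.A.wrd_L E.r_Δ c 2, E.A.wrd_z c 2, E.A.wrd_t c 2, E.A.ay c⟩

theorem cm_ls {v : G} (hv : v ∈ U) (hvQ : v ∈ Qp r) : cm (l * v * l⁻¹) s = f s v := by
  obtain ⟨h, hL, h1, h2⟩ := E.exists_zt
  have hhC := E.A.L_le E.r_Δ hL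
  -- `h v h⁻¹ ∼ l v l⁻¹`, `h e h⁻¹ ∼ s`
  obtain ⟨c, hc⟩ := E.rho_eq hL E.l_L (h1.trans E.lz.symm) hv hvQ
  have e1 : h * l * z * (h * l)⁻¹ = 1 * z * 1⁻¹ := by
    calc h * l * z * (h * l)⁻¹ = h * (l * z * l⁻¹) * h⁻¹ := by group
      _ = z := by rw [E.lz, h2]
      _ = 1 * z * 1⁻¹ := by group
  obtain ⟨c', hc'⟩ := E.rho_eq (mul_mem hL E.l_L) (one_mem _) e1 E.sU E.sQ
  have e2 : h * l * s * (h * l)⁻¹ = h * (l * s * l⁻¹) * h⁻¹ := by group
  have e3 : (1 : G) * s * 1⁻¹ = s := by group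
  rw [e2, e3] at hc'
  have h3 := cm_conj h v (l * s * l⁻¹)
  rw [hc, hc', E.cm_left_r (Q_normal E.lC hvQ) (mul_mem E.sQ (pw_mem E.rQ _)), E.cm_right_r (Q_normal E.lC hvQ) E.sQ,
    E.cm_e hv hvQ] at h3
  exact h3

/-- `w ∈ U ∖ Q_r` interchanges `t_r` and `r z t_r` -/
theorem w_t {w : G} (hw : w ∈ U) (hw1 : f r w = 1) : w * t r * w⁻¹ = r * z * t r := by
  rw [E.A.u_act E.r_Δ hw, hw1, pw_one]
  exact E.A.N_comm E.r_Δ (E.A.t_N E.r_Δ) (mul_mem (E.A.p_N E.r_Δ) (z_N z r))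

theorem w_y {w : G} (hw : w ∈ U) (hw1 : f r w = 1) : w * (r * z * t r) * w⁻¹ = t r := by
  rw [← E.w_t hw hw1]
  calc w * (w * t r * w⁻¹) * w⁻¹ = (w * w) * t r * (w * w)⁻¹ := by group
    _ = t r := by rw [E.A.U_sq w hw]; group

theorem cm_ld {v w : G} (hv : v ∈ U) (hvQ : v ∈ Qp r) (hw : w ∈ U) (hw1 : f r w = 1) :
    cm (l * v * l⁻¹) (w * (l * s * l⁻¹) * w⁻¹) = f s v := by
  obtain ⟨h, hL, h1, h2⟩ := E.exists_zty
  have hwL := E.A.U_le_L (r := r) hw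
  obtain ⟨c, hc⟩ := E.rho_eq hL E.l_L (h1.trans E.lz.symm) hv hvQ
  have e1 : h * l * z * (h * l)⁻¹ = w * l * z * (w * l)⁻¹ := by
    calc h * l * z * (h * l)⁻¹ = h * (l * z * l⁻¹) * h⁻¹ := by group
      _ = w * t r * w⁻¹ := by rw [E.lz, h2, E.w_t hw hw1]
      _ = w * (l * z * l⁻¹) * w⁻¹ := by rw [E.lz]
      _ = w * l * z * (w * l)⁻¹ := by group
  obtain ⟨c', hc'⟩ := E.rho_eq (mul_mem hL E.l_L) (mul_mem hwL E.l_L) e1 E.sU E.sQ
  have e2 : h * l * s * (h * l)⁻¹ = h * (l * s * l⁻¹) * h⁻¹ := by group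
  have e3 : w * l * s * (w * l)⁻¹ = w * (l * s * l⁻¹) * w⁻¹ := by group
  rw [e2, e3] at hc'
  have hdQ : w * (l * s * l⁻¹) * w⁻¹ ∈ Qp r := Q_normal (E.A.U_cen E.r_Δ hw) E.eQ
  have h3 := cm_conj h v (l * s * l⁻¹)
  rw [hc, hc', E.cm_left_r (Q_normal E.lC hvQ) (mul_mem hdQ (pw_mem E.rQ _)), E.cm_right_r (Q_normal E.lC hvQ) hdQ,
    E.cm_e hv hvQ] at h3
  exact h3

/-- **`e^w ∈ e s ⟨r⟩`** for `w ∈ U ∖ Q_r` -/
theorem conj_w {w : G} (hw : w ∈ U) (hw1 : f r w = 1) :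
    ∃ c : ZMod 2, w * (l * s * l⁻¹) * w⁻¹ = l * s * l⁻¹ * s * pw r c := by
  have A := E.A
  have hwC := A.U_cen E.r_Δ hw
  obtain ⟨e, hed⟩ : ∃ e, e = l * s * l⁻¹ := ⟨_, rfl⟩
  obtain ⟨d, hdd⟩ : ∃ d, d = w * e * w⁻¹ := ⟨_, rfl⟩
  have heQ : e ∈ Qp r := by rw [hed]; exact E.eQ
  have hdQ : d ∈ Qp r := by rw [hdd]; exact Q_normal hwC heQ
  have hww : w * w = 1 := A.U_sq w hw
  have hwi : w⁻¹ = w := A.inv_eq hw
  have hee : e * e = 1 := by rw [hed]; exact E.ee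
  have hdd' : d * d = 1 := by
    rw [hdd]
    calc w * e * w⁻¹ * (w * e * w⁻¹) = w * (e * e) * w⁻¹ := by group
      _ = 1 := by rw [hee]; group
  have hwd : w * d * w⁻¹ = e := by
    rw [hdd]
    calc w * (w * e * w⁻¹) * w⁻¹ = (w * w) * e * (w * w)⁻¹ := by group
      _ = e := by rw [hww]; group
  have hws : w * s * w⁻¹ = s := by rw [A.U_comm w hw s E.sU, mul_inv_cancel_right]
  -- the form
  have ced : cm e d = 0 := by
    have := E.cm_ld E.sU E.sQ hw hw1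
    rw [A.f_self s E.sU] at this
    rw [hdd, hed]; exact this
  have cse : cm s e = 0 := by rw [hed]; exact E.cm_se
  have csd : cm s d = 0 := by
    have h1 := cm_conj w s e
    rw [hws, ← hdd, cse] at h1
    exact h1
  have hse : s * e = e * s := cm_zero cse
  have hsd : s * d = d * s := cm_zero csd
  have hed' : e * d = d * e := cm_zero ced
  -- `g = d e s` is central in `Q_r`
  obtain ⟨g, hgd⟩ : ∃ g, g = d * e * s := ⟨_, rfl⟩
  have hgQ : g ∈ Qp r := by rw [hgd]; exact mul_mem (mul_mem hdQ heQ) E.sQ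
  have hl1 : l * z * l⁻¹ ≠ z := by rw [E.lz]; exact fun h2 => E.z_ne_t h2.symm
  have hcen : ∀ x ∈ Qp r, cm x g = 0 := by
    intro x hx
    obtain ⟨u, hu, v', hv', n, hn, rfl⟩ := E.O.Q_gen l E.lC hl1 x hx
    have hnQ : n ∈ Qp r := A.N_le_Q E.r_Δ hn
    have key : ∀ y ∈ Qp r, cm y g = cm y d + cm y e + cm y s := by
      intro y hy
      rw [hgd, A.cm_mul_right E.r_Δ hy (mul_mem hdQ heQ) E.sQ, A.cm_mul_right E.r_Δ hy hdQ heQ]
    rw [A.cm_mul_left E.r_Δ (mul_mem hu.2 hv'.2) hnQ hgQ, A.cm_mul_left E.r_Δ hu.2 hv'.2 hgQ]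
    have h1 : cm u g = 0 := by
      have c1 : cm u e = f s u := by rw [hed]; exact E.cm_e hu.1 hu.2
      have c2 : cm u d = f s u := by
        have h2 := cm_conj w u e
        have h3 : w * u * w⁻¹ = u := by rw [A.U_comm w hw u hu.1, mul_inv_cancel_right]
        rw [h3, ← hdd, c1] at h2
        exact h2
      rw [key u hu.2, c1, c2, cm_of (A.U_comm u hu.1 s E.sU), add_zero]
      exact TT _
    have h2 : cm v' g = 0 := by
      have hv₀ := mem_cj.1 hv'.1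
      have hv₀Q : l⁻¹ * v' * l ∈ Qp r := by
        have := Q_normal (inv_mem E.lC) hv'.2
        rwa [inv_inv] at this
      have ev : v' = l * (l⁻¹ * v' * l) * l⁻¹ := by group
      have c1 : cm v' d = f s (l⁻¹ * v' * l) := by
        conv_lhs => rw [ev, hdd, hed]
        exact E.cm_ld hv₀ hv₀Q hw hw1
      have c2 : cm v' s = f s (l⁻¹ * v' * l) := by
        conv_lhs => rw [ev]
        exact E.cm_ls hv₀ hv₀Q
      have c3 : cm v' e = 0 := cm_of (A.cj_comm l hv'.1 (by rw [hed]; exact conj_mem_cj E.sU))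
      rw [key v' hv'.2, c1, c2, c3, add_zero]
      exact TT _
    have h4 : cm n g = 0 := cm_of (Z_comm (A.N_Z r E.r_Δ hn) hgQ)
    rw [h1, h2, h4, add_zero, add_zero]
  have hgN : g ∈ Np z r := by
    rw [← E.O.Z_N]
    refine mem_inf.2 ⟨hgQ, ?_⟩
    rw [mem_centralizer_iff]
    exact fun x hx => cm_zero (hcen x hx)
  -- `w` centralises `g`
  have hwg : w * g * w⁻¹ = g := by
    calc w * g * w⁻¹ = (w * d * w⁻¹) * (w * e * w⁻¹) * (w * s * w⁻¹) := by rw [hgd]; group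
      _ = e * d * s := by rw [hwd, ← hdd, hws]
      _ = g := by rw [hed', hgd]
  -- `a`
  obtain ⟨a, haL, ha1, ha2, ha3⟩ := E.exists_zy
  have haC := A.L_le E.r_Δ haL
  have hag : ∃ c : ZMod 2, a * g * a⁻¹ = g * pw r c := by
    -- `a e a⁻¹ ∼ e`, `a s a⁻¹ ∼ d`, `a d a⁻¹ ∼ s`
    have hwL := A.U_le_L (r := r) hw
    have q1 : a * l * z * (a * l)⁻¹ = l * z * l⁻¹ := by
      calc a * l * z * (a * l)⁻¹ = a * (l * z * l⁻¹) * a⁻¹ := by group
        _ = l * z * l⁻¹ := by rw [E.lz, ha2]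
    have q2 : a * z * a⁻¹ = w * l * z * (w * l)⁻¹ := by
      rw [ha1, ← E.w_t hw hw1, ← E.lz]; group
    have q3 : a * (w * l) * z * (a * (w * l))⁻¹ = 1 * z * 1⁻¹ := by
      calc a * (w * l) * z * (a * (w * l))⁻¹ = a * (w * (l * z * l⁻¹) * w⁻¹) * a⁻¹ := by group
        _ = z := by rw [E.lz, E.w_t hw hw1, ha3]
        _ = 1 * z * 1⁻¹ := by group
    obtain ⟨c1, hc1⟩ := E.rho_eq (mul_mem haL E.l_L) E.l_L q1 E.sU E.sQ
    obtain ⟨c2, hc2⟩ := E.rho_eq haL (mul_mem hwL E.l_L) q2 E.sU E.sQ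
    obtain ⟨c3, hc3⟩ := E.rho_eq (mul_mem haL (mul_mem hwL E.l_L)) (one_mem _) q3 E.sU E.sQ
    have r1 : a * e * a⁻¹ = e * pw r c1 := by
      rw [hed, ← hc1]; group
    have r2 : a * s * a⁻¹ = d * pw r c2 := by
      rw [hc2, hdd, hed]; group
    have r3 : a * d * a⁻¹ = s * pw r c3 := by
      have e3 : (1 : G) * s * 1⁻¹ = s := by group
      rw [e3] at hc3
      rw [← hc3, hdd, hed]; group
    have hrr := E.rr
    refine ⟨c3 + c1 + c2, ?_⟩
    have k1 := A.pw_r_comm E.r_Δ heQ c3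
    have k2 := A.pw_r_comm E.r_Δ hdQ (c3 + c1)
    calc a * g * a⁻¹ = (a * d * a⁻¹) * (a * e * a⁻¹) * (a * s * a⁻¹) := by rw [hgd]; group
      _ = s * pw r c3 * (e * pw r c1) * (d * pw r c2) := by rw [r1, r2, r3]
      _ = s * (pw r c3 * e) * pw r c1 * d * pw r c2 := by group
      _ = s * (e * pw r c3) * pw r c1 * d * pw r c2 := by rw [k1]
      _ = s * e * (pw r c3 * pw r c1) * d * pw r c2 := by group
      _ = s * e * (pw r (c3 + c1) * d) * pw r c2 := by rw [← pw_add hrr]; group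
      _ = s * e * (d * pw r (c3 + c1)) * pw r c2 := by rw [k2]
      _ = s * e * d * (pw r (c3 + c1) * pw r c2) := by group
      _ = s * e * d * pw r (c3 + c1 + c2) := by rw [← pw_add hrr]
      _ = g * pw r (c3 + c1 + c2) := by
          have : s * e * d = g := by
            rw [hgd, hse, mul_assoc, hsd, ← mul_assoc, hed']
          rw [this]
  -- `g ∈ ⟨r⟩`
  have hg : g = 1 ∨ g = r := by
    have hzt := A.N_comm E.r_Δ (z_N z r) (A.t_N E.r_Δ)
    have hrt := A.N_comm E.r_Δ (A.p_N E.r_Δ) (A.t_N E.r_Δ)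
    have hrz := A.N_comm E.r_Δ (A.p_N E.r_Δ) (z_N z r)
    have hwr : w * r * w⁻¹ = r := by rw [A.U_comm w hw r E.rU, mul_inv_cancel_right]
    have hwz : w * z * w⁻¹ = z := by rw [A.U_comm w hw z A.z_U, mul_inv_cancel_right]
    have hrz1 : r * z ≠ 1 := A.pz_ne_one E.r_Δ
    have hwt := E.w_t hw hw1
    -- no `t_r`
    have hnt : ∀ x : G, w * x * w⁻¹ = x → g ≠ x * t r := by
      intro x hx h
      have h1 := hwg
      rw [h] at h1
      have h2 : w * (x * t r) * w⁻¹ = (w * x * w⁻¹) * (w * t r * w⁻¹) := by group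
      rw [h2, hx, hwt] at h1
      have h4 := mul_left_cancel h1
      have h5 : r * z * t r = 1 * t r := by rw [one_mul]; exact h4
      exact hrz1 (mul_right_cancel h5)
    -- no `z`
    have hnz : ∀ x : G, a * x * a⁻¹ = x → (x = 1 ∨ x = r) → g ≠ x * z := by
      intro x hx hx1 h
      obtain ⟨c, hc⟩ := hag
      rw [h] at hc
      have h2 : a * (x * z) * a⁻¹ = (a * x * a⁻¹) * (a * z * a⁻¹) := by group
      rw [h2, hx, ha1] at hc
      have h4 : r * z * t r = z * pw r c := mul_left_cancel (by rw [hc, mul_assoc])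
      rcases z2 c with h5 | h5
      · rw [h5, pw_zero, mul_one] at h4
        exact A.z_ne_y E.r_Δ h4.symm
      · rw [h5, pw_one] at h4
        have h6 : t r = 1 := by
          have : r * z * t r = r * z * 1 := by rw [h4, mul_one, hrz]
          exact mul_left_cancel this
        apply A.t_mv E.r_Δ
        intro u _
        rw [h6, one_mul, mul_one]
    have har : a * r * a⁻¹ = r := by rw [mem_Cp.1 haC, mul_inv_cancel_right]
    rcases E.O.N_mem g hgN with (h | h | h | h) | (h | h | h | h)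
    · exact Or.inl h
    · exact Or.inr h
    · exact absurd (by rw [one_mul]; exact h) (hnz 1 (by group) (Or.inl rfl))
    · exact absurd h (hnz r har (Or.inr rfl))
    · exact absurd (by rw [one_mul]; exact h) (hnt 1 (by group))
    · exact absurd h (hnt r hwr)
    · exact absurd h (hnt z hwz)
    · refine absurd h (hnt (r * z) ?_)
      calc w * (r * z) * w⁻¹ = (w * r * w⁻¹) * (w * z * w⁻¹) := by group
        _ = r * z := by rw [hwr, hwz]
  -- the conclusion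
  have fin : ∀ c : ZMod 2, g = pw r c → d = e * s * pw r c := by
    intro c hc
    have h1 : d * (e * s) = pw r c := by rw [← hc, hgd]; group
    have h2 : e * s * (e * s) = 1 := by
      calc e * s * (e * s) = e * (s * e) * s := by group
        _ = e * (e * s) * s := by rw [hse]
        _ = (e * e) * (s * s) := by group
        _ = 1 := by rw [hee, E.ss, one_mul]
    have h3 : pw r c * (e * s) = e * s * pw r c := A.pw_r_comm E.r_Δ (mul_mem heQ E.sQ) c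
    calc d = d * (e * s) * (e * s) := by rw [mul_assoc, h2, mul_one]
      _ = e * s * pw r c := by rw [h1, h3]
  rw [← hed, ← hdd]
  rcases hg with h | h
  · exact ⟨0, fin 0 (by rw [h, pw_zero])⟩
  · exact ⟨1, fin 1 (by rw [h, pw_one])⟩
where TT (a : ZMod 2) : a + a = 0 := by revert a; decide

/-! ### `e ∈ Q_s` -/

theorem rs_Δ : r * s ∈ Δ := E.A.mul0 r E.r_Δ s E.s_Δ (Ne.symm E.ne) E.rs

theorem rs_comm : r * s = s * r := E.A.U_comm r E.rU s E.sU

theorem r_rs : f r (r * s) = 0 := by rw [E.A.f_add' E.rU E.rU E.sU, E.A.f_self r E.rU, E.rs, add_zero]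

theorem s_rs : f s (r * s) = 0 := by rw [E.A.f_add' E.sU E.rU E.sU, E.sr, E.A.f_self s E.sU, add_zero]

/-- the action of `D = t_r t_s t_{rs}` on `U` -/
theorem act_D {u : G} (hu : u ∈ U) : t r * t s * t (r * s) * u * (t r * t s * t (r * s))⁻¹ =
    u * (pw r (f s u) * pw s (f r u)) := by
  have A := E.A
  have hrs := E.rs_Δ
  have hzz := A.zz
  have hrr := E.rr
  have hss := E.ss
  have hrs' := E.rs_comm
  have hrz := A.U_comm r E.rU z A.z_U
  have hsz := A.U_comm s E.sU z A.z_U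
  have hrszU : r * s * z ∈ U := A.pz_U hrs
  have e1 : t (r * s) * u * (t (r * s))⁻¹ = u * pw (r * s * z) (f r u + f s u) := by
    rw [A.t_act hrs hu, A.f_add r E.rU s E.sU u hu]
  have hu1 : u * pw (r * s * z) (f r u + f s u) ∈ U := mul_mem hu (pw_mem hrszU _)
  have hx0 : ∀ x ∈ U, f x (r * s * z) = f x r + f x s := fun x hx => by
    rw [A.f_add' hx (mul_mem E.rU E.sU) A.z_U, A.f_z' hx, add_zero, A.f_add' hx E.rU E.sU]
  have hpw : ∀ x ∈ U, f x (r * s * z) = 0 → ∀ c : ZMod 2, f x (u * pw (r * s * z) c) = f x u := by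
    intro x hx h c
    rw [A.f_add' hx hu (pw_mem hrszU c)]
    rcases z2 c with h1 | h1
    · rw [h1, pw_zero, A.f_one hx, add_zero]
    · rw [h1, pw_one, h, add_zero]
  have e2 : t s * (u * pw (r * s * z) (f r u + f s u)) * (t s)⁻¹ =
      u * pw (r * s * z) (f r u + f s u) * pw (s * z) (f s u) := by
    rw [A.t_act E.s_Δ hu1, hpw s E.sU (by rw [hx0 s E.sU, E.sr, A.f_self s E.sU, add_zero])]
  have hu2 : u * pw (r * s * z) (f r u + f s u) * pw (s * z) (f s u) ∈ U := mul_mem hu1 (pw_mem (A.pz_U E.s_Δ) _)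
  have e3 : f r (u * pw (r * s * z) (f r u + f s u) * pw (s * z) (f s u)) = f r u := by
    rw [A.f_add' E.rU hu1 (pw_mem (A.pz_U E.s_Δ) _),
      hpw r E.rU (by rw [hx0 r E.rU, E.rs, A.f_self r E.rU, add_zero])]
    have : f r (pw (s * z) (f s u)) = 0 := by
      rcases z2 (f s u) with h1 | h1
      · rw [h1, pw_zero, A.f_one E.rU]
      · rw [h1, pw_one, A.f_add' E.rU E.sU A.z_U, E.rs, A.f_z' E.rU, add_zero]
    rw [this, add_zero]
  have e4 : t r * (u * pw (r * s * z) (f r u + f s u) * pw (s * z) (f s u)) * (t r)⁻¹ =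
      u * pw (r * s * z) (f r u + f s u) * pw (s * z) (f s u) * pw (r * z) (f r u) := by
    rw [A.t_act E.r_Δ hu2, e3]
  calc t r * t s * t (r * s) * u * (t r * t s * t (r * s))⁻¹
      = t r * (t s * (t (r * s) * u * (t (r * s))⁻¹) * (t s)⁻¹) * (t r)⁻¹ := by group
    _ = u * pw (r * s * z) (f r u + f s u) * pw (s * z) (f s u) * pw (r * z) (f r u) := by rw [e1, e2, e4]
    _ = u * (pw r (f s u) * pw s (f r u)) := by
      rcases z2 (f r u) with h | h <;> rcases z2 (f s u) with h' | h' <;> rw [h, h']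
      · rw [add_zero]; simp only [pw_zero, mul_one]
      · rw [zero_add]; simp only [pw_zero, pw_one, mul_one]
        have : r * s * z * (s * z) = r := by
          calc r * s * z * (s * z) = r * (s * z) * (s * z) := by group
            _ = r * s * (z * s) * z := by group
            _ = r * s * (s * z) * z := by rw [← hsz]
            _ = r * (s * s) * (z * z) := by group
            _ = r := by rw [hss, hzz, mul_one, mul_one]
        rw [mul_assoc u, this]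
      · rw [add_zero]; simp only [pw_zero, pw_one, mul_one, one_mul]
        have : r * s * z * (r * z) = s := by
          calc r * s * z * (r * z) = r * s * (z * r) * z := by group
            _ = r * s * (r * z) * z := by rw [← hrz]
            _ = s * r * (r * z) * z := by rw [hrs']
            _ = s * (r * r) * (z * z) := by group
            _ = s := by rw [hrr, hzz, mul_one, mul_one]
        rw [mul_assoc u, this]
      · have e0 : (1 : ZMod 2) + 1 = 0 := by decide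
        rw [e0]; simp only [pw_zero, pw_one, mul_one]
        have : s * z * (r * z) = r * s := by
          calc s * z * (r * z) = s * (z * r) * z := by group
            _ = s * (r * z) * z := by rw [← hrz]
            _ = s * r * (z * z) := by group
            _ = r * s := by rw [hzz, mul_one, hrs']
        rw [mul_assoc u, this]

theorem t_M' {p : G} (hp : p ∈ Δ) : t p ∈ M := E.A.t_M hp

theorem D_M : t r * t s * t (r * s) ∈ M :=
  mul_mem (mul_mem (E.A.t_M E.r_Δ) (E.A.t_M E.s_Δ)) (E.A.t_M E.rs_Δ)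

/-- the action of `e` on `U` -/
theorem act_e {u : G} (hu : u ∈ U) : l * s * l⁻¹ * u * (l * s * l⁻¹)⁻¹ = u * (pw r (f s u) * pw s (f r u)) := by
  have A := E.A
  obtain ⟨e, hed⟩ : ∃ e, e = l * s * l⁻¹ := ⟨_, rfl⟩
  have heQ : e ∈ Qp r := by rw [hed]; exact E.eQ
  have hee : e⁻¹ = e := by rw [hed]; exact E.e_inv
  have heM : e ∈ M := A.Q_M E.r_Δ heQ
  rw [← hed]
  -- `f r u = 0`
  have h0 : ∀ u ∈ U, f r u = 0 → e * u * e⁻¹ = u * (pw r (f s u) * pw s (f r u)) := by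
    intro u hu h
    have huQ : u ∈ Qp r := (A.Q_f r E.r_Δ u hu).2 h
    have h1 : cm e u = f s u := by rw [A.cm_symm E.r_Δ, hed]; exact E.cm_e hu huQ
    rw [h, pw_zero, mul_one, ← h1]
    exact E.conjQ heQ huQ
  -- `w ∈ Δ`, `f r w = 1`
  obtain ⟨w, hw, hw1⟩ := A.exists_q1 E.r_Δ
  have hwU := A.Δ_U w hw
  have hww : w⁻¹ = w := A.inv_eq hwU
  obtain ⟨c, hc⟩ := E.conj_w hwU hw1
  rw [← hed] at hc
  have hse : s * e = e * s := by rw [hed]; exact E.s_e
  -- `e w e⁻¹ = w s r^c`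
  have h1 : e * w * e⁻¹ = w * (pw r c * pw s 1) := by
    have h2 : w * e = e * s * pw r c * w := by rw [← hc]; group
    have h3 : pw r c * w = w * pw r c := A.U_comm _ (pw_mem E.rU c) w hwU
    have h4 : s * w = w * s := A.U_comm s E.sU w hwU
    have h5 : s * pw r c = pw r c * s := A.U_comm s E.sU _ (pw_mem E.rU c)
    have hee' : e * e = 1 := by rw [hed]; exact E.ee
    rw [pw_one]
    calc e * w * e⁻¹ = e * (w * e) := by rw [hee, mul_assoc]
      _ = e * (e * s * pw r c * w) := by rw [h2]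
      _ = (e * e) * s * (pw r c * w) := by group
      _ = s * (w * pw r c) := by rw [hee', one_mul, h3]
      _ = (s * w) * pw r c := by group
      _ = w * (s * pw r c) := by rw [h4, mul_assoc]
      _ = w * (pw r c * s) := by rw [h5]
  have hcs : c = f s w := by
    have h2 : e * w * e⁻¹ ∈ Δ := A.Δ_M e heM w hw
    have h3 := A.Δ_M _ E.D_M w hw
    rw [E.act_D hwU, hw1] at h3
    rw [h1] at h2
    by_contra hne
    -- `x = w r^b s`, `x r` both in `Δ`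
    have hcc : c = f s w + 1 := by
      have : ∀ a b : ZMod 2, a ≠ b → a = b + 1 := by decide
      exact this _ _ hne
    obtain ⟨x, hxd⟩ : ∃ x, x = w * (pw r (f s w) * pw s 1) := ⟨_, rfl⟩
    rw [← hxd] at h3
    have hxU := A.Δ_U x h3
    have h4 : w * (pw r c * pw s 1) = x * r := by
      rw [hxd, hcc, pw_add E.rr, pw_one r]
      have h5 : r * pw s 1 = pw s 1 * r := A.U_comm r E.rU _ (pw_mem E.sU 1)
      calc w * (pw r (f s w) * r * pw s 1) = w * (pw r (f s w) * (r * pw s 1)) := by group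
        _ = w * (pw r (f s w) * (pw s 1 * r)) := by rw [h5]
        _ = w * (pw r (f s w) * pw s 1) * r := by group
    rw [h4] at h2
    have h5 : f r x = 1 := by
      rw [hxd, A.f_add' E.rU hwU (mul_mem (pw_mem E.rU _) (pw_mem E.sU _)),
        A.f_add' E.rU (pw_mem E.rU _) (pw_mem E.sU _), hw1]
      have h6 : f r (pw r (f s w)) = 0 := by
        rcases z2 (f s w) with h7 | h7
        · rw [h7, pw_zero, A.f_one E.rU]
        · rw [h7, pw_one, A.f_self r E.rU]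
      rw [h6, pw_one, E.rs, add_zero, add_zero]
    have h6 := A.mul1 r E.r_Δ x h3 h5
    have h7 : r * x = x * r := A.U_comm r E.rU x hxU
    rw [h7] at h6
    exact A.inj _ h2 h6
  -- all `u`
  rcases z2 (f r u) with h | h
  · exact h0 u hu h
  · have huw : f r (u * w) = 0 := by rw [A.f_add' E.rU hu hwU, h, hw1]; decide
    have h2 := h0 _ (mul_mem hu hwU) huw
    have hwe : e * w * e⁻¹ = w * (pw r (f s w) * pw s 1) := by rw [← hcs]; exact h1
    have h3 : e * u * e⁻¹ = (e * (u * w) * e⁻¹) * (e * w * e⁻¹) := by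
      calc e * u * e⁻¹ = e * (u * w) * (w⁻¹ * e⁻¹) := by group
        _ = e * (u * w) * (w * e⁻¹) := by rw [hww]
        _ = _ := by group
    rw [h3, h2, hwe, huw, h, pw_zero, mul_one, A.f_add' E.sU hu hwU, pw_add E.rr]
    have k1 : pw r (f s u) * pw r (f s w) ∈ U := mul_mem (pw_mem E.rU _) (pw_mem E.rU _)
    have k2 := A.U_comm w hwU _ k1
    have k3 := pw_sq E.rr (f s w)
    have k4 := A.U_sq w hwU
    calc u * w * (pw r (f s u) * pw r (f s w)) * (w * (pw r (f s w) * pw s 1))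
        = u * (w * (pw r (f s u) * pw r (f s w))) * w * (pw r (f s w) * pw s 1) := by group
      _ = u * (pw r (f s u) * pw r (f s w) * w) * w * (pw r (f s w) * pw s 1) := by rw [k2]
      _ = u * pw r (f s u) * pw r (f s w) * (w * w) * pw r (f s w) * pw s 1 := by group
      _ = u * pw r (f s u) * (pw r (f s w) * pw r (f s w)) * pw s 1 := by rw [k4]; group
      _ = u * (pw r (f s u) * pw s 1) := by rw [k3]; group

/-- **`e ∈ Q_s`** -/
theorem e_Qs : l * s * l⁻¹ ∈ Qp s := by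
  have A := E.A
  obtain ⟨e, hed⟩ : ∃ e, e = l * s * l⁻¹ := ⟨_, rfl⟩
  obtain ⟨D, hD⟩ : ∃ D, D = t r * t s * t (r * s) := ⟨_, rfl⟩
  have heQ : e ∈ Qp r := by rw [hed]; exact E.eQ
  have heM : e ∈ M := A.Q_M E.r_Δ heQ
  have hee : e * e = 1 := by rw [hed]; exact E.ee
  have hDM : D ∈ M := by rw [hD]; exact E.D_M
  have hactD : ∀ u ∈ U, D * u * D⁻¹ = u * (pw r (f s u) * pw s (f r u)) := fun u hu => by rw [hD]; exact E.act_D hu
  have hacte : ∀ u ∈ U, e * u * e⁻¹ = u * (pw r (f s u) * pw s (f r u)) := fun u hu => by rw [hed]; exact E.act_e hu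
  -- `D⁻¹ e ∈ U`
  have h1 : D⁻¹ * e ∈ U := by
    refine E.O.C_U _ (mul_mem (inv_mem hDM) heM) fun u hu => ?_
    have h2 : e * u * e⁻¹ = D * u * D⁻¹ := by rw [hactD u hu, hacte u hu]
    calc D⁻¹ * e * u = D⁻¹ * (e * u * e⁻¹) * e := by group
      _ = D⁻¹ * (D * u * D⁻¹) * e := by rw [h2]
      _ = u * (D⁻¹ * e) := by group
  obtain ⟨u, hu⟩ : ∃ u, u = D⁻¹ * e := ⟨_, rfl⟩
  rw [← hu] at h1
  have heD : e = D * u := by rw [hu]; group
  -- `D² = 1`
  have hrs := E.rs_Δ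
  have c1 : t r * t s = t s * t r :=
    (mem_centralizer_iff.1 (A.t_K E.h3 E.r_Δ E.s_Δ E.rs)) _ (A.t_N E.r_Δ)
  have c2 : t r * t (r * s) = t (r * s) * t r :=
    (mem_centralizer_iff.1 (A.t_K E.h3 E.r_Δ hrs E.r_rs)) _ (A.t_N E.r_Δ)
  have c3 : t s * t (r * s) = t (r * s) * t s :=
    (mem_centralizer_iff.1 (A.t_K E.h3 E.s_Δ hrs E.s_rs)) _ (A.t_N E.s_Δ)
  have s1 := A.N_sq r E.r_Δ _ (A.t_N E.r_Δ)
  have s2 := A.N_sq s E.s_Δ _ (A.t_N E.s_Δ)
  have s3 := A.N_sq _ hrs _ (A.t_N hrs)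
  have hDD : D * D = 1 := by
    have C1 : Commute (t r) (t s) := c1
    have C2 : Commute (t r) (t (r * s)) := c2
    have C3 : Commute (t s) (t (r * s)) := c3
    have K1 : Commute (t (r * s)) (t r * t s) := (C2.symm).mul_right C3.symm
    calc D * D = t r * t s * (t (r * s) * (t r * t s)) * t (r * s) := by rw [hD]; group
      _ = t r * t s * (t r * t s * t (r * s)) * t (r * s) := by rw [K1.eq]
      _ = t r * (t s * t r) * t s * (t (r * s) * t (r * s)) := by group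
      _ = t r * (t r * t s) * t s * (t (r * s) * t (r * s)) := by rw [← c1]
      _ = (t r * t r) * (t s * t s) * (t (r * s) * t (r * s)) := by group
      _ = 1 := by rw [s1, s2, s3, one_mul, one_mul]
  -- `f s u = 0`
  have hfu : f s u = 0 := by
    have h2 : u * (pw r (f s u) * pw s (f r u)) * u = 1 := by
      have hDi : D⁻¹ = D := inv_eq_of_mul_eq_one_left hDD
      rw [← hactD u h1, hDi]
      have : D * u * (D * u) = 1 := by rw [← heD]; exact hee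
      calc D * u * D * u = D * u * (D * u) := by group
        _ = 1 := this
    have hx : pw r (f s u) * pw s (f r u) ∈ U := mul_mem (pw_mem E.rU _) (pw_mem E.sU _)
    have h4 : pw r (f s u) * pw s (f r u) = 1 := by
      have h5 := A.U_comm u h1 _ hx
      rw [h5, mul_assoc, A.U_sq u h1, mul_one] at h2
      exact h2
    rcases z2 (f s u) with h5 | h5
    · exact h5
    · exfalso
      rw [h5, pw_one] at h4
      rcases z2 (f r u) with h6 | h6
      · rw [h6, pw_zero, mul_one] at h4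
        exact E.r_ne h4
      · rw [h6, pw_one] at h4
        apply E.ne
        rw [← A.inv_eq E.sU]
        exact (mul_eq_one_iff_eq_inv.1 h4).symm
  have huQ : u ∈ Qp s := (A.Q_f s E.s_Δ u h1).2 hfu
  -- `t_r t_{rs} ∈ Q_s`
  have h2 : t r * t (r * s) ∈ Qp s := by
    obtain ⟨g, hg, hgr⟩ := A.Q_mv s E.s_Δ r E.r_Δ E.ne E.sr
    have hgz : g * z * g⁻¹ = z := A.conj_z (A.Q_M E.s_Δ hg)
    obtain ⟨h, hh, hth⟩ := A.t_ZZ r E.r_Δ
    have htrs : t r ∈ Cp s := mem_Cp.2 (A.t_0 r E.r_Δ s E.sU E.rs)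
    have hgh : g * h * g⁻¹ ∈ Cp (r * s) := by
      rw [← hgr, ← cj_Cp]
      exact conj_mem_cj hh
    have hgt : g * t r * g⁻¹ = (g * h * g⁻¹) * z * (g * h * g⁻¹)⁻¹ := by
      calc g * t r * g⁻¹ = g * (h * z * h⁻¹) * g⁻¹ := by rw [← hth]
        _ = (g * h * g⁻¹) * (g * z * g⁻¹) * (g * h * g⁻¹)⁻¹ := by group
        _ = _ := by rw [hgz]
    have hcomm : t r * (g * t r * g⁻¹)⁻¹ ∈ Qp s := by
      have h4 : t r * g * (t r)⁻¹ ∈ Qp s := Q_normal htrs hg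
      have e4 : t r * (g * t r * g⁻¹)⁻¹ = t r * g * (t r)⁻¹ * g⁻¹ := by group
      rw [e4]
      exact mul_mem h4 (inv_mem hg)
    have hinv : (t (r * s))⁻¹ = t (r * s) := A.t_inv hrs
    rcases E.h3 _ hrs _ hgh with h4 | h4 | h4
    · exfalso
      rw [h4] at hgt
      have h5 : t r = z := by
        have h6 : g * t r * g⁻¹ = g * z * g⁻¹ := by rw [hgt, hgz]
        exact mul_left_cancel (mul_right_cancel h6)
      exact E.z_ne_t h5.symm
    · rw [hgt, h4, hinv] at hcomm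
      exact hcomm
    · rw [hgt, h4, mul_inv_rev, hinv, ← mul_assoc] at hcomm
      have h5 : r * s * z ∈ Qp s := by
        rw [A.Q_f s E.s_Δ _ (A.pz_U hrs), A.f_add' E.sU (mul_mem E.rU E.sU) A.z_U, E.s_rs, A.f_z' E.sU, add_zero]
      have h6 := mul_mem hcomm h5
      rwa [inv_mul_cancel_right] at h6
  rw [← hed, heD, hD]
  refine mul_mem ?_ huQ
  have e5 : t r * t s * t (r * s) = t s * (t r * t (r * s)) := by
    rw [c1, mul_assoc]
  rw [e5]
  exact mul_mem (A.N_le_Q E.s_Δ (A.t_N E.s_Δ)) h2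

end ED

end Cfsg.Agent.Omega.HTwo.Seven

end

section


/-!
# II.0h1, `q = 2`, (7) of #15507: the residue `(0, 1)`

`R* = ⟨r, s, e⟩ = 2³`, `V = ⟨r, s⟩`, `H = ⟨L, Q_s, S⟩ ≤ N(R*)`.

* `ED.Rs`, `ED.Vs` : the subgroups `R*`, `V`; `ED.card_Rs`;
* `structure ES` : the situation with the Sylow group `S`;
* `ES.stab` : the stabiliser of `r`, `V` in `H` is `S`; `ES.stab_r`, `ES.stab_V`;
* `ES.rk` : the residue `(L S, Q_s S)` is the projective plane of `R*`.
-/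

set_option autoImplicit false
set_option linter.unusedSectionVars false

namespace Cfsg.Agent.Omega.HTwo.Seven

open Subgroup Cfsg.Agent.Omega.BTwo Cfsg.Agent.Omega.HTwo.Eight

variable {G : Type*} [Group G] {z : G} {M U : Subgroup G} {Δ : Set G} {f : G → G → ZMod 2} {t : G → G}

theorem norm_of {A B : Subgroup G} (h : ∀ a ∈ A, ∀ b ∈ B, a * b * a⁻¹ ∈ B) : A ≤ normalizer (B : Set G) := by
  intro a ha
  rw [mem_normalizer_iff]
  refine fun b => ⟨h a ha b, fun hb => ?_⟩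
  have h1 := h a⁻¹ (A.inv_mem ha) _ hb
  have e : a⁻¹ * (a * b * a⁻¹) * a⁻¹⁻¹ = b := by group
  rwa [e] at h1

theorem conj_norm {B : Subgroup G} {g x : G} (hg : g ∈ normalizer (B : Set G)) (hx : x ∈ B) : g * x * g⁻¹ ∈ B :=
  (mem_normalizer_iff.1 hg x).1 hx

namespace ED

variable {r s l : G} (E : ED z M U Δ f t r s l)

/-- the elements of `R*` -/
def el (r s l : G) (a b c : ZMod 2) : G := pw r a * pw s b * pw (l * s * l⁻¹) c

include E

theorem el_mul (a b c a' b' c' : ZMod 2) : el r s l a b c * el r s l a' b' c' = el r s l (a + a') (b + b') (c + c') := by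
  unfold el
  have hrs : ∀ a b, pw r a * pw s b = pw s b * pw r a := fun a b => E.A.U_comm _ (pw_mem E.rU a) _ (pw_mem E.sU b)
  have hc : ∀ x, (∀ c, pw (l * s * l⁻¹) c * x = x * pw (l * s * l⁻¹) c) ↔ l * s * l⁻¹ * x = x * (l * s * l⁻¹) := by
    intro x
    constructor
    · intro h
      have := h 1
      rwa [pw_one] at this
    · intro h c
      rcases z2 c with h1 | h1
      · rw [h1, pw_zero, one_mul, mul_one]
      · rw [h1, pw_one, h]
  have her : ∀ c a, pw (l * s * l⁻¹) c * pw r a = pw r a * pw (l * s * l⁻¹) c := by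
    intro c a
    refine (hc _).2 ?_ c
    rcases z2 a with h1 | h1
    · rw [h1, pw_zero, one_mul, mul_one]
    · rw [h1, pw_one, E.r_e]
  have hes : ∀ c a, pw (l * s * l⁻¹) c * pw s a = pw s a * pw (l * s * l⁻¹) c := by
    intro c a
    refine (hc _).2 ?_ c
    rcases z2 a with h1 | h1
    · rw [h1, pw_zero, one_mul, mul_one]
    · rw [h1, pw_one, E.s_e]
  rw [pw_add E.rr, pw_add E.ss, pw_add E.ee]
  calc pw r a * pw s b * pw (l * s * l⁻¹) c * (pw r a' * pw s b' * pw (l * s * l⁻¹) c')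
      = pw r a * pw s b * (pw (l * s * l⁻¹) c * pw r a') * pw s b' * pw (l * s * l⁻¹) c' := by group
    _ = pw r a * pw s b * (pw r a' * pw (l * s * l⁻¹) c) * pw s b' * pw (l * s * l⁻¹) c' := by rw [her]
    _ = pw r a * (pw s b * pw r a') * (pw (l * s * l⁻¹) c * pw s b') * pw (l * s * l⁻¹) c' := by group
    _ = pw r a * (pw r a' * pw s b) * (pw s b' * pw (l * s * l⁻¹) c) * pw (l * s * l⁻¹) c' := by rw [← hrs, hes]
    _ = _ := by group

theorem el_zero : el r s l 0 0 0 = 1 := by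
  have _ := E
  unfold el
  rw [pw_zero, pw_zero, pw_zero, one_mul, one_mul]

theorem el_sq (a b c : ZMod 2) : el r s l a b c * el r s l a b c = 1 := by
  have h : ∀ x : ZMod 2, x + x = 0 := by decide
  rw [E.el_mul, h, h, h, E.el_zero]

theorem e_notU : l * s * l⁻¹ ∉ U := fun h => by
  apply E.e_not h E.eQ
  rw [E.ee]
  exact one_mem _

theorem el_eq_one {a b c : ZMod 2} (h : el r s l a b c = 1) : a = 0 ∧ b = 0 ∧ c = 0 := by
  unfold el at h
  have hc : c = 0 := by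
    rcases z2 c with h1 | h1
    · exact h1
    · exfalso
      rw [h1, pw_one] at h
      apply E.e_notU
      have e : l * s * l⁻¹ = (pw r a * pw s b)⁻¹ := eq_inv_of_mul_eq_one_right h
      rw [e]
      exact inv_mem (mul_mem (pw_mem E.rU a) (pw_mem E.sU b))
  rw [hc, pw_zero, mul_one] at h
  rcases z2 a with h1 | h1 <;> rcases z2 b with h2 | h2 <;> rw [h1, h2] at h ⊢
  · exact ⟨rfl, rfl, hc⟩
  · rw [pw_zero, pw_one, one_mul] at h
    exact absurd h E.s_ne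
  · rw [pw_zero, pw_one, mul_one] at h
    exact absurd h E.r_ne
  · rw [pw_one, pw_one] at h
    exfalso
    apply E.ne
    rw [← E.A.inv_eq E.sU]
    exact (mul_eq_one_iff_eq_inv.1 h).symm

theorem el_inj {a b c a' b' c' : ZMod 2} (h : el r s l a b c = el r s l a' b' c') : a = a' ∧ b = b' ∧ c = c' := by
  have h1 : el r s l (a + a') (b + b') (c + c') = 1 := by
    rw [← E.el_mul, h, E.el_sq]
  obtain ⟨h2, h3, h4⟩ := E.el_eq_one h1
  have key : ∀ x y : ZMod 2, x + y = 0 → x = y := by decide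
  exact ⟨key _ _ h2, key _ _ h3, key _ _ h4⟩

/-- `R* = ⟨r, s, e⟩` -/
def Rs : Subgroup G where
  carrier := {x | ∃ a b c, x = el r s l a b c}
  one_mem' := ⟨0, 0, 0, E.el_zero.symm⟩
  mul_mem' := by
    rintro _ _ ⟨a, b, c, rfl⟩ ⟨a', b', c', rfl⟩
    exact ⟨_, _, _, E.el_mul a b c a' b' c'⟩
  inv_mem' := by
    rintro _ ⟨a, b, c, rfl⟩
    exact ⟨a, b, c, inv_eq_of_mul_eq_one_left (E.el_sq a b c)⟩

theorem mem_Rs {x : G} : x ∈ E.Rs ↔ ∃ a b c, x = el r s l a b c := Iff.rfl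

theorem r_Rs : r ∈ E.Rs := ⟨1, 0, 0, by unfold el; rw [pw_one, pw_zero, pw_zero, mul_one, mul_one]⟩

theorem s_Rs : s ∈ E.Rs := ⟨0, 1, 0, by unfold el; rw [pw_one, pw_zero, pw_zero, mul_one, one_mul]⟩

theorem e_Rs : l * s * l⁻¹ ∈ E.Rs := ⟨0, 0, 1, by unfold el; rw [pw_one, pw_zero, pw_zero, one_mul, one_mul]⟩

theorem Rs_comm {x y : G} (hx : x ∈ E.Rs) (hy : y ∈ E.Rs) : x * y = y * x := by
  obtain ⟨a, b, c, rfl⟩ := hx
  obtain ⟨a', b', c', rfl⟩ := hy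
  rw [E.el_mul, E.el_mul, add_comm a, add_comm b, add_comm c]

theorem Rs_sq {x : G} (hx : x ∈ E.Rs) : x * x = 1 := by
  obtain ⟨a, b, c, rfl⟩ := hx
  exact E.el_sq a b c

theorem card_Rs : Nat.card E.Rs = 8 := by
  have e : (ZMod 2 × ZMod 2 × ZMod 2) ≃ E.Rs :=
    Equiv.ofBijective (fun x => ⟨el r s l x.1 x.2.1 x.2.2, x.1, x.2.1, x.2.2, rfl⟩) (by
      constructor
      · rintro ⟨a, b, c⟩ ⟨a', b', c'⟩ h
        obtain ⟨h1, h2, h3⟩ := E.el_inj (congrArg Subtype.val h)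
        simp only at h1 h2 h3
        rw [h1, h2, h3]
      · rintro ⟨_, a, b, c, rfl⟩
        exact ⟨(a, b, c), rfl⟩)
  rw [← Nat.card_congr e, Nat.card_prod, Nat.card_prod, Nat.card_zmod]

theorem conj_Rs {g : G} (h1 : g * r * g⁻¹ ∈ E.Rs) (h2 : g * s * g⁻¹ ∈ E.Rs) (h3 : g * (l * s * l⁻¹) * g⁻¹ ∈ E.Rs)
    {x : G} (hx : x ∈ E.Rs) : g * x * g⁻¹ ∈ E.Rs := by
  obtain ⟨a, b, c, rfl⟩ := hx
  have e : g * el r s l a b c * g⁻¹ = pw (g * r * g⁻¹) a * pw (g * s * g⁻¹) b * pw (g * (l * s * l⁻¹) * g⁻¹) c := by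
    unfold el
    rw [← conj_pw g r a, ← conj_pw g s b, ← conj_pw g (l * s * l⁻¹) c]
    group
  rw [e]
  exact mul_mem (mul_mem (pw_mem h1 a) (pw_mem h2 b)) (pw_mem h3 c)

theorem Rs_le_Q : E.Rs ≤ Qp r := by
  rintro _ ⟨a, b, c, rfl⟩
  exact mul_mem (mul_mem (pw_mem E.rQ a) (pw_mem E.sQ b)) (pw_mem E.eQ c)

theorem Rs_le_Qs : E.Rs ≤ Qp s := by
  rintro _ ⟨a, b, c, rfl⟩
  exact mul_mem (mul_mem (pw_mem ((E.A.Q_f s E.s_Δ r E.rU).2 E.sr) a)
    (pw_mem ((E.A.Q_f s E.s_Δ s E.sU).2 (E.A.f_self s E.sU)) b)) (pw_mem E.e_Qs c)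

/-! ### the normaliser of `R*` -/

/-- an element of `L` moves `s` into `s ⟨r⟩`, `e ⟨r⟩`, `e s ⟨r⟩` -/
theorem L_s {g : G} (hg : g ∈ Lp U r) : g * s * g⁻¹ ∈ E.Rs := by
  have hgC := E.A.L_le E.r_Δ hg
  rcases E.h3 r E.r_Δ g hgC with h | h | h
  · obtain ⟨c, hc⟩ := E.rho_eq hg (one_mem _) (by rw [h]; group) E.sU E.sQ
    rw [hc]
    have e3 : (1 : G) * s * 1⁻¹ = s := by group
    rw [e3]
    exact mul_mem E.s_Rs (pw_mem E.r_Rs c)
  · obtain ⟨c, hc⟩ := E.rho_eq hg E.l_L (by rw [h, E.lz]) E.sU E.sQ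
    rw [hc]
    exact mul_mem E.e_Rs (pw_mem E.r_Rs c)
  · obtain ⟨w, hw, hw1⟩ := E.A.exists_f1 E.r_Δ
    have hwL := E.A.U_le_L (r := r) hw
    have e1 : g * z * g⁻¹ = w * l * z * (w * l)⁻¹ := by
      rw [h, ← E.w_t hw hw1, ← E.lz]; group
    obtain ⟨c, hc⟩ := E.rho_eq hg (mul_mem hwL E.l_L) e1 E.sU E.sQ
    obtain ⟨c', hc'⟩ := E.conj_w hw hw1
    have e2 : w * l * s * (w * l)⁻¹ = w * (l * s * l⁻¹) * w⁻¹ := by group
    rw [hc, e2, hc']
    exact mul_mem (mul_mem (mul_mem E.e_Rs E.s_Rs) (pw_mem E.r_Rs c')) (pw_mem E.r_Rs c)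

theorem L_norm_Rs : Lp U r ≤ normalizer (E.Rs : Set G) := by
  refine norm_of fun g hg x hx => E.conj_Rs ?_ (E.L_s hg) ?_ hx
  · rw [mem_Cp.1 (E.A.L_le E.r_Δ hg), mul_inv_cancel_right]
    exact E.r_Rs
  · have e : g * (l * s * l⁻¹) * g⁻¹ = g * l * s * (g * l)⁻¹ := by group
    rw [e]
    exact E.L_s (mul_mem hg E.l_L)

theorem Qs_norm_Rs : Qp s ≤ normalizer (E.Rs : Set G) := by
  refine norm_of fun q hq x hx => ?_
  rcases E.A.Q_comm s E.s_Δ q hq x (E.Rs_le_Qs hx) with h | h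
  · rw [h, mul_inv_cancel_right]
    exact hx
  · rw [h]
    have e : s * (x * q) * q⁻¹ = s * x := by group
    rw [e]
    exact mul_mem E.s_Rs hx

/-- `C(R*) ≤ K_r` -/
theorem cen_K {x : G} (hx : x ∈ centralizer (E.Rs : Set G)) : x ∈ Kp z r := by
  have h : ∀ y ∈ E.Rs, x * y = y * x := fun y hy => (mem_centralizer_iff.1 hx y hy).symm
  have hr := h r E.r_Rs
  have hxC : x ∈ Cp r := mem_Cp.2 hr
  refine (E.A.mem_K E.h3 E.r_Δ).2 ⟨hr, E.cen_z hxC (h s E.s_Rs), ?_⟩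
  have h1 : l⁻¹ * x * l ∈ Cp r := by
    have := mul_mem (mul_mem (inv_mem E.lC) hxC) E.lC
    exact this
  have h2 : l⁻¹ * x * l * s = s * (l⁻¹ * x * l) := by
    have h3 := h _ E.e_Rs
    calc l⁻¹ * x * l * s = l⁻¹ * (x * (l * s * l⁻¹)) * l := by group
      _ = l⁻¹ * (l * s * l⁻¹ * x) * l := by rw [h3]
      _ = s * (l⁻¹ * x * l) := by group
  have h3 := E.cen_z h1 h2
  rw [← E.lz]
  calc x * (l * z * l⁻¹) = l * (l⁻¹ * x * l * z) * l⁻¹ := by group
    _ = l * (z * (l⁻¹ * x * l)) * l⁻¹ := by rw [h3]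
    _ = l * z * l⁻¹ * x := by group

/-- `V = ⟨r, s⟩` -/
def Vs : Subgroup G := four r s E.rr E.ss E.rs_comm

theorem mem_Vs {x : G} : x ∈ E.Vs ↔ x = 1 ∨ x = r ∨ x = s ∨ x = r * s := Iff.rfl

theorem Vs_le : E.Vs ≤ E.Rs := by
  intro x hx
  rcases E.mem_Vs.1 hx with rfl | rfl | rfl | rfl
  · exact one_mem _
  · exact E.r_Rs
  · exact E.s_Rs
  · exact mul_mem E.r_Rs E.s_Rs

theorem Vs_le_U : E.Vs ≤ U := by
  intro x hx
  rcases E.mem_Vs.1 hx with rfl | rfl | rfl | rfl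
  · exact one_mem _
  · exact E.rU
  · exact E.sU
  · exact mul_mem E.rU E.sU

/-- **the adjustment** -/
theorem adjust {x : G} (hx : x ∈ normalizer (E.Rs : Set G)) (hr : x * r = r * x)
    (hs : x * s * x⁻¹ = s ∨ x * s * x⁻¹ = s * r) : ∃ y ∈ Qp r ⊔ U, y * x ∈ centralizer (E.Rs : Set G) := by
  have A := E.A
  -- reduce to `e^x ∈ e V`, then `e^x ∈ e ⟨r⟩`
  have hQ : Qp r ≤ Qp r ⊔ U := le_sup_left
  have hU : U ≤ Qp r ⊔ U := le_sup_right
  have hsU := E.sU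
  have hxr : x * r * x⁻¹ = r := by rw [hr, mul_inv_cancel_right]
  have hsr : ∀ k : ZMod 2, s * pw r k = pw r k * s := fun k => A.U_comm s hsU _ (pw_mem E.rU k)
  have hpr : ∀ g : G, g * r * g⁻¹ = r → ∀ k, g * pw r k * g⁻¹ = pw r k := fun g hg k => by rw [conj_pw, hg]
  obtain ⟨d, hd⟩ : ∃ d : ZMod 2, x * s * x⁻¹ = s * pw r d := by
    rcases hs with h | h
    · exact ⟨0, by rw [pw_zero, mul_one, h]⟩
    · exact ⟨1, by rw [pw_one, h]⟩
  obtain ⟨a, b, c, he⟩ := E.mem_Rs.1 (conj_norm hx E.e_Rs)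
  have hc : c = 1 := by
    rcases z2 c with h | h
    · exfalso
      have h1 : x * (l * s * l⁻¹) * x⁻¹ ∈ E.Vs := by
        rw [he, h]
        unfold el
        rw [pw_zero, mul_one]
        exact mul_mem (pw_mem (E.mem_Vs.2 (Or.inr (Or.inl rfl))) a)
          (pw_mem (E.mem_Vs.2 (Or.inr (Or.inr (Or.inl rfl)))) b)
      -- `x` normalises `V`
      have h2 : ∀ y ∈ E.Vs, x * y * x⁻¹ ∈ E.Vs := by
        intro y hy
        have rV : r ∈ E.Vs := E.mem_Vs.2 (Or.inr (Or.inl rfl))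
        have sV : s ∈ E.Vs := E.mem_Vs.2 (Or.inr (Or.inr (Or.inl rfl)))
        have h3 : x * s * x⁻¹ ∈ E.Vs := by rw [hd]; exact mul_mem sV (pw_mem rV d)
        rcases E.mem_Vs.1 hy with rfl | rfl | rfl | rfl
        · rw [mul_one, mul_inv_cancel]; exact one_mem _
        · rw [hxr]; exact rV
        · exact h3
        · have : x * (r * s) * x⁻¹ = (x * r * x⁻¹) * (x * s * x⁻¹) := by group
          rw [this, hxr]
          exact mul_mem rV h3
      have h3 : x⁻¹ * (x * (l * s * l⁻¹) * x⁻¹) * x ∈ E.Vs := by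
        have h4 : cj x E.Vs = E.Vs := by
          have hfin : Finite E.Vs := by
            refine Set.Finite.subset (s := {1, r, s, r * s}) (Set.toFinite _) ?_
            intro y hy
            exact E.mem_Vs.1 hy
          apply SetLike.coe_injective
          apply Set.eq_of_subset_of_ncard_le
          · exact cj_le_iff.2 h2
          · exact le_of_eq (card_cj x E.Vs).symm
          · exact hfin
        rw [← h4] at h1
        exact mem_cj.1 h1
      have e4 : x⁻¹ * (x * (l * s * l⁻¹) * x⁻¹) * x = l * s * l⁻¹ := by group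
      rw [e4] at h3
      exact E.e_notU (E.Vs_le_U h3)
    · exact h
  -- step 1
  obtain ⟨y₁, hy₁, d₁, a₁, hr₁, hs₁, he₁⟩ : ∃ y ∈ Qp r ⊔ U, ∃ d' a' : ZMod 2, y * x * r * (y * x)⁻¹ = r ∧
      y * x * s * (y * x)⁻¹ = s * pw r d' ∧ y * x * (l * s * l⁻¹) * (y * x)⁻¹ = l * s * l⁻¹ * pw r a' := by
    rcases z2 b with h | h
    · refine ⟨1, one_mem _, d, a, by rw [one_mul]; exact hxr, by rw [one_mul]; exact hd, ?_⟩
      rw [one_mul, he, hc, h]
      unfold el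
      rw [pw_zero, mul_one, pw_one]
      exact A.pw_r_comm E.r_Δ E.eQ a
    · obtain ⟨w, hw, hw1⟩ := A.exists_f1 E.r_Δ
      obtain ⟨k, hk⟩ := E.conj_w hw hw1
      have hwr : w * r * w⁻¹ = r := by rw [A.U_comm w hw r E.rU, mul_inv_cancel_right]
      have hws : w * s * w⁻¹ = s := by rw [A.U_comm w hw s hsU, mul_inv_cancel_right]
      refine ⟨w, hU hw, d, a + k, ?_, ?_, ?_⟩
      · calc w * x * r * (w * x)⁻¹ = w * (x * r * x⁻¹) * w⁻¹ := by group
          _ = r := by rw [hxr, hwr]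
      · calc w * x * s * (w * x)⁻¹ = w * (x * s * x⁻¹) * w⁻¹ := by group
          _ = (w * s * w⁻¹) * (w * pw r d * w⁻¹) := by rw [hd]; group
          _ = s * pw r d := by rw [hws, hpr w hwr]
      · have e1 : w * x * (l * s * l⁻¹) * (w * x)⁻¹ = w * (x * (l * s * l⁻¹) * x⁻¹) * w⁻¹ := by group
        rw [e1, he, hc, h]
        unfold el
        rw [pw_one, pw_one]
        have e2 : w * (pw r a * s * (l * s * l⁻¹)) * w⁻¹ = (w * pw r a * w⁻¹) * (w * s * w⁻¹) *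
            (w * (l * s * l⁻¹) * w⁻¹) := by group
        rw [e2, hpr w hwr, hws, hk]
        have h1 := E.s_e
        have h2 := A.pw_r_comm E.r_Δ E.eQ a
        have h3 := E.ss
        rw [pw_add E.rr]
        obtain ⟨e, hed⟩ : ∃ e, e = l * s * l⁻¹ := ⟨_, rfl⟩
        rw [← hed] at h1 h2 ⊢
        calc pw r a * s * (e * s * pw r k) = pw r a * (s * e) * s * pw r k := by group
          _ = pw r a * (e * s) * s * pw r k := by rw [h1]
          _ = (pw r a * e) * (s * s) * pw r k := by group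
          _ = e * (pw r a * pw r k) := by rw [h2, h3]; group
  -- step 2
  obtain ⟨v, hv, hvQ, hv1⟩ := E.exists_v
  have k1 : v * (l * s * l⁻¹) * v⁻¹ = l * s * l⁻¹ * r := by
    rw [E.conjQ hvQ E.eQ, E.cm_e hv hvQ, hv1, pw_one]
  have k2 : v * s * v⁻¹ = s := by rw [A.U_comm v hv s hsU, mul_inv_cancel_right]
  have k3 : v * r * v⁻¹ = r := by rw [A.U_comm v hv r E.rU, mul_inv_cancel_right]
  have hv'Q : l * v * l⁻¹ ∈ Qp r := Q_normal E.lC hvQ
  obtain ⟨v', hv'⟩ : ∃ v', v' = l * v * l⁻¹ := ⟨_, rfl⟩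
  have k4 : v' * s * v'⁻¹ = s * r := by
    rw [hv', E.conjQ hv'Q E.sQ, E.cm_ls hv hvQ, hv1, pw_one]
  have k5 : v' * (l * s * l⁻¹) * v'⁻¹ = l * s * l⁻¹ := by
    rw [hv', A.cj_comm l (conj_mem_cj hv) (conj_mem_cj hsU), mul_inv_cancel_right]
  have k6 : v' * r * v'⁻¹ = r := by
    rw [hv', ← A.r_comm E.r_Δ hv'Q, mul_inv_cancel_right]
  rw [← hv'] at hv'Q
  have hrr := E.rr
  -- the powers
  have m1 : pw v a₁ ∈ Qp r ⊔ U := pw_mem (hU hv) _
  have m2 : pw v' d₁ ∈ Qp r ⊔ U := pw_mem (hQ hv'Q) _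
  refine ⟨pw v a₁ * pw v' d₁ * y₁, mul_mem (mul_mem m1 m2) hy₁, ?_⟩
  obtain ⟨x₁, hx₁⟩ : ∃ x₁, x₁ = y₁ * x := ⟨_, rfl⟩
  rw [← hx₁] at hr₁ hs₁ he₁
  have e0 : pw v a₁ * pw v' d₁ * y₁ * x = pw v a₁ * pw v' d₁ * x₁ := by rw [hx₁]; group
  rw [e0]
  -- `g = v^a v'^d x₁` fixes `r, s, e`
  have pv : ∀ y : G, v * y * v⁻¹ = y → ∀ k, pw v k * y * (pw v k)⁻¹ = y := by
    intro y hy k
    rcases z2 k with h | h
    · rw [h, pw_zero]; group
    · rw [h, pw_one, hy]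
  have pv' : ∀ y : G, v' * y * v'⁻¹ = y → ∀ k, pw v' k * y * (pw v' k)⁻¹ = y := by
    intro y hy k
    rcases z2 k with h | h
    · rw [h, pw_zero]; group
    · rw [h, pw_one, hy]
  have q1 : pw v a₁ * pw v' d₁ * x₁ * r * (pw v a₁ * pw v' d₁ * x₁)⁻¹ = r := by
    calc pw v a₁ * pw v' d₁ * x₁ * r * (pw v a₁ * pw v' d₁ * x₁)⁻¹
        = pw v a₁ * (pw v' d₁ * (x₁ * r * x₁⁻¹) * (pw v' d₁)⁻¹) * (pw v a₁)⁻¹ := by group
      _ = r := by rw [hr₁, pv' r k6, pv r k3]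
  have q2 : pw v a₁ * pw v' d₁ * x₁ * s * (pw v a₁ * pw v' d₁ * x₁)⁻¹ = s := by
    have h1 : pw v' d₁ * (s * pw r d₁) * (pw v' d₁)⁻¹ = s := by
      rcases z2 d₁ with h | h
      · rw [h, pw_zero, pw_zero]; group
      · rw [h, pw_one, pw_one]
        calc v' * (s * r) * v'⁻¹ = (v' * s * v'⁻¹) * (v' * r * v'⁻¹) := by group
          _ = s * (r * r) := by rw [k4, k6]; group
          _ = s := by rw [hrr, mul_one]
    calc pw v a₁ * pw v' d₁ * x₁ * s * (pw v a₁ * pw v' d₁ * x₁)⁻¹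
        = pw v a₁ * (pw v' d₁ * (x₁ * s * x₁⁻¹) * (pw v' d₁)⁻¹) * (pw v a₁)⁻¹ := by group
      _ = s := by rw [hs₁, h1, pv s k2]
  have q3 : pw v a₁ * pw v' d₁ * x₁ * (l * s * l⁻¹) * (pw v a₁ * pw v' d₁ * x₁)⁻¹ = l * s * l⁻¹ := by
    have h0 : pw v' d₁ * (l * s * l⁻¹ * pw r a₁) * (pw v' d₁)⁻¹ = l * s * l⁻¹ * pw r a₁ := by
      refine pv' _ ?_ d₁
      calc v' * (l * s * l⁻¹ * pw r a₁) * v'⁻¹ = (v' * (l * s * l⁻¹) * v'⁻¹) * (v' * pw r a₁ * v'⁻¹) := by group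
        _ = _ := by rw [k5, hpr v' k6]
    have h1 : pw v a₁ * (l * s * l⁻¹ * pw r a₁) * (pw v a₁)⁻¹ = l * s * l⁻¹ := by
      rcases z2 a₁ with h | h
      · rw [h, pw_zero, pw_zero]; group
      · rw [h, pw_one, pw_one]
        calc v * (l * s * l⁻¹ * r) * v⁻¹ = (v * (l * s * l⁻¹) * v⁻¹) * (v * r * v⁻¹) := by group
          _ = l * s * l⁻¹ * (r * r) := by rw [k1, k3]; group
          _ = l * s * l⁻¹ := by rw [hrr, mul_one]
    calc pw v a₁ * pw v' d₁ * x₁ * (l * s * l⁻¹) * (pw v a₁ * pw v' d₁ * x₁)⁻¹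
        = pw v a₁ * (pw v' d₁ * (x₁ * (l * s * l⁻¹) * x₁⁻¹) * (pw v' d₁)⁻¹) * (pw v a₁)⁻¹ := by group
      _ = l * s * l⁻¹ := by rw [he₁, h0, h1]
  rw [mem_centralizer_iff]
  rintro _ ⟨a', b', c', rfl⟩
  have key : pw v a₁ * pw v' d₁ * x₁ * el r s l a' b' c' * (pw v a₁ * pw v' d₁ * x₁)⁻¹ = el r s l a' b' c' := by
    obtain ⟨g, hg⟩ : ∃ g, g = pw v a₁ * pw v' d₁ * x₁ := ⟨_, rfl⟩
    rw [← hg] at q1 q2 q3 ⊢
    have e : g * el r s l a' b' c' * g⁻¹ =
        pw (g * r * g⁻¹) a' * pw (g * s * g⁻¹) b' * pw (g * (l * s * l⁻¹) * g⁻¹) c' := by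
      unfold el
      rw [← conj_pw g r a', ← conj_pw g s b', ← conj_pw g (l * s * l⁻¹) c']
      group
    rw [e, q1, q2, q3]
    rfl
  exact (mul_inv_eq_iff_eq_mul.1 key).symm

end ED

/-! ### The Sylow group -/

/-- the residue `(0, 1)` with the Sylow group `S` -/
structure ES (z : G) (M U : Subgroup G) (Δ : Set G) (f : G → G → ZMod 2) (t : G → G) (r s l : G) (S : Subgroup G) :
    Prop extends ED z M U Δ f t r s l where
  S_r : ∀ x ∈ S, x * r = r * x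
  S_s : ∀ x ∈ S, x * s * x⁻¹ = s ∨ x * s * x⁻¹ = s * r
  Q_S : Qp r ≤ S
  U_S : U ≤ S
  Qs_S : ∀ q ∈ Qp s, q * r = r * q → q ∈ S
  self : ∀ x ∈ M, (∀ b ∈ S, x⁻¹ * b * x ∈ S) → x ∈ S

namespace ES

variable {r s l : G} {S : Subgroup G} (E : ES z M U Δ f t r s l S)

include E

theorem cancel (x : G) (c : ZMod 2) : x * pw r c * pw r c = x := by
  rw [mul_assoc x, pw_sq E.rr, mul_one]

theorem QU_S : Qp r ⊔ U ≤ S := sup_le E.Q_S E.U_S

theorem QU_L : Qp r ⊔ U ≤ Lp U r := sup_le (E.A.Q_le_L r) E.A.U_le_L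

theorem S_norm_Rs : S ≤ normalizer (E.Rs : Set G) := by
  refine norm_of fun x hx y hy => E.conj_Rs ?_ ?_ ?_ hy
  · rw [E.S_r x hx, mul_inv_cancel_right]
    exact E.r_Rs
  · rcases E.S_s x hx with h | h <;> rw [h]
    · exact E.s_Rs
    · exact mul_mem E.s_Rs E.r_Rs
  · have hxC : x ∈ Cp r := mem_Cp.2 (E.S_r x hx)
    have hg : x * l * x⁻¹ ∈ Lp U r := conj_norm (E.O.L_norm hxC) E.l_L
    have h1 := E.L_s hg
    have e : x * (l * s * l⁻¹) * x⁻¹ = (x * l * x⁻¹) * (x * s * x⁻¹) * (x * l * x⁻¹)⁻¹ := by group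
    rw [e]
    rcases E.S_s x hx with h | h <;> rw [h]
    · exact h1
    · have hgC := E.A.L_le E.r_Δ hg
      have e2 : (x * l * x⁻¹) * (s * r) * (x * l * x⁻¹)⁻¹ =
          ((x * l * x⁻¹) * s * (x * l * x⁻¹)⁻¹) * ((x * l * x⁻¹) * r * (x * l * x⁻¹)⁻¹) := by group
      rw [e2, mem_Cp.1 hgC, mul_inv_cancel_right]
      exact mul_mem h1 E.r_Rs

/-- `H = ⟨L, Q_s, S⟩` -/
def _root_.Cfsg.Agent.Omega.HTwo.Seven.Hh (U : Subgroup G) (r s : G) (S : Subgroup G) : Subgroup G :=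
  Lp U r ⊔ Qp s ⊔ S

theorem L_H : Lp U r ≤ Hh U r s S := le_sup_left.trans le_sup_left

theorem Qs_H : Qp s ≤ Hh U r s S := le_sup_right.trans le_sup_left

theorem S_H : S ≤ Hh U r s S := le_sup_right

theorem H_norm_Rs : Hh U r s S ≤ normalizer (E.Rs : Set G) :=
  sup_le (sup_le E.L_norm_Rs E.Qs_norm_Rs) E.S_norm_Rs

theorem H_norm_C : Hh U r s S ≤ normalizer (centralizer (E.Rs : Set G) : Set G) :=
  E.H_norm_Rs.trans (normalizer_le_normalizer_centralizer _)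

/-- `T = S ∩ C(R*)` is normal in `H` -/
theorem H_norm_T : Hh U r s S ≤ normalizer ((S ⊓ centralizer (E.Rs : Set G) : Subgroup G) : Set G) := by
  have A := E.A
  refine sup_le (sup_le ?_ ?_) ?_
  · refine norm_of fun g hg x hx => ?_
    have hxK := E.cen_K hx.2
    have h1 : g * x * g⁻¹ * x⁻¹ ∈ Qp r := by
      have := A.KL E.r_Δ hxK hg
      have e : g * x * g⁻¹ * x⁻¹ = (x * g * x⁻¹ * g⁻¹)⁻¹ := by group
      rw [e]
      exact inv_mem this
    refine mem_inf.2 ⟨?_, conj_norm (E.H_norm_C (E.L_H hg)) hx.2⟩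
    have e : g * x * g⁻¹ = g * x * g⁻¹ * x⁻¹ * x := by group
    rw [e]
    exact mul_mem (E.Q_S h1) hx.1
  · refine norm_of fun q hq x hx => ?_
    have hC : ∀ y ∈ E.Rs, x * y = y * x := fun y hy => (mem_centralizer_iff.1 hx.2 y hy).symm
    have h1 : q * x * q⁻¹ * x⁻¹ ∈ Qp s := by
      have hxs : x ∈ Cp s := mem_Cp.2 (hC s E.s_Rs)
      have e : q * x * q⁻¹ * x⁻¹ = q * (x * q⁻¹ * x⁻¹) := by group
      rw [e]
      exact mul_mem hq (Q_normal hxs (inv_mem hq))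
    have h2 : q * x * q⁻¹ ∈ centralizer (E.Rs : Set G) := conj_norm (E.H_norm_C (E.Qs_H hq)) hx.2
    have h3 : q * x * q⁻¹ * x⁻¹ ∈ centralizer (E.Rs : Set G) :=
      (centralizer (E.Rs : Set G)).mul_mem h2 ((centralizer (E.Rs : Set G)).inv_mem hx.2)
    refine mem_inf.2 ⟨?_, h2⟩
    have e : q * x * q⁻¹ = q * x * q⁻¹ * x⁻¹ * x := by group
    rw [e]
    exact mul_mem (E.Qs_S _ h1 ((mem_centralizer_iff.1 h3) r E.r_Rs).symm) hx.1
  · refine norm_of fun x hx y hy => ?_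
    exact mem_inf.2 ⟨mul_mem (mul_mem hx hy.1) (inv_mem hx), conj_norm (E.H_norm_C (E.S_H hx)) hy.2⟩

/-- **`C_H(R*) ≤ S`** -/
theorem cen_S {c : G} (hc : c ∈ Hh U r s S) (hc' : c ∈ centralizer (E.Rs : Set G)) : c ∈ S := by
  have A := E.A
  have hcK := E.cen_K hc'
  refine E.self c (A.CN_le_M E.r_Δ hcK) fun b hb => ?_
  obtain ⟨y, hy, h1⟩ := E.adjust (E.S_norm_Rs hb) (E.S_r b hb) (E.S_s b hb)
  have h2 : y * b ∈ S ⊓ centralizer (E.Rs : Set G) := mem_inf.2 ⟨mul_mem (E.QU_S hy) hb, h1⟩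
  have h3 := conj_norm (E.H_norm_T (inv_mem hc)) h2
  rw [inv_inv] at h3
  have hcK' : c⁻¹ ∈ Kp z r := Subgroup.inv_mem _ hcK
  have h4 := A.KL E.r_Δ hcK' (E.QU_L (inv_mem hy))
  have e : c⁻¹ * b * c = (c⁻¹ * y⁻¹ * c⁻¹⁻¹ * y⁻¹⁻¹) * y⁻¹ * (c⁻¹ * (y * b) * c) := by group
  rw [e]
  exact mul_mem (mul_mem (E.Q_S h4) (inv_mem (E.QU_S hy))) h3.1

/-- **the stabiliser of `r` and `V` in `H` is `S`** -/
theorem stab {x : G} (hx : x ∈ Hh U r s S) (hr : x * r = r * x) (hs : x * s * x⁻¹ = s ∨ x * s * x⁻¹ = s * r) :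
    x ∈ S := by
  obtain ⟨y, hy, h1⟩ := E.adjust (E.H_norm_Rs hx) hr hs
  have h2 := E.cen_S (mul_mem (E.S_H (E.QU_S hy)) hx) h1
  have e : x = y⁻¹ * (y * x) := by group
  rw [e]
  exact mul_mem (inv_mem (E.QU_S hy)) h2

/-- `L` is transitive on the `R* / ⟨r⟩`-points -/
theorem L_trans {x : G} (hx : x ∈ E.Rs) (hx1 : x ≠ 1) (hxr : x ≠ r) :
    ∃ g ∈ Lp U r, ∃ c : ZMod 2, g * s * g⁻¹ = x * pw r c := by
  obtain ⟨a, b, c, rfl⟩ := hx
  have hrr := E.rr
  have A := E.A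
  rcases z2 b with hb | hb <;> rcases z2 c with hc | hc
  · exfalso
    rw [hb, hc] at hx1 hxr
    unfold ED.el at hx1 hxr
    rw [pw_zero, pw_zero, mul_one, mul_one] at hx1 hxr
    rcases z2 a with h | h
    · rw [h, pw_zero] at hx1; exact hx1 rfl
    · rw [h, pw_one] at hxr; exact hxr rfl
  · -- `e`
    refine ⟨l, E.l_L, a, ?_⟩
    rw [hb, hc]
    unfold ED.el
    rw [pw_zero, mul_one, pw_one, A.pw_r_comm E.r_Δ E.eQ, E.cancel]
  · refine ⟨1, one_mem _, a, ?_⟩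
    rw [hb, hc]
    unfold ED.el
    rw [pw_zero, mul_one, pw_one, A.pw_r_comm E.r_Δ E.sQ, E.cancel]
    group
  · obtain ⟨w, hw, hw1⟩ := A.exists_f1 E.r_Δ
    obtain ⟨k, hk⟩ := E.conj_w hw hw1
    refine ⟨w * l, mul_mem (A.U_le_L hw) E.l_L, a + k, ?_⟩
    have e2 : w * l * s * (w * l)⁻¹ = w * (l * s * l⁻¹) * w⁻¹ := by group
    rw [e2, hk, hb, hc]
    unfold ED.el
    rw [pw_one, pw_one, ← E.s_e, mul_assoc (pw r a), A.pw_r_comm E.r_Δ (mul_mem E.sQ E.eQ), pw_add hrr,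
      mul_assoc (s * (l * s * l⁻¹)), ← mul_assoc (pw r a), pw_sq hrr, one_mul]

/-- **the stabiliser of `r` in `H` is `L S`** -/
theorem stab_r {x : G} (hx : x ∈ Hh U r s S) (hr : x * r = r * x) : ∃ g ∈ Lp U r, ∃ b ∈ S, x = g * b := by
  have h1 : x * s * x⁻¹ ∈ E.Rs := conj_norm (E.H_norm_Rs hx) E.s_Rs
  obtain ⟨g, hg, c, hc⟩ := E.L_trans h1 (fun h => E.s_ne (conj_eq_one_iff.1 h)) (fun h => by
    apply E.ne
    have e : s = x⁻¹ * (x * s * x⁻¹) * x := by group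
    rw [e, h, mul_assoc, ← hr]
    group)
  have hgC := E.A.L_le E.r_Δ hg
  have hgr := mem_Cp.1 hgC
  refine ⟨g, hg, g⁻¹ * x, ?_, by group⟩
  refine E.stab (mul_mem (inv_mem (E.L_H hg)) hx) ?_ ?_
  · calc g⁻¹ * x * r = g⁻¹ * (r * x) := by rw [mul_assoc, hr]
      _ = g⁻¹ * (g * r * g⁻¹) * x := by rw [hgr]; group
      _ = r * (g⁻¹ * x) := by group
  · have h2 : x * s * x⁻¹ = g * s * g⁻¹ * pw r c := by
      rw [hc, E.cancel]
    have h3 := E.conj_pw_r (Subgroup.inv_mem _ hgC) c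
    rw [inv_inv] at h3
    have h4 : g⁻¹ * x * s * (g⁻¹ * x)⁻¹ = s * pw r c := by
      calc g⁻¹ * x * s * (g⁻¹ * x)⁻¹ = g⁻¹ * (x * s * x⁻¹) * g := by group
        _ = g⁻¹ * (g * s * g⁻¹ * pw r c) * g := by rw [h2]
        _ = s * (g⁻¹ * pw r c * g) := by group
        _ = s * pw r c := by rw [h3]
    rw [h4]
    rcases z2 c with h | h
    · left; rw [h, pw_zero, mul_one]
    · right; rw [h, pw_one]

/-- `Q_r`, `Q_s` are transitive on the points of `V` -/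
theorem Q_trans {x : G} (hx : x = r ∨ x = s ∨ x = r * s) :
    ∃ g ∈ Qp s ⊔ S, g * r * g⁻¹ = x ∧ cj g E.Vs = E.Vs := by
  have A := E.A
  obtain ⟨q, hq, hq1⟩ := A.Q_mv s E.s_Δ r E.r_Δ E.ne E.sr
  obtain ⟨p, hp, hp1⟩ := A.Q_mv r E.r_Δ s E.s_Δ (Ne.symm E.ne) E.rs
  have hqs : q * s * q⁻¹ = s := by rw [mem_Cp.1 (Q_le s hq), mul_inv_cancel_right]
  have hpr : p * r * p⁻¹ = r := by rw [mem_Cp.1 (Q_le r hp), mul_inv_cancel_right]
  have hfin : Finite E.Vs := by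
    refine Set.Finite.subset (s := {1, r, s, r * s}) (Set.toFinite _) ?_
    intro y hy
    exact E.mem_Vs.1 hy
  have key : ∀ g : G, g * r * g⁻¹ ∈ E.Vs → g * s * g⁻¹ ∈ E.Vs → cj g E.Vs = E.Vs := by
    intro g h1 h2
    apply SetLike.coe_injective
    apply Set.eq_of_subset_of_ncard_le
    · apply cj_le_iff.2
      intro y hy
      rcases E.mem_Vs.1 hy with rfl | rfl | rfl | rfl
      · rw [mul_one, mul_inv_cancel]; exact one_mem _
      · exact h1
      · exact h2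
      · have : g * (r * s) * g⁻¹ = (g * r * g⁻¹) * (g * s * g⁻¹) := by group
        rw [this]
        exact mul_mem h1 h2
    · exact le_of_eq (card_cj g E.Vs).symm
    · exact hfin
  have rV : r ∈ E.Vs := E.mem_Vs.2 (Or.inr (Or.inl rfl))
  have sV : s ∈ E.Vs := E.mem_Vs.2 (Or.inr (Or.inr (Or.inl rfl)))
  have kq : cj q E.Vs = E.Vs := key q (by rw [hq1]; exact mul_mem rV sV) (by rw [hqs]; exact sV)
  have kp : cj p E.Vs = E.Vs := key p (by rw [hpr]; exact rV) (by rw [hp1]; exact mul_mem sV rV)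
  rcases hx with rfl | rfl | rfl
  · exact ⟨1, one_mem _, by group, cj_one _⟩
  · refine ⟨p * q, mul_mem (mem_sup_right (E.Q_S hp)) (mem_sup_left hq), ?_, by rw [cj_mul, kq, kp]⟩
    calc p * q * r * (p * q)⁻¹ = p * (q * r * q⁻¹) * p⁻¹ := by group
      _ = (p * r * p⁻¹) * (p * x * p⁻¹) := by rw [hq1]; group
      _ = r * (x * r) := by rw [hpr, hp1]
      _ = r * (r * x) := by rw [E.rs_comm]
      _ = x := by rw [← mul_assoc, E.rr, one_mul]
  · exact ⟨q, mem_sup_left hq, hq1, kq⟩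

/-- **the stabiliser of `V` in `H` is `⟨Q_s, S⟩`** -/
theorem stab_V {x : G} (hx : x ∈ Hh U r s S) (hV : cj x E.Vs = E.Vs) : x ∈ Qp s ⊔ S := by
  have rV : r ∈ E.Vs := E.mem_Vs.2 (Or.inr (Or.inl rfl))
  have sV : s ∈ E.Vs := E.mem_Vs.2 (Or.inr (Or.inr (Or.inl rfl)))
  have h1 : x * r * x⁻¹ ∈ E.Vs := by
    rw [← hV]; exact conj_mem_cj rV
  have h2 : x * r * x⁻¹ ≠ 1 := fun h => E.r_ne (conj_eq_one_iff.1 h)
  obtain ⟨g, hg, hgr, hgV⟩ := E.Q_trans ((E.mem_Vs.1 h1).resolve_left h2)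
  have hgH : g ∈ Hh U r s S := sup_le E.Qs_H E.S_H hg
  have h3 : g⁻¹ * x ∈ S := by
    have hr' : g⁻¹ * x * r = r * (g⁻¹ * x) := by
      calc g⁻¹ * x * r = g⁻¹ * (x * r * x⁻¹) * x := by group
        _ = g⁻¹ * (g * r * g⁻¹) * x := by rw [hgr]
        _ = r * (g⁻¹ * x) := by group
    refine E.stab (mul_mem (inv_mem hgH) hx) hr' ?_
    have h4 : cj (g⁻¹ * x) E.Vs = E.Vs := by
      rw [cj_mul, hV, ← hgV, cj_inv_cj, hgV]
    have h5 : g⁻¹ * x * s * (g⁻¹ * x)⁻¹ ∈ E.Vs := by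
      rw [← h4]; exact conj_mem_cj sV
    obtain ⟨y, hy⟩ : ∃ y, y = g⁻¹ * x := ⟨_, rfl⟩
    rw [← hy] at h5 hr' ⊢
    rcases E.mem_Vs.1 h5 with h | h | h | h
    · exact absurd (conj_eq_one_iff.1 h) E.s_ne
    · exfalso
      apply E.ne
      have e : s = y⁻¹ * (y * s * y⁻¹) * y := by group
      rw [e, h, mul_assoc, ← hr']
      group
    · exact Or.inl h
    · right; rw [h, E.rs_comm]
  have e : x = g * (g⁻¹ * x) := by group
  rw [e]
  exact mul_mem hg (mem_sup_right h3)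

end ES

/-! ### The plane -/

section plane

open Cfsg.Agent.ParSys.Polar.Incid

/-- conjugation on the elements -/
def aH (H : Subgroup G) : ↥H →* Equiv.Perm G where
  toFun h := (MulAut.conj (h : G)).toEquiv
  map_one' := by ext x; simp
  map_mul' a b := by ext x; simp [mul_assoc]

theorem aH_apply {H : Subgroup G} (h : ↥H) (x : G) : aH H h x = (h : G) * x * (h : G)⁻¹ := rfl

/-- conjugation on the subgroups -/
def bH (H : Subgroup G) : ↥H →* Equiv.Perm (Subgroup G) where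
  toFun h := ⟨cj (h : G), cj (h : G)⁻¹, cj_inv_cj _, cj_cj_inv _⟩
  map_one' := by
    ext1 X
    exact cj_one X
  map_mul' a b := by
    ext1 X
    exact cj_mul (a : G) b X

theorem bH_apply {H : Subgroup G} (h : ↥H) (X : Subgroup G) : bH H h X = cj (h : G) X := rfl

theorem card_four {p q : G} (hp : p * p = 1) (hq : q * q = 1) (hc : p * q = q * p) (h1 : p ≠ 1) (h2 : q ≠ 1)
    (h3 : p ≠ q) : Nat.card (four p q hp hq hc) = 4 := by
  have hpq : p * q ≠ 1 := fun h => h3 (by rw [mul_eq_one_iff_eq_inv.1 h, inv_eq_of_mul_eq_one_left hq])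
  have key : (four p q hp hq hc : Set G) = {1, p, q, p * q} := by
    ext x; rfl
  have h4 : Nat.card (four p q hp hq hc) = Set.ncard ({1, p, q, p * q} : Set G) := by
    rw [← key]; rfl
  rw [h4, Set.ncard_insert_of_notMem, Set.ncard_insert_of_notMem, Set.ncard_pair]
  · intro h
    exact h1 (right_eq_mul.1 h)
  · simp only [Set.mem_insert_iff, Set.mem_singleton_iff, not_or]
    exact ⟨h3, fun h => h2 (left_eq_mul.1 h)⟩
  · simp only [Set.mem_insert_iff, Set.mem_singleton_iff, not_or]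
    exact ⟨Ne.symm h1, Ne.symm h2, Ne.symm hpq⟩

theorem eq_of_le_card {X Y : Subgroup G} [Finite Y] (h : X ≤ Y) (hc : Nat.card Y ≤ Nat.card X) : X = Y :=
  SetLike.coe_injective (Set.eq_of_subset_of_ncard_le h hc (Set.toFinite _))

namespace ES

variable {r s l : G} {S : Subgroup G} (E : ES z M U Δ f t r s l S)

include E

theorem card_Vs : Nat.card E.Vs = 4 := card_four E.rr E.ss E.rs_comm E.r_ne E.s_ne (Ne.symm E.ne)

variable [Finite G]

theorem cj_Vs {g : G} {X : Subgroup G} (hX : Nat.card X = 4) (h1 : g * r * g⁻¹ ∈ X) (h2 : g * s * g⁻¹ ∈ X) :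
    cj g E.Vs = X := by
  refine eq_of_le_card (cj_le_iff.2 ?_) (by rw [card_cj, E.card_Vs, hX])
  intro y hy
  rcases E.mem_Vs.1 hy with rfl | rfl | rfl | rfl
  · rw [mul_one, mul_inv_cancel]; exact one_mem _
  · exact h1
  · exact h2
  · have : g * (r * s) * g⁻¹ = (g * r * g⁻¹) * (g * s * g⁻¹) := by group
    rw [this]
    exact mul_mem h1 h2

variable {I : Type*} {P : I → Subgroup G} {i j : I}

/-- the geometry -/
theorem inc (hB : ∀ k, S ≤ P k) (hi : P i = Qp s ⊔ S) (hj : P j = Lp U r ⊔ S) :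
    Inc S P i j (Hh U r s S) (aH _) (bH _) {x | x ∈ E.Rs ∧ x ≠ 1} {X | X ≤ E.Rs ∧ Nat.card X = 4}
      (fun p X => p ∈ X) r E.Vs where
  le := hB
  iH := by rw [hi]; exact sup_le E.Qs_H E.S_H
  jH := by rw [hj]; exact sup_le E.L_H E.S_H
  p0 := ⟨E.r_Rs, E.r_ne⟩
  L0 := ⟨E.Vs_le, E.card_Vs⟩
  inc0 := E.mem_Vs.2 (Or.inr (Or.inl rfl))
  aPt h p hp := by
    rw [aH_apply]
    exact ⟨conj_norm (E.H_norm_Rs h.2) hp.1, fun h1 => hp.2 (conj_eq_one_iff.1 h1)⟩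
  bLn h X hX := by
    rw [bH_apply]
    exact ⟨cj_le_iff.2 fun x hx => conj_norm (E.H_norm_Rs h.2) (hX.1 hx), by rw [card_cj, hX.2]⟩
  inv h p _ X _ hpX := by
    rw [aH_apply, bH_apply]
    exact conj_mem_cj hpX
  memB h := by
    rw [aH_apply, bH_apply]
    have rV : r ∈ E.Vs := E.mem_Vs.2 (Or.inr (Or.inl rfl))
    have sV : s ∈ E.Vs := E.mem_Vs.2 (Or.inr (Or.inr (Or.inl rfl)))
    constructor
    · intro hS
      have h1 : (h : G) * r * (h : G)⁻¹ = r := by rw [E.S_r _ hS, mul_inv_cancel_right]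
      refine ⟨h1, E.cj_Vs E.card_Vs (by rw [h1]; exact rV) ?_⟩
      rcases E.S_s _ hS with h2 | h2 <;> rw [h2]
      · exact sV
      · exact mul_mem sV rV
    · rintro ⟨h1, h2⟩
      refine E.stab h.2 (mul_inv_eq_iff_eq_mul.1 h1) ?_
      have h3 : (h : G) * s * (h : G)⁻¹ ∈ E.Vs := by
        rw [← h2]
        exact conj_mem_cj sV
      rcases E.mem_Vs.1 h3 with h4 | h4 | h4 | h4
      · exact absurd (conj_eq_one_iff.1 h4) E.s_ne
      · exfalso
        apply E.ne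
        have h5 : (h : G) * s * (h : G)⁻¹ = (h : G) * r * (h : G)⁻¹ := by rw [h4, h1]
        exact mul_left_cancel (mul_right_cancel h5)
      · exact Or.inl h4
      · right; rw [h4, E.rs_comm]
  memi h := by
    rw [bH_apply, hi]
    constructor
    · intro hP
      have h1 : Qp s ⊔ S ≤ normalizer (E.Vs : Set G) := by
        have rV : r ∈ E.Vs := E.mem_Vs.2 (Or.inr (Or.inl rfl))
        have sV : s ∈ E.Vs := E.mem_Vs.2 (Or.inr (Or.inr (Or.inl rfl)))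
        refine sup_le ?_ ?_
        · intro q hq
          rw [← cj_eq_self_iff]
          have hqs : q * s * q⁻¹ = s := by rw [mem_Cp.1 (Q_le s hq), mul_inv_cancel_right]
          refine E.cj_Vs E.card_Vs ?_ (by rw [hqs]; exact sV)
          rcases E.A.Q_comm s E.s_Δ q hq r ((E.A.Q_f s E.s_Δ r E.rU).2 E.sr) with h2 | h2
          · rw [h2, mul_inv_cancel_right]; exact rV
          · rw [h2]
            have e : s * (r * q) * q⁻¹ = s * r := by group
            rw [e]; exact mul_mem sV rV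
        · intro x hx
          rw [← cj_eq_self_iff]
          have h2 : x * r * x⁻¹ = r := by rw [E.S_r _ hx, mul_inv_cancel_right]
          refine E.cj_Vs E.card_Vs (by rw [h2]; exact rV) ?_
          rcases E.S_s _ hx with h3 | h3 <;> rw [h3]
          · exact sV
          · exact mul_mem sV rV
      exact cj_eq_self_iff.2 (h1 hP)
    · intro h1
      exact E.stab_V h.2 h1
  memj h := by
    rw [aH_apply, hj]
    constructor
    · intro hP
      have h1 : Lp U r ⊔ S ≤ Cp r := sup_le (E.A.L_le E.r_Δ) fun x hx => mem_Cp.2 (E.S_r x hx)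
      rw [mem_Cp.1 (h1 hP), mul_inv_cancel_right]
    · intro h1
      obtain ⟨g, hg, b, hb, e⟩ := E.stab_r h.2 (mul_inv_eq_iff_eq_mul.1 h1)
      rw [e]
      exact mul_mem (mem_sup_left hg) (mem_sup_right hb)
  tri p hp hpV := by
    obtain ⟨g, hg, h1, h2⟩ := E.Q_trans ((E.mem_Vs.1 hpV).resolve_left hp.2)
    exact ⟨⟨g, sup_le E.Qs_H E.S_H hg⟩, h2, h1⟩
  trj X hX hr := by
    have h0 : ∃ x ∈ X, x ≠ 1 ∧ x ≠ r := by
      by_contra hcon
      push Not at hcon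
      have h1 : (X : Set G) ⊆ {1, r} := by
        intro x hx
        by_cases h2 : x = 1
        · exact Or.inl h2
        · exact Or.inr (hcon x hx h2)
      have h2 : Set.ncard (X : Set G) ≤ 2 := (Set.ncard_le_ncard h1 (Set.toFinite _)).trans ((Set.ncard_insert_le 1 {r}).trans (by rw [Set.ncard_singleton]))
      have h3 : Set.ncard (X : Set G) = 4 := hX.2
      omega
    obtain ⟨x, hx, hx1, hxr⟩ := h0
    obtain ⟨g, hg, c, hc⟩ := E.L_trans (hX.1 hx) hx1 hxr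
    have hgr : g * r * g⁻¹ = r := by rw [mem_Cp.1 (E.A.L_le E.r_Δ hg), mul_inv_cancel_right]
    refine ⟨⟨g, E.L_H hg⟩, hgr, ?_⟩
    rw [bH_apply]
    exact E.cj_Vs hX.2 (by rw [hgr]; exact hr) (by rw [hc]; exact mul_mem hx (pw_mem hr c))

/-- **the residue `(0, 1)`** -/
theorem rk (hB : ∀ k, S ≤ P k) (hi : P i = Qp s ⊔ S) (hj : P j = Lp U r ⊔ S) : Rk S P i j 3 ∧ Rk S P j i 3 := by
  have h := E.inc hB hi hj
  have key : ∀ p ∈ {x | x ∈ E.Rs ∧ x ≠ 1}, ∀ p' ∈ {x | x ∈ E.Rs ∧ x ≠ 1}, p ≠ p' →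
      ∃ Y : Subgroup G, Y ≤ E.Rs ∧ Nat.card Y = 4 ∧ p ∈ Y ∧ p' ∈ Y ∧
        ∀ X : Subgroup G, Nat.card X = 4 → p ∈ X → p' ∈ X → Y = X := by
    rintro p ⟨hp, hp1⟩ p' ⟨hp', hp1'⟩ hne
    have c4 := card_four (E.Rs_sq hp) (E.Rs_sq hp') (E.Rs_comm hp hp') hp1 hp1' hne
    have hle : ∀ X : Subgroup G, p ∈ X → p' ∈ X → four p p' (E.Rs_sq hp) (E.Rs_sq hp') (E.Rs_comm hp hp') ≤ X := by
      rintro X h1 h2 x (rfl | rfl | rfl | rfl)
      · exact one_mem _
      · exact h1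
      · exact h2
      · exact mul_mem h1 h2
    exact ⟨four p p' (E.Rs_sq hp) (E.Rs_sq hp') (E.Rs_comm hp hp'), hle _ hp hp', c4, Or.inr (Or.inl rfl),
      Or.inr (Or.inr (Or.inl rfl)), fun X hX h1 h2 => eq_of_le_card (hle X h1 h2) (by rw [c4, hX])⟩
  have P2 : ∀ p ∈ {x | x ∈ E.Rs ∧ x ≠ 1}, ∀ p' ∈ {x | x ∈ E.Rs ∧ x ≠ 1}, p ≠ p' →
      ∀ X ∈ {X : Subgroup G | X ≤ E.Rs ∧ Nat.card X = 4}, ∀ X' ∈ {X : Subgroup G | X ≤ E.Rs ∧ Nat.card X = 4},
      p ∈ X → p' ∈ X → p ∈ X' → p' ∈ X' → X = X' := by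
    intro p hp p' hp' hne X hX X' hX' h1 h2 h3 h4
    obtain ⟨Y, -, -, -, -, hY⟩ := key p hp p' hp' hne
    rw [← hY X hX.2 h1 h2, ← hY X' hX'.2 h3 h4]
  constructor
  · refine h.rk_three (fun p hp p' hp' hne => ?_) P2
    obtain ⟨Y, h1, h2, h3, h4, -⟩ := key p hp p' hp' hne
    exact ⟨Y, ⟨h1, h2⟩, h3, h4⟩
  · refine h.symm.rk_three (fun X hX X' hX' hne => ?_) (fun X hX X' hX' hne p hp p' hp' h1 h2 h3 h4 => ?_)
    · -- two lines meet
      by_contra hcon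
      push Not at hcon
      have hinj : Function.Injective (fun x : ↥X × ↥X' => (⟨(x.1 : G) * x.2, mul_mem (hX.1 x.1.2) (hX'.1 x.2.2)⟩ :
          ↥E.Rs)) := by
        rintro ⟨x, x'⟩ ⟨y, y'⟩ hxy
        have h1 : (x : G) * x' = y * y' := congrArg Subtype.val hxy
        have h2 : (y : G)⁻¹ * x = y' * (x' : G)⁻¹ := by
          calc (y : G)⁻¹ * x = (y : G)⁻¹ * (x * x') * (x' : G)⁻¹ := by group
            _ = (y : G)⁻¹ * (y * y') * (x' : G)⁻¹ := by rw [h1]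
            _ = y' * (x' : G)⁻¹ := by group
        have h3 : (y : G)⁻¹ * x = 1 := by
          by_contra hne1
          have hm : (y : G)⁻¹ * x ∈ X := mul_mem (inv_mem y.2) x.2
          have hm' : (y : G)⁻¹ * x ∈ X' := by rw [h2]; exact mul_mem y'.2 (inv_mem x'.2)
          exact hcon _ ⟨hX.1 hm, hne1⟩ hm hm'
        have h4 : (x : G) = y := by
          have := inv_mul_eq_one.1 h3
          exact this.symm
        have h5 : (x' : G) = y' := by
          rw [h3] at h2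
          exact (mul_inv_eq_one.1 h2.symm).symm
        exact Prod.ext (Subtype.ext h4) (Subtype.ext h5)
      have h1 := Nat.card_le_card_of_injective _ hinj
      rw [Nat.card_prod, hX.2, hX'.2, E.card_Rs] at h1
      omega
    · by_contra h5
      exact hne (P2 p hp p' hp' h5 X hX X' hX' h1 h3 h2 h4)

end ES

end plane

end Cfsg.Agent.Omega.HTwo.Seven

end
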